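import Cfsg.Agent.Lib.SporFischer.Radical
import Cfsg.Agent.Lib.ThreeTranspositions.Sylow

/-!
Consequences of the rank three property for a 3-transposition group with trivial solvable radical and
perfect derived group: the commuting members of one member form a single class of the group they generate,
and maximum commuting sets are doubly transitive.
-/

set_option autoImplicit false
set_option linter.style.haveILetI false

open Cfsg Cfsg.Agent.Lib.ThreeTranspositions Cfsg.Agent.Lib.RankThree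

namespace Cfsg.Agent.Lib.SporFischer

universe u

variable {G : Type u} [Group G] {D : Set G}

/-- The hypotheses of Fischer's theorem. -/
structure IsFischerPair (D : Set G) : Prop where
  cls : IsThreeTranspositionClass D
  simple : IsSimpleGroup (commutator G)
  nonab : ∃ x y : commutator G, x * y ≠ y * x
  width : ∀ a ∈ D, ∃ b ∈ D, b ≠ a ∧ Commute a b
  two : ∃ a ∈ D, ∃ b ∈ D, a ≠ b

theorem isFischerPair [Finite G] (hsol : ∀ N : Subgroup G, N.Normal → Group.IsSolvable ↥N → N = ⊥)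
    (hperf : ⁅commutator G, commutator G⁆ = commutator G) (hD : IsThreeTranspositionClass D) :
    IsFischerPair D := by
  obtain ⟨hs, hn⟩ := commutator_simple hsol hperf hD
  have hw : ∀ a ∈ D, ∃ b ∈ D, b ≠ a ∧ Commute a b := fun a ha =>
    (Cfsg.Agent.S0441.result hD hs hn ha).1
  obtain ⟨d, hd, -⟩ := hD.2.1
  obtain ⟨b, hb, hbd, -⟩ := hw d hd
  exact ⟨hD, hs, hn, hw, d, hd, b, hb, fun h => hbd h.symm⟩

namespace IsFischerPair

theorem closed (h : IsFischerPair D) : IsClosedSet D := isClosedSet_of_class h.cls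

variable [Finite G]

theorem modules (h : IsFischerPair D) : ModulesTrivial D := module_universal h.cls h.simple

theorem adj (h : IsFischerPair D) {u v x y : G} (hu : u ∈ D) (hv : v ∈ D) (hx : x ∈ D) (hy : y ∈ D)
    (h1 : ¬ Commute u v) (h2 : ¬ Commute x y) : Orb u v x y :=
  orb_adj h.cls h.modules h.width u hu v hv x hx y hy h1 h2

theorem com (h : IsFischerPair D) {u v x y : G} (hu : u ∈ D) (hv : v ∈ D) (hx : x ∈ D) (hy : y ∈ D)
    (h0 : v ≠ u) (h0' : y ≠ x) (h1 : Commute u v) (h2 : Commute x y) : Orb u v x y :=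
  orb_com h.cls h.modules h.width u hu v hv x hx y hy h0 h0' h1 h2

/-- A maximum commuting subset consists of the members in some Sylow 2-subgroup. -/
theorem exists_sylow (h : IsFischerPair D) {E : Set G} (hE : E ⊆ D)
    (hc : ∀ a ∈ E, ∀ b ∈ E, Commute a b)
    (hmax : ∀ E' : Set G, E' ⊆ D → (∀ a ∈ E', ∀ b ∈ E', Commute a b) → E'.ncard ≤ E.ncard) :
    ∃ T : Sylow 2 G, E = {d | d ∈ D ∧ d ∈ T} := by
  obtain ⟨T⟩ : Nonempty (Sylow 2 G) := inferInstance
  obtain ⟨g, hg⟩ := exists_conj_mem_sylow h.closed T hE hc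
  have hmem : ∀ a ∈ E, a ∈ (g⁻¹ • T : Sylow 2 G) := by
    intro a ha
    show a ∈ ((g⁻¹ • T : Sylow 2 G) : Subgroup G)
    rw [Sylow.coe_subgroup_smul]
    exact ⟨g * a * g⁻¹, hg a ha, by simp [MulAut.conj]; group⟩
  refine ⟨g⁻¹ • T, Set.eq_of_subset_of_ncard_le (fun a ha => ⟨hE ha, hmem a ha⟩) ?_ (Set.toFinite _)⟩
  exact hmax _ (fun a ha => ha.1) fun a ha b hb =>
    commute_of_mem_isPGroup h.closed.1 (Sylow.isPGroup' _) ha.1 hb.1 ha.2 hb.2

theorem sylow_le_normalizer (h : IsFischerPair D) (T : Sylow 2 G) :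
    (T : Subgroup G) ≤ Subgroup.normalizer {d | d ∈ D ∧ d ∈ T} := by
  intro t ht
  rw [Subgroup.mem_set_normalizer_iff]
  intro x
  constructor
  · rintro ⟨hx, hxT⟩
    exact ⟨h.closed.2 t x hx, mul_mem (mul_mem (show t ∈ (T : Subgroup G) from ht) hxT)
      (inv_mem (show t ∈ (T : Subgroup G) from ht))⟩
  · rintro ⟨hx, hxT⟩
    have h1 : t⁻¹ * (t * x * t⁻¹) * t⁻¹⁻¹ ∈ D := h.closed.2 t⁻¹ _ hx
    have h2 : t⁻¹ * (t * x * t⁻¹) * t⁻¹⁻¹ ∈ (T : Subgroup G) :=
      mul_mem (mul_mem (inv_mem (show t ∈ (T : Subgroup G) from ht)) hxT)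
        (inv_mem (inv_mem (show t ∈ (T : Subgroup G) from ht)))
    rw [show t⁻¹ * (t * x * t⁻¹) * t⁻¹⁻¹ = x by group] at h1 h2
    exact ⟨h1, h2⟩

/-- Any two ordered pairs of a maximum commuting set are conjugate under its normalizer. -/
theorem two_transitive (h : IsFischerPair D) {E : Set G} (hE : E ⊆ D)
    (hc : ∀ a ∈ E, ∀ b ∈ E, Commute a b)
    (hmax : ∀ E' : Set G, E' ⊆ D → (∀ a ∈ E', ∀ b ∈ E', Commute a b) → E'.ncard ≤ E.ncard)
    {a b c d : G} (ha : a ∈ E) (hb : b ∈ E) (hc' : c ∈ E) (hd : d ∈ E) (hab : a ≠ b) (hcd : c ≠ d) :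
    ∃ g ∈ Subgroup.normalizer E, g * a * g⁻¹ = c ∧ g * b * g⁻¹ = d := by
  obtain ⟨g, hga, hgb⟩ := h.com (hE ha) (hE hb) (hE hc') (hE hd) (Ne.symm hab) (Ne.symm hcd)
    (hc a ha b hb) (hc c hc' d hd)
  let H : Subgroup G := Subgroup.centralizer {c, d}
  let E' : Set G := (fun x => g * x * g⁻¹) '' E
  have hE'D : E' ⊆ D := by rintro _ ⟨x, hx, rfl⟩; exact h.closed.2 g x (hE hx)
  have hE'c : ∀ x ∈ E', ∀ y ∈ E', Commute x y := by
    rintro _ ⟨x, hx, rfl⟩ _ ⟨y, hy, rfl⟩
    exact (conj_commute_iff g x y).2 (hc x hx y hy)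
  have hH : ∀ X : Set G, (∀ x ∈ X, ∀ y ∈ X, Commute x y) → c ∈ X → d ∈ X → ∀ x ∈ X, x ∈ H := by
    intro X hX hcX hdX x hx
    rw [Subgroup.mem_centralizer_iff]
    rintro y (rfl | rfl)
    · exact (hX _ hcX x hx).eq
    · exact (hX _ hdX x hx).eq
  let DH : Set H := {x | (x : G) ∈ D}
  have hDH : IsClosedSet DH := by
    refine ⟨⟨fun x hx => ?_, fun x hx y hy => ?_⟩, fun k x hx => h.closed.2 (k : G) x hx⟩
    · rw [← Subgroup.orderOf_coe]; exact h.closed.1.1 _ hx
    · exact (h.closed.1.2 _ hx _ hy).imp (fun e => Subtype.ext e) fun e => Subtype.ext e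
  have hcE' : c ∈ E' := ⟨a, ha, hga⟩
  have hdE' : d ∈ E' := ⟨b, hb, hgb⟩
  obtain ⟨T⟩ : Nonempty (Sylow 2 H) := inferInstance
  let F : Set G := ((↑) : H → G) '' {x | x ∈ DH ∧ x ∈ T}
  have hFD : F ⊆ D := by rintro _ ⟨x, hx, rfl⟩; exact hx.1
  have hFc : ∀ x ∈ F, ∀ y ∈ F, Commute x y := by
    rintro _ ⟨x, hx, rfl⟩ _ ⟨y, hy, rfl⟩
    exact (commute_of_mem_isPGroup hDH.1 T.isPGroup' hx.1 hy.1 hx.2 hy.2).map H.subtype
  -- every maximum commuting set containing `c, d` is carried onto `F` by `H`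
  have key : ∀ X : Set G, X ⊆ D → (∀ x ∈ X, ∀ y ∈ X, Commute x y) → c ∈ X → d ∈ X →
      X.ncard = E.ncard → ∃ k ∈ H, (fun x => k * x * k⁻¹) '' X = F := by
    intro X hXD hXc hcX hdX hcard
    obtain ⟨k, hk⟩ := exists_conj_mem_sylow hDH T (E := {x : H | (x : G) ∈ X}) (fun x hx => hXD hx)
      fun x hx y hy => Subtype.ext (hXc _ hx _ hy)
    refine ⟨k, k.2, Set.eq_of_subset_of_ncard_le ?_ ?_ (Set.toFinite _)⟩
    · rintro _ ⟨x, hx, rfl⟩
      exact ⟨k * ⟨x, hH X hXc hcX hdX x hx⟩ * k⁻¹, ⟨h.closed.2 _ x (hXD hx), hk _ hx⟩, rfl⟩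
    · rw [Set.ncard_image_of_injective _ (conj_inj' _), hcard]
      exact hmax F hFD hFc
  have hcardE' : E'.ncard = E.ncard := Set.ncard_image_of_injective _ (conj_inj' g)
  obtain ⟨k₁, hk₁, e₁⟩ := key E' hE'D hE'c hcE' hdE' hcardE'
  obtain ⟨k₂, hk₂, e₂⟩ := key E hE hc hc' hd rfl
  have hfix : ∀ k ∈ H, k * c * k⁻¹ = c ∧ k * d * k⁻¹ = d := by
    intro k hk
    rw [Subgroup.mem_centralizer_iff] at hk
    exact ⟨mul_inv_eq_iff_eq_mul.2 (hk c (Or.inl rfl)).symm,
      mul_inv_eq_iff_eq_mul.2 (hk d (Or.inr rfl)).symm⟩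
  refine ⟨k₂⁻¹ * k₁ * g, ?_, ?_, ?_⟩
  · rw [Subgroup.mem_set_normalizer_iff]
    intro x
    have hset : (fun x => k₂⁻¹ * k₁ * g * x * (k₂⁻¹ * k₁ * g)⁻¹) '' E = E := by
      calc (fun x => k₂⁻¹ * k₁ * g * x * (k₂⁻¹ * k₁ * g)⁻¹) '' E
          = (fun x => k₂⁻¹ * x * k₂⁻¹⁻¹) '' ((fun x => k₁ * x * k₁⁻¹) '' E') := by
            rw [Set.image_image, Set.image_image]
            exact congrArg (· '' E) (funext fun x => by group)
        _ = (fun x => k₂⁻¹ * x * k₂⁻¹⁻¹) '' ((fun x => k₂ * x * k₂⁻¹) '' E) := by rw [e₁, e₂]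
        _ = E := by
            rw [Set.image_image]
            convert Set.image_id E using 2 with x
            simp only [id]; group
    constructor
    · intro hx; exact hset ▸ ⟨x, hx, rfl⟩
    · intro hx
      rw [← hset] at hx
      obtain ⟨y, hy, e⟩ := hx
      exact conj_left_inj.1 e ▸ hy
  · calc k₂⁻¹ * k₁ * g * a * (k₂⁻¹ * k₁ * g)⁻¹ = k₂⁻¹ * (k₁ * (g * a * g⁻¹) * k₁⁻¹) * k₂⁻¹⁻¹ := by group
      _ = c := by rw [hga, (hfix k₁ hk₁).1, (hfix _ (inv_mem hk₂)).1]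
  · calc k₂⁻¹ * k₁ * g * b * (k₂⁻¹ * k₁ * g)⁻¹ = k₂⁻¹ * (k₁ * (g * b * g⁻¹) * k₁⁻¹) * k₂⁻¹⁻¹ := by group
      _ = d := by rw [hgb, (hfix k₁ hk₁).2, (hfix _ (inv_mem hk₂)).2]

/-- Adjacency among the commuting members of `x`. -/
def CompRel (D : Set G) (x : G) : G → G → Prop :=
  Relation.EqvGen fun p q => p ∈ comSet D x ∧ q ∈ comSet D x ∧ ¬ Commute p q

/-- The component of a commuting member. -/
def comp (D : Set G) (x y : G) : Set G := {z | CompRel D x y z}

omit [Finite G] in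
theorem compRel_mem {x y z : G} (hr : CompRel D x y z) : y ∈ comSet D x ↔ z ∈ comSet D x := by
  induction hr with
  | rel p q h => exact iff_of_true h.1 h.2.1
  | refl p => exact Iff.rfl
  | symm p q _ ih => exact ih.symm
  | trans p q r _ _ i j => exact i.trans j

omit [Finite G] in
theorem comp_subset {x y : G} (hy : y ∈ comSet D x) : comp D x y ⊆ comSet D x :=
  fun _ hz => (compRel_mem hz).1 hy

omit [Finite G] in
theorem self_mem_comp (x y : G) : y ∈ comp D x y := Relation.EqvGen.refl y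

omit [Finite G] in
theorem comp_eq {x y z : G} (hz : z ∈ comp D x y) : comp D x z = comp D x y :=
  Set.ext fun _ => ⟨fun h => hz.trans _ _ _ h, fun h => (hz.symm _ _).trans _ _ _ h⟩

omit [Finite G] in
theorem mem_comp_of_adj {x y p q : G} (hp : p ∈ comp D x y) (hpm : p ∈ comSet D x)
    (hq : q ∈ comSet D x) (hpq : ¬ Commute p q) : q ∈ comp D x y :=
  hp.trans _ _ _ (.rel _ _ ⟨hpm, hq, hpq⟩)

theorem compRel_conj (h : IsFischerPair D) (g : G) {x y z : G} (hr : CompRel D x y z) :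
    CompRel D (g * x * g⁻¹) (g * y * g⁻¹) (g * z * g⁻¹) := by
  induction hr with
  | rel p q hr =>
    refine .rel _ _ ⟨?_, ?_, fun hc => hr.2.2 ((conj_commute_iff g p q).1 hc)⟩ <;>
      rw [← comSet_image h.closed]
    exacts [Set.mem_image_of_mem _ hr.1, Set.mem_image_of_mem _ hr.2.1]
  | refl p => exact .refl _
  | symm p q _ ih => exact ih.symm _ _
  | trans p q r _ _ i j => exact i.trans _ _ _ j

theorem comp_image (h : IsFischerPair D) (g x y : G) :
    (fun z => g * z * g⁻¹) '' comp D x y = comp D (g * x * g⁻¹) (g * y * g⁻¹) := by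
  ext z
  constructor
  · rintro ⟨w, hw, rfl⟩; exact compRel_conj h g hw
  · intro hz
    refine ⟨g⁻¹ * z * g⁻¹⁻¹, ?_, by group⟩
    have := compRel_conj h g⁻¹ hz
    rwa [show g⁻¹ * (g * x * g⁻¹) * g⁻¹⁻¹ = x by group,
      show g⁻¹ * (g * y * g⁻¹) * g⁻¹⁻¹ = y by group] at this

theorem comp_ncard (h : IsFischerPair D) {u y v z : G} (hu : u ∈ D) (hv : v ∈ D) (hy : y ∈ comSet D u)
    (hz : z ∈ comSet D v) : (comp D u y).ncard = (comp D v z).ncard := by
  obtain ⟨g, rfl, rfl⟩ := h.com hu hy.1 hv hz.1 hy.2.1 hz.2.1 hy.2.2 hz.2.2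
  rw [← comp_image h, Set.ncard_image_of_injective _ (conj_inj' g)]

/-- A component avoiding a second member is a component at that member as well. -/
theorem comp_transfer (h : IsFischerPair D) {u a b : G} (hu : u ∈ D) (ha : a ∈ comSet D u)
    (hb : b ∈ comSet D u) (hab : a ∉ comp D u b) : b ∈ comSet D a ∧ comp D a b = comp D u b := by
  obtain ⟨g, hgu, hga⟩ := h.com hu ha.1 ha.1 hu ha.2.1 (Ne.symm ha.2.1) ha.2.2 ha.2.2.symm
  let 𝒮 : Set (Set G) := {B | ∃ y ∈ comSet D u, comp D u y = B ∧ a ∉ B}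
  let φ : Set G → Set G := fun B => (fun z => g * z * g⁻¹) '' B
  have key : ∀ y ∈ comSet D u, a ∉ comp D u y →
      g * y * g⁻¹ ∈ comSet D u ∧ g * y * g⁻¹ ∈ comSet D a ∧
        φ (comp D u y) = comp D u (g * y * g⁻¹) ∧ φ (comp D u y) = comp D a (g * y * g⁻¹) := by
    intro y hy hay
    have himg : φ (comp D u y) = comp D a (g * y * g⁻¹) := by
      show (fun z => g * z * g⁻¹) '' _ = _
      rw [comp_image h, hgu]
    have hsub : ∀ z ∈ φ (comp D u y), z ∈ comSet D a ∧ z ∈ comSet D u := by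
      rintro _ ⟨z, hz, rfl⟩
      have hzm := comp_subset hy hz
      have h1 : g * z * g⁻¹ ∈ comSet D a := by
        rw [← hgu, ← comSet_image h.closed]; exact Set.mem_image_of_mem _ hzm
      refine ⟨h1, h1.1, fun e => hay ?_, ?_⟩
      · rw [← hga, conj_left_inj] at e
        exact e ▸ hz
      · by_contra hnc
        refine hay (mem_comp_of_adj hz hzm ha fun hc => hnc ?_)
        have := (conj_commute_iff g z a).2 hc
        rw [hga] at this
        exact this.symm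
    have hstep : ∀ p q, CompRel D a p q → p ∈ φ (comp D u y) → q ∈ φ (comp D u y) := by
      intro p q hr hp
      rw [himg] at hp ⊢
      exact hp.trans _ _ _ hr
    have hsub' : φ (comp D u y) ⊆ comp D u (g * y * g⁻¹) := by
      intro z hz
      have hz' : CompRel D a (g * y * g⁻¹) z := by rw [himg] at hz; exact hz
      suffices ∀ p q, CompRel D a p q → ((p ∈ φ (comp D u y) → CompRel D u p q) ∧
          (q ∈ φ (comp D u y) → CompRel D u p q)) from
        (this _ _ hz').1 ⟨y, self_mem_comp u y, rfl⟩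
      intro p q hr
      induction hr with
      | rel p q hr =>
        constructor
        · intro hp
          exact .rel _ _ ⟨(hsub p hp).2, (hsub q (hstep p q (.rel _ _ hr) hp)).2, hr.2.2⟩
        · intro hq
          exact .rel _ _ ⟨(hsub p (hstep q p (.symm _ _ (.rel _ _ hr)) hq)).2, (hsub q hq).2, hr.2.2⟩
      | refl p => exact ⟨fun _ => .refl _, fun _ => .refl _⟩
      | symm p q _ ih => exact ⟨fun hq => (ih.2 hq).symm _ _, fun hp => (ih.1 hp).symm _ _⟩
      | trans p q r h1 h2 i j =>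
        exact ⟨fun hp => (i.1 hp).trans _ _ _ (j.1 (hstep p q h1 hp)),
          fun hr => (i.2 (hstep r q (h2.symm _ _) hr)).trans _ _ _ (j.2 hr)⟩
    have hgy := hsub _ ⟨y, self_mem_comp u y, rfl⟩
    refine ⟨hgy.2, hgy.1, Set.eq_of_subset_of_ncard_le hsub' ?_ (Set.toFinite _), himg⟩
    rw [Set.ncard_image_of_injective _ (conj_inj' g), comp_ncard h hu hu hgy.2 hy]
  have hmaps : Set.MapsTo φ 𝒮 𝒮 := by
    rintro _ ⟨y, hy, rfl, hay⟩
    obtain ⟨h1, h2, h3, h4⟩ := key y hy hay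
    refine ⟨_, h1, h3.symm, fun hm => ?_⟩
    rw [h4] at hm
    exact (comp_subset h2 hm).2.1 rfl
  have hsurj : Set.SurjOn φ 𝒮 𝒮 := (((Set.toFinite 𝒮).injOn_iff_bijOn_of_mapsTo hmaps).1
    (Set.image_injective.2 (conj_inj' g)).injOn).surjOn
  obtain ⟨_, ⟨y, hy, rfl, hay⟩, e⟩ := hsurj ⟨b, hb, rfl, hab⟩
  obtain ⟨-, h2, -, h4⟩ := key y hy hay
  have hb' : b ∈ comp D a (g * y * g⁻¹) := by rw [← h4, e]; exact self_mem_comp u b
  exact ⟨comp_subset h2 hb', by rw [comp_eq hb', ← h4, e]⟩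

/-- The commuting members of a member form one component. -/
theorem single_comp (h : IsFischerPair D) {x y z : G} (hx : x ∈ D) (hy : y ∈ comSet D x)
    (hz : z ∈ comSet D x) : z ∈ comp D x y := by
  by_contra hne
  -- some commuting members of `x` do not commute
  have hedge : ∃ p ∈ comSet D x, ∃ q ∈ comSet D x, ¬ Commute p q := by
    by_contra hno
    push Not at hno
    refine hy.2.1 (eq_of_adjSet h.cls h.modules h.two hy.1 hx (Set.ext fun e => ?_))
    have hyx : ∀ e ∈ D, Commute x e → Commute y e := by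
      intro e he hc
      by_cases hex : e = x
      · exact hex ▸ hy.2.2.symm
      · exact hno y hy e ⟨he, hex, hc⟩
    constructor
    · exact fun he => ⟨he.1, fun hc => he.2 (hyx e he.1 hc)⟩
    · intro he
      refine ⟨he.1, fun hc => ?_⟩
      have hsub : comSet D x \ {y} ⊆ comSet D y \ {x} := fun w hw =>
        ⟨⟨hw.1.1, hw.2, hyx w hw.1.1 hw.1.2.2⟩, hw.1.2.1⟩
      have hxy : x ∈ comSet D y := ⟨hx, Ne.symm hy.2.1, hy.2.2.symm⟩
      have heq := Set.eq_of_subset_of_ncard_le hsub (by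
        rw [Set.ncard_sdiff_singleton_of_mem hy, Set.ncard_sdiff_singleton_of_mem hxy,
          comSet_ncard h.cls hx hy.1]) (Set.toFinite _)
      have hey : e ≠ y := fun e' => he.2 (e' ▸ hy.2.2)
      have hex : e ≠ x := fun e' => he.2 (e' ▸ Commute.refl x)
      exact he.2 ((heq ▸ (⟨⟨he.1, hey, hc⟩, hex⟩ : e ∈ comSet D y \ {x})) :
        e ∈ comSet D x \ {y}).1.2.2
  obtain ⟨p, hp, q, hq, hpq⟩ := hedge
  -- move the edge: `x` and `e` adjacent inside the commuting members of `a`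
  obtain ⟨g, hgx, hgp⟩ := h.com hx hp.1 hy.1 hx hp.2.1 (Ne.symm hy.2.1) hp.2.2 hy.2.2.symm
  set a := y with hadef
  set e := g * q * g⁻¹ with hedef
  have he : e ∈ comSet D a := by
    rw [← hgx, ← comSet_image h.closed]; exact Set.mem_image_of_mem _ hq
  have hxe : ¬ Commute x e := by rw [← hgp, conj_commute_iff]; exact hpq
  have hxa : x ∈ comSet D a := ⟨hx, Ne.symm hy.2.1, hy.2.2.symm⟩
  have hza : a ∉ comp D x z := fun hm => hne (by rw [comp_eq hm]; exact self_mem_comp x z)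
  obtain ⟨hz1, hz2⟩ := comp_transfer h hx hy hz hza
  have hze : z ∈ comSet D e := by
    refine ⟨hz.1, fun e' => hxe (e' ▸ hz.2.2), ?_⟩
    by_contra hc
    have hm : e ∈ comp D a z := mem_comp_of_adj (self_mem_comp a z) hz1 he (fun h' => hc h'.symm)
    rw [hz2] at hm
    exact hxe (comp_subset hz hm).2.2
  -- every adjacent pair has two common commuting members in different components
  have hpair : ∀ u ∈ D, ∀ w ∈ D, ¬ Commute u w → ∀ b ∈ comSet D u,
      ∃ c ∈ comSet D u, c ∈ comSet D w ∧ c ∉ comp D u b := by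
    intro u hu w hw huw b hb
    obtain ⟨k, hku, hkw⟩ := h.adj hx he.1 hu hw hxe huw
    have hm : ∀ c, c ∈ comSet D x → c ∈ comSet D e →
        k * c * k⁻¹ ∈ comSet D u ∧ k * c * k⁻¹ ∈ comSet D w := by
      intro c h1 h2
      rw [← hku, ← hkw, ← comSet_image h.closed, ← comSet_image h.closed]
      exact ⟨Set.mem_image_of_mem _ h1, Set.mem_image_of_mem _ h2⟩
    have hae : a ∈ comSet D e := ⟨hy.1, fun e' => hxe (e' ▸ hy.2.2), he.2.2.symm⟩
    by_cases hc : k * a * k⁻¹ ∈ comp D u b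
    · refine ⟨_, (hm z hz hze).1, (hm z hz hze).2, fun hc' => hne ?_⟩
      rw [← comp_eq hc, ← hku, ← comp_image h] at hc'
      obtain ⟨w', hw', e'⟩ := hc'
      exact conj_left_inj.1 e' ▸ hw'
    · exact ⟨_, (hm a hy hae).1, (hm a hy hae).2, hc⟩
  let P : G → Prop := fun w => z ∈ comSet D w ∧ comp D w z = comp D x z
  have hall := all_of_adj_closed h.cls P ?_ hx ⟨hz, rfl⟩ z hz.1
  · exact hall.1.2.1 rfl
  rintro u hu w hw ⟨hzu, heq⟩ huw
  obtain ⟨c, hcu, hcw, hcz⟩ := hpair u hu w hw huw z hzu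
  obtain ⟨h1, h2⟩ := comp_transfer h hu hcu hzu hcz
  have hwc : w ∈ comSet D c := ⟨hw, Ne.symm hcw.2.1, hcw.2.2.symm⟩
  have hwz : w ∉ comp D c z := by
    rw [h2]; exact fun hm => huw (comp_subset hzu hm).2.2
  obtain ⟨h3, h4⟩ := comp_transfer h hcu.1 hwc h1 hwz
  exact ⟨h3, h4.trans (h2.trans heq)⟩

omit [Finite G] in
/-- Two members of one component are conjugate in the group generated by the commuting members. -/
theorem comp_conj (h : IsFischerPair D) {x y z : G} (hr : CompRel D x y z) :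
    ∃ g ∈ Subgroup.closure (comSet D x), g * y * g⁻¹ = z := by
  induction hr with
  | rel p q hr =>
    refine ⟨p * q, mul_mem (Subgroup.subset_closure hr.1) (Subgroup.subset_closure hr.2.1), ?_⟩
    have hb := braid h.closed.1 hr.1.1 hr.2.1.1 hr.2.2
    rw [mul_inv_rev, inv_eq h.closed.1 hr.1.1, inv_eq h.closed.1 hr.2.1.1]
    calc p * q * p * (q * p) = q * p * q * (q * p) := by rw [hb]
      _ = q := by rw [mul_assoc, mul_self_assoc h.closed.1 hr.2.1.1, mul_assoc,
            mul_self h.closed.1 hr.1.1, mul_one]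
  | refl p => exact ⟨1, one_mem _, by simp⟩
  | symm p q _ ih =>
    obtain ⟨g, hg, rfl⟩ := ih
    exact ⟨g⁻¹, inv_mem hg, by group⟩
  | trans p q r _ _ i j =>
    obtain ⟨g, hg, rfl⟩ := i
    obtain ⟨k, hk, rfl⟩ := j
    exact ⟨k * g, mul_mem hk hg, by group⟩

end IsFischerPair

end Cfsg.Agent.Lib.SporFischer
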