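import Mathlib

/-!
An integrality condition for strongly regular graphs without triangles, and the arithmetic which leaves
only the Petersen parameters among powers of three.
-/

set_option autoImplicit false

namespace Cfsg.Agent.Lib.SporFischer.Graph

open Matrix

/-- In a triangle-free strongly regular graph `μ² + 4(k - μ)` is a square. -/
theorem isSquare_discr {V : Type*} [Fintype V] [DecidableEq V] (R : V → V → Prop) [DecidableRel R]
    (hsymm : ∀ {a b}, R a b → R b a) (hirr : ∀ a, ¬ R a a) {k μ : ℕ} (hk : 3 ≤ k) (hμ : 1 ≤ μ)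
    (hμk : μ ≤ k) (hdeg : ∀ a, {b | R a b}.ncard = k) (hlam : ∀ a b, R a b → ∀ c, R a c → ¬ R b c)
    (hmu : ∀ a b, a ≠ b → ¬ R a b → {c | R a c ∧ R b c}.ncard = μ) (hne : Nonempty V) :
    IsSquare (μ ^ 2 + 4 * (k - μ)) := by
  classical
  set v : ℕ := Fintype.card V
  let M : Matrix V V ℝ := Matrix.of fun a b => if R a b then 1 else 0
  let J : Matrix V V ℝ := Matrix.of fun _ _ => 1
  have hdeg' : ∀ a, ((Finset.univ.filter fun b => R a b).card : ℝ) = k := fun a => by
    rw [← hdeg a, Set.ncard_eq_toFinset_card']; simp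
  have hJJ : J * J = (v : ℝ) • J := by
    ext a b; simp [Matrix.mul_apply, J, v]
  have hMJ : M * J = (k : ℝ) • J := by
    ext a b
    simp only [Matrix.mul_apply, M, J, Matrix.of_apply, mul_one, Finset.sum_boole, Matrix.smul_apply,
      smul_eq_mul]
    exact hdeg' a
  have hJM : J * M = (k : ℝ) • J := by
    ext a b
    simp only [Matrix.mul_apply, M, J, Matrix.of_apply, one_mul, Finset.sum_boole, Matrix.smul_apply,
      smul_eq_mul, mul_one]
    rw [← hdeg' b]
    exact congrArg (fun s : Finset V => (s.card : ℝ)) (Finset.filter_congr fun c _ => ⟨hsymm, hsymm⟩)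
  have hMM : M * M = (k : ℝ) • (1 : Matrix V V ℝ) + (μ : ℝ) • (J - 1 - M) := by
    ext a b
    have e : (M * M) a b = (({c | R a c ∧ R b c}.ncard : ℕ) : ℝ) := by
      simp only [Matrix.mul_apply, M, Matrix.of_apply, ite_zero_mul_ite_zero, mul_one, Finset.sum_boole]
      rw [Set.ncard_eq_toFinset_card']
      congr 2
      ext c; simp only [Finset.mem_filter, Finset.mem_univ, true_and, Set.toFinset_setOf]
      exact ⟨fun h => ⟨h.1, hsymm h.2⟩, fun h => ⟨h.1, hsymm h.2⟩⟩
    rw [e]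
    simp only [Matrix.add_apply, Matrix.smul_apply, Matrix.sub_apply, Matrix.one_apply, smul_eq_mul,
      J, M, Matrix.of_apply]
    by_cases hab : a = b
    · subst hab
      rw [if_neg (hirr a), show {c | R a c ∧ R a c} = {c | R a c} by simp, hdeg a]
      simp
    · by_cases hr : R a b
      · rw [show {c | R a c ∧ R b c} = ∅ from Set.eq_empty_iff_forall_notMem.2
          fun c hc => hlam a b hr c hc.1 hc.2]
        simp [hab, hr]
      · rw [hmu a b hab hr]; simp [hab, hr]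
  -- count of vertices
  have hv : (μ : ℝ) * v = (k : ℝ) * k - k + k * μ + μ := by
    obtain ⟨a⟩ := hne
    have h1 : (M * M * J) a a = ((k : ℝ) • (1 : Matrix V V ℝ) * J + (μ : ℝ) • (J - 1 - M) * J) a a := by
      rw [hMM, Matrix.add_mul]
    rw [Matrix.mul_assoc, hMJ, Matrix.mul_smul, hMJ, Matrix.smul_mul, Matrix.smul_mul, one_mul,
      Matrix.sub_mul, Matrix.sub_mul, one_mul, hJJ, hMJ] at h1
    simp [J] at h1
    linarith
  set d : ℕ := μ ^ 2 + 4 * (k - μ) with hddef
  have hd : (d : ℝ) = (μ : ℝ) ^ 2 + 4 * (k - μ) := by rw [hddef]; push_cast [hμk]; ring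
  have hdpos : (0 : ℝ) < d := by
    have : 0 < d := by rw [hddef]; positivity
    exact_mod_cast this
  set s : ℝ := Real.sqrt d
  have hs : s * s = d := Real.mul_self_sqrt hdpos.le
  have hs0 : s ≠ 0 := fun h => by rw [h, zero_mul] at hs; exact hdpos.ne hs
  have hv0 : (v : ℝ) ≠ 0 := by
    have : 0 < v := Fintype.card_pos
    positivity
  set σ : ℝ := 2 * k + μ
  let T : Matrix V V ℝ := (2 : ℝ) • M + (μ : ℝ) • 1
  set c : ℝ := (σ + s) / v with hc
  let A : Matrix V V ℝ := T - c • J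
  have hTT : T * T = (d : ℝ) • (1 : Matrix V V ℝ) + (4 * μ : ℝ) • J := by
    simp only [T, Matrix.add_mul, Matrix.mul_add, Matrix.smul_mul, Matrix.mul_smul, one_mul, mul_one,
      hMM, smul_add, smul_sub, smul_smul, hd]
    module
  have hTJ : T * J = σ • J := by
    simp only [T, Matrix.add_mul, Matrix.smul_mul, one_mul, hMJ, smul_smul, ← add_smul]; rfl
  have hJT : J * T = σ • J := by
    simp only [T, Matrix.mul_add, Matrix.mul_smul, mul_one, hJM, smul_smul, ← add_smul]; rfl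
  have hcoef : (4 * μ : ℝ) - 2 * c * σ + c * c * v = 0 := by
    have h1 : c * v = σ + s := by rw [hc]; field_simp
    have h2 : ((4 * μ : ℝ) - 2 * c * σ + c * c * v) * v = 0 := by
      calc ((4 * μ : ℝ) - 2 * c * σ + c * c * v) * v
          = 4 * (μ * v) - 2 * (c * v) * σ + (c * v) * (c * v) := by ring
        _ = 4 * (μ * v) - σ * σ + s * s := by rw [h1]; ring
        _ = 0 := by rw [hs, hd, hv]; simp only [σ]; ring
    exact (mul_eq_zero.1 h2).resolve_right hv0
  have hAA : A * A = (d : ℝ) • (1 : Matrix V V ℝ) := by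
    have : A * A = (d : ℝ) • (1 : Matrix V V ℝ) + ((4 * μ : ℝ) - 2 * c * σ + c * c * v) • J := by
      simp only [A, Matrix.sub_mul, Matrix.mul_sub, Matrix.smul_mul, Matrix.mul_smul, hTT, hTJ, hJT, hJJ,
        smul_smul, smul_sub, smul_add]
      module
    rw [this, hcoef, zero_smul, add_zero]
  let P : Matrix V V ℝ := (1 / 2 : ℝ) • ((1 : Matrix V V ℝ) + s⁻¹ • A)
  have hP : IsIdempotentElem P := by
    show P * P = P
    simp only [P, Matrix.smul_mul, Matrix.mul_smul, Matrix.add_mul, Matrix.mul_add, one_mul, mul_one,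
      hAA, smul_smul, smul_add]
    rw [show (1 / 2 : ℝ) * s⁻¹ * (1 / 2 * s⁻¹ * d) = 1 / 4 by rw [← hs]; field_simp; norm_num]
    module
  have hPl : IsIdempotentElem (Matrix.toLin' P) := by
    show Matrix.toLin' P * Matrix.toLin' P = Matrix.toLin' P
    rw [Module.End.mul_eq_comp, ← Matrix.toLin'_mul, hP.eq]
  obtain ⟨r, hr⟩ : ∃ r : ℕ, P.trace = r := by
    refine ⟨Module.finrank ℝ (LinearMap.range (Matrix.toLin' P)), ?_⟩
    rw [← Matrix.trace_toLin'_eq]
    exact (LinearMap.IsIdempotentElem.isProj_range _ hPl).trace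
  have htrA : A.trace = μ * v - (σ + s) := by
    have hM0 : M.trace = 0 := by simp [Matrix.trace, M, hirr]
    have hJv : J.trace = v := by simp [Matrix.trace, J, v]
    simp only [A, T, Matrix.trace_sub, Matrix.trace_add, Matrix.trace_smul, hM0, hJv, Matrix.trace_one,
      smul_eq_mul, hc]
    field_simp
    ring
  have key : ((2 * r : ℤ) - v + 1 : ℤ) * s = μ * v - σ := by
    have e : P.trace = (1 / 2) * (v + s⁻¹ * (μ * v - (σ + s))) := by
      simp only [P, Matrix.trace_smul, Matrix.trace_add, Matrix.trace_one, smul_eq_mul, htrA]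
      rfl
    rw [hr] at e
    push_cast
    rw [e]
    field_simp
    ring
  have hpos : 0 < ((μ * v : ℕ) : ℤ) - (2 * k + μ : ℕ) := by
    have : (0 : ℝ) < μ * v - (2 * k + μ) := by
      rw [hv]
      have hk' : (3 : ℝ) ≤ k := by exact_mod_cast hk
      have hμ' : (1 : ℝ) ≤ μ := by exact_mod_cast hμ
      nlinarith
    exact_mod_cast this
  set z : ℤ := ((μ * v : ℕ) : ℤ) - (2 * k + μ : ℕ) with hz
  set n : ℤ := (2 * r : ℤ) - v + 1
  have heq : n * n * (d : ℤ) = z * z := by
    have h1 : (n : ℝ) * s = (z : ℝ) := by rw [key, hz]; simp only [σ]; push_cast; ring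
    have h2 : ((n * n * (d : ℤ) : ℤ) : ℝ) = ((z * z : ℤ) : ℝ) := by
      push_cast; rw [← hs, ← h1]; ring
    exact_mod_cast h2
  have hn0 : n ≠ 0 := by
    rintro h
    rw [h, zero_mul, zero_mul] at heq
    nlinarith
  obtain ⟨w, hw⟩ : n ∣ z := (Int.pow_dvd_pow_iff two_ne_zero).1 ⟨d, by rw [pow_two, pow_two]; linarith⟩
  refine ⟨w.natAbs, ?_⟩
  have h3 : (d : ℤ) = w * w := by
    refine mul_left_cancel₀ (mul_ne_zero hn0 hn0) ?_
    rw [heq, hw]; ring
  have := congrArg Int.natAbs h3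
  rwa [Int.natAbs_natCast, Int.natAbs_mul] at this

theorem not_square_three_pow_mul (u : ℕ) : ∀ i b : ℕ, b % 3 = 2 → u * u ≠ 3 ^ i * b := by
  induction u using Nat.strong_induction_on with
  | _ u ih =>
    intro i b hb h
    have hp := Nat.prime_three
    match i with
    | 0 =>
      have h1 := Nat.mul_mod u u 3
      rw [h, pow_zero, one_mul, hb] at h1
      rcases (by omega : u % 3 = 0 ∨ u % 3 = 1 ∨ u % 3 = 2) with h3 | h3 | h3 <;>
        (rw [h3] at h1; omega)
    | 1 =>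
      obtain ⟨w, rfl⟩ : 3 ∣ u := (hp.dvd_mul.1 ⟨b, by rw [h, pow_one]⟩).elim id id
      rw [pow_one] at h
      have : b = 3 * (w * w) := Nat.eq_of_mul_eq_mul_left (by norm_num : 0 < 3) (by rw [← h]; ring)
      omega
    | i + 2 =>
      obtain ⟨w, rfl⟩ : 3 ∣ u := (hp.dvd_mul.1 ⟨3 ^ (i + 1) * b, by rw [h]; ring⟩).elim id id
      rcases Nat.eq_zero_or_pos w with rfl | hw
      · simp at h; omega
      · refine ih w (by omega) i b hb ?_
        exact Nat.eq_of_mul_eq_mul_left (by norm_num : 0 < 9) (by linarith [show 3 ^ (i + 2) * b = 9 * (3 ^ i * b) by ring])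

theorem petersen_parameters {i j : ℕ} (hij : i < j)
    (h : IsSquare ((3 ^ i) ^ 2 + 4 * (3 ^ j - 3 ^ i))) : i = 0 ∧ j = 1 := by
  obtain ⟨u, hu⟩ := h
  obtain ⟨m, rfl⟩ : ∃ m, j = i + (m + 1) := ⟨j - i - 1, by omega⟩
  have hle : 3 ^ i ≤ 3 ^ (i + (m + 1)) := Nat.pow_le_pow_right (by norm_num) (by omega)
  by_contra hne
  rcases Nat.eq_zero_or_pos i with rfl | hi
  · have hm : 1 ≤ m := by omega
    obtain ⟨m, rfl⟩ : ∃ q, m = q + 1 := ⟨m - 1, by omega⟩
    refine not_square_three_pow_mul u 1 (4 * 3 ^ (m + 1) - 1) (by rw [pow_succ]; have := Nat.one_le_pow m 3 (by norm_num); omega) ?_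
    rw [← hu]
    simp only [pow_zero, one_pow, pow_one, zero_add]
    have := Nat.one_le_pow (m + 1) 3 (by norm_num)
    rw [pow_succ 3 (m + 1)]
    omega
  · obtain ⟨i, rfl⟩ : ∃ q, i = q + 1 := ⟨i - 1, by omega⟩
    refine not_square_three_pow_mul u (i + 1) (3 ^ (i + 1) + 4 * 3 ^ (m + 1) - 4) ?_ ?_
    · rw [pow_succ 3 i, pow_succ 3 m]
      have := Nat.one_le_pow m 3 (by norm_num)
      omega
    · rw [← hu]
      have e : 3 ^ (i + 1 + (m + 1)) = 3 ^ (i + 1) * 3 ^ (m + 1) := pow_add _ _ _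
      rw [e, Nat.mul_sub, Nat.mul_sub, Nat.mul_add]
      have := Nat.one_le_pow (m + 1) 3 (by norm_num)
      have : 3 ^ (i + 1) ≤ 3 ^ (i + 1) * 3 ^ (m + 1) := Nat.le_mul_of_pos_right _ (by positivity)
      rw [pow_two, show 3 ^ (i + 1) * (4 * 3 ^ (m + 1)) = 4 * (3 ^ (i + 1) * 3 ^ (m + 1)) by ring,
        show 3 ^ (i + 1) * 4 = 4 * 3 ^ (i + 1) by ring]
      omega

end Cfsg.Agent.Lib.SporFischer.Graph
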