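import Cfsg.Agent.Lib.ThreeTranspositions.Basic
import Cfsg.Agent.Lib.RankThree.Width
import Cfsg.Agent.Lib.RankThree.Main
import Cfsg.Agent.Lib.Induced.Burnside
import Cfsg.Agent.Lib.Subnormality.UniqueMaximal
import Cfsg.Agent.Lib.PSolvable.Basic
import Cfsg.Agent.S0441
import Cfsg.Agent.Lib.Cores.Basic

/-!
A group generated by a class of 3-transpositions, with trivial solvable radical and perfect derived group,
has simple derived group.  No appeal to components or to outer automorphism groups: two commuting images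
in the quotient by a minimal normal subgroup would centralise that subgroup.
-/

set_option autoImplicit false
set_option linter.style.haveILetI false

open Cfsg Cfsg.Agent.Lib.ThreeTranspositions
open scoped commutatorElement

namespace Cfsg.Agent.Lib.SporFischer

universe u

variable {G : Type u} [Group G] {D : Set G}

theorem pgroup_normal_eq_bot [Finite G]
    (hsol : ∀ N : Subgroup G, N.Normal → Group.IsSolvable ↥N → N = ⊥) {p : ℕ} [Fact p.Prime]
    {P : Subgroup G} (hn : P.Normal) (hp : IsPGroup p P) : P = ⊥ := by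
  haveI := hp.isNilpotent
  exact hsol P hn inferInstance

/-- Inside a normal subgroup, a normal `p`-subgroup is trivial. -/
theorem pgroup_in_normal_eq_bot [Finite G]
    (hsol : ∀ N : Subgroup G, N.Normal → Group.IsSolvable ↥N → N = ⊥) {p : ℕ} [Fact p.Prime]
    {N P : Subgroup G} (hN : N.Normal) (hPN : P ≤ N)
    (hnorm : ∀ n ∈ N, ∀ x ∈ P, n * x * n⁻¹ ∈ P) (hp : IsPGroup p P) : P = ⊥ := by
  obtain ⟨T⟩ : Nonempty (Sylow p N) := inferInstance
  haveI : (P.subgroupOf N).Normal := ⟨fun x hx n => hnorm n n.2 x hx⟩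
  have hPp : IsPGroup p (P.subgroupOf N) :=
    hp.of_equiv (Subgroup.subgroupOfEquivOfLe hPN).symm
  have hle : P.subgroupOf N ≤ pCore p N := le_sSup ⟨inferInstance, hPp⟩
  have hchar : (pCore p N).map N.subtype = ⊥ := by
    haveI := hN
    refine pgroup_normal_eq_bot hsol (p := p) ?_ ?_
    · haveI : (pCore p N).Characteristic := Cores.pCore_characteristic p
      exact ConjAct.normal_of_characteristic_of_normal
    · exact (Cores.pCore_isPGroup p).map _
  rw [eq_bot_iff]
  intro x hx
  have : (⟨x, hPN hx⟩ : N) ∈ pCore p N := hle hx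
  have := Subgroup.mem_map_of_mem N.subtype this
  rwa [hchar] at this

theorem commutator_mem {N : Subgroup G} (hN : N.Normal) (d : G) {k : G} (hk : k ∈ N) :
    d * (k * d * k⁻¹)⁻¹ ∈ N := by
  have := mul_mem (hN.conj_mem k hk d) (inv_mem hk)
  convert this using 1
  group

/-- A generating member does not centralise a non-central normal subgroup. -/
theorem exists_moved [Finite G] (hsol : ∀ N : Subgroup G, N.Normal → Group.IsSolvable ↥N → N = ⊥)
    (hD : IsThreeTranspositionClass D) {N : Subgroup G} (hN : N.Normal) (hne : N ≠ ⊥) {d : G}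
    (hd : d ∈ D) : ∃ k ∈ N, k * d * k⁻¹ ≠ d := by
  by_contra h
  push Not at h
  refine hne (hsol N hN ?_)
  have hz : ∀ x ∈ N, ∀ g : G, Commute x g := by
    intro x hx g
    have : x ∈ Subgroup.center G := mem_center_of_commute_gen hD.2.2 fun e he => by
      obtain ⟨g, rfl⟩ := class_exists_conj hD hd he
      have h1 := h _ (hN.conj_mem x hx g⁻¹)
      rw [inv_inv] at h1
      have h2 : g⁻¹ * x * g * d = d * (g⁻¹ * x * g) := mul_inv_eq_iff_eq_mul.1 h1
      calc x * (g * d * g⁻¹) = g * (g⁻¹ * x * g * d) * g⁻¹ := by group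
        _ = g * d * g⁻¹ * x := by rw [h2]; group
    exact (Subgroup.mem_center_iff.1 this g).symm
  exact Group.isSolvable_of_comm fun x y => Subtype.ext (hz x x.2 y)

/-- Every normal subgroup contains products with a member of both orders. -/
theorem exists_both [Finite G] (hsol : ∀ N : Subgroup G, N.Normal → Group.IsSolvable ↥N → N = ⊥)
    (hD : IsThreeTranspositionClass D) {N : Subgroup G} (hN : N.Normal) (hne : N ≠ ⊥) {d : G}
    (hd : d ∈ D) :
    (∃ k ∈ N, k * d * k⁻¹ ≠ d ∧ Commute d (k * d * k⁻¹)) ∧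
      ∃ k ∈ N, ¬ Commute d (k * d * k⁻¹) := by
  have hC := isClosedSet_of_class hD
  have hS := hC.1
  haveI := hN
  let S : Set G := {e | ∃ k ∈ N, k * d * k⁻¹ = e}
  have hSD : ∀ e ∈ S, e ∈ D := by rintro _ ⟨k, -, rfl⟩; exact hC.2 k d hd
  let H : Subgroup G := N ⊔ Subgroup.zpowers d
  have hdH : d ∈ H := Subgroup.mem_sup_right (Subgroup.mem_zpowers d)
  have hSH : ∀ e ∈ S, e ∈ H := by
    rintro _ ⟨k, hk, rfl⟩
    exact mul_mem (mul_mem (Subgroup.mem_sup_left hk) hdH) (inv_mem (Subgroup.mem_sup_left hk))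
  have hclosed : ∀ g ∈ H, ∀ e ∈ S, g * e * g⁻¹ ∈ S := by
    rintro g hg _ ⟨k, hk, rfl⟩
    obtain ⟨n, hn, z, hz, rfl⟩ := Subgroup.mem_sup_of_normal_left.1 hg
    obtain ⟨i, rfl⟩ := Subgroup.mem_zpowers_iff.1 hz
    refine ⟨n * (d ^ i * k * (d ^ i)⁻¹), mul_mem hn (hN.conj_mem k hk _), ?_⟩
    have hc : d ^ i * d * (d ^ i)⁻¹ = d := by rw [((Commute.refl d).zpow_left i).eq, mul_inv_cancel_right]
    calc n * (d ^ i * k * (d ^ i)⁻¹) * d * (n * (d ^ i * k * (d ^ i)⁻¹))⁻¹
        = n * (d ^ i * k * (d ^ i)⁻¹) * (d ^ i * d * (d ^ i)⁻¹) *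
          (n * (d ^ i * k * (d ^ i)⁻¹))⁻¹ := by rw [hc]
      _ = n * d ^ i * (k * d * k⁻¹) * (n * d ^ i)⁻¹ := by group
  obtain ⟨k₀, hk₀, hk₀'⟩ := exists_moved hsol hD hN hne hd
  constructor
  · by_contra hno
    push Not at hno
    let D' : Set H := {e | (e : G) ∈ S}
    have hnc : ∀ a ∈ S, ∀ b ∈ S, a ≠ b → ¬ Commute a b := by
      rintro _ ⟨k, hk, rfl⟩ _ ⟨l, hl, rfl⟩ hab h
      refine hno (k⁻¹ * l) (mul_mem (inv_mem hk) hl) (fun he => hab ?_) ?_
      · conv_lhs => rw [← he]
        group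
      · rw [← RankThree.conj_commute_iff k]
        convert h using 1 <;> group
    have hbraid : ∀ a ∈ D', ∀ b ∈ D', a * b * a = b * a * b := by
      intro a ha b hb
      apply Subtype.ext
      by_cases hab : (a : G) = b
      · simp [hab]
      · exact braid hS (hSD _ ha) (hSD _ hb) (hnc _ ha _ hb hab)
    obtain ⟨P, hPn, hPp, hP⟩ := RankThree.Width.exists_normal_three D' hbraid
      (fun a ha => Subtype.ext (mul_self hS (hSD _ ha))) (fun g a ha => hclosed g g.2 a ha)
      (a := ⟨d, hdH⟩) (b := ⟨_, hSH _ ⟨k₀, hk₀, rfl⟩⟩) ⟨1, one_mem N, by simp⟩ ⟨k₀, hk₀, rfl⟩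
    let Q : Subgroup G := P.map H.subtype ⊓ N
    have hQ : Q = ⊥ := by
      haveI : Fact (Nat.Prime 3) := ⟨Nat.prime_three⟩
      refine pgroup_in_normal_eq_bot hsol (p := 3) hN inf_le_right ?_
        ((hPp.map H.subtype).to_le inf_le_left)
      rintro n hn x ⟨⟨y, hy, rfl⟩, hxN⟩
      exact ⟨⟨_, hPn.conj_mem y hy ⟨n, Subgroup.mem_sup_left hn⟩, rfl⟩, hN.conj_mem _ hxN n⟩
    have hmem : d * (k₀ * d * k₀⁻¹) ∈ Q := by
      refine ⟨⟨_, hP, rfl⟩, ?_⟩
      have := commutator_mem hN d hk₀
      rwa [inv_eq hS (hC.2 k₀ d hd)] at this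
    rw [hQ, Subgroup.mem_bot] at hmem
    exact hk₀' ((eq_inv_of_mul_eq_one_right hmem).trans (inv_eq hS hd))
  · by_contra hno
    push Not at hno
    let M : Subgroup G := Subgroup.closure {x | ∃ k ∈ N, x = d * (k * d * k⁻¹)}
    have hMN : M ≤ N := by
      rw [Subgroup.closure_le]
      rintro _ ⟨k, hk, rfl⟩
      have := commutator_mem hN d hk
      rwa [inv_eq hS (hC.2 k d hd)] at this
    have hpair : ∀ k ∈ N, ∀ l ∈ N, Commute (k * d * k⁻¹) (l * d * l⁻¹) := by
      intro k hk l hl
      rw [← RankThree.conj_commute_iff k⁻¹]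
      convert hno (k⁻¹ * l) (mul_mem (inv_mem hk) hl) using 1 <;> group
    haveI hcomm : IsMulCommutative M := by
      refine Subgroup.isMulCommutative_closure ?_
      rintro _ ⟨k, hk, rfl⟩ _ ⟨l, hl, rfl⟩
      exact ((Commute.refl d).mul_right (hno l hl)).mul_left ((hno k hk).symm.mul_right (hpair k hk l hl))
    have hMp : IsPGroup 2 M := by
      intro x
      refine ⟨1, Subtype.ext ?_⟩
      show (x : G) ^ 2 = 1
      obtain ⟨x, hx⟩ := x
      show x ^ 2 = 1
      induction hx using Subgroup.closure_induction with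
      | mem y hy =>
        obtain ⟨k, hk, rfl⟩ := hy
        exact sq_eq_one_of_commute (mul_self hS hd) (mul_self hS (hC.2 k d hd)) (hno k hk)
      | one => exact one_pow 2
      | mul y z hy hz iy iz =>
        have hyz : Commute y z := congrArg Subtype.val (hcomm.is_comm.comm ⟨y, hy⟩ ⟨z, hz⟩)
        rw [hyz.mul_pow, iy, iz, one_mul]
      | inv y _ iy => rw [inv_pow, iy, inv_one]
    have hnormM : ∀ n ∈ N, ∀ x ∈ M, n * x * n⁻¹ ∈ M := by
      intro n hn x hx
      induction hx using Subgroup.closure_induction with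
      | mem y hy =>
        obtain ⟨k, hk, rfl⟩ := hy
        have h1 : d * (n * d * n⁻¹) ∈ M := Subgroup.subset_closure ⟨n, hn, rfl⟩
        have h2 : d * (n * k * d * (n * k)⁻¹) ∈ M :=
          Subgroup.subset_closure ⟨n * k, mul_mem hn hk, rfl⟩
        have h3 := mul_mem (inv_mem h1) h2
        convert h3 using 1
        simp only [mul_inv_rev, inv_inv, mul_assoc, inv_eq hS hd, mul_self_assoc hS hd,
          inv_mul_cancel_left]
      | one => simp
      | mul y z _ _ iy iz => convert mul_mem iy iz using 1; group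
      | inv y _ iy => convert inv_mem iy using 1; group
    haveI : Fact (Nat.Prime 2) := ⟨Nat.prime_two⟩
    have hM := pgroup_in_normal_eq_bot hsol (p := 2) hN hMN hnormM hMp
    have h1 : d * (k₀ * d * k₀⁻¹) ∈ M := Subgroup.subset_closure ⟨k₀, hk₀, rfl⟩
    rw [hM, Subgroup.mem_bot] at h1
    exact hk₀' ((eq_inv_of_mul_eq_one_right h1).trans (inv_eq hS hd))

/-- A nontrivial normal subgroup of `N` is not a `{2,3}`-group. -/
theorem exists_prime_ge_five [Finite G]
    (hsol : ∀ N : Subgroup G, N.Normal → Group.IsSolvable ↥N → N = ⊥) {N K : Subgroup G} (hN : N.Normal)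
    (hmin : ∀ W : Subgroup G, W.Normal → W ≤ N → W ≠ ⊥ → W = N) (hKN : K ≤ N) (hK : K ≠ ⊥)
    (hKn : ∀ n ∈ N, ∀ x ∈ K, n * x * n⁻¹ ∈ K) :
    ∃ p : ℕ, p.Prime ∧ 5 ≤ p ∧ p ∣ Nat.card K := by
  classical
  by_contra hno
  push Not at hno
  have hne : N ≠ ⊥ := fun h => hK (le_bot_iff.1 (h ▸ hKN))
  haveI := hN
  let good : Subgroup N → Prop := fun A => A.Normal ∧ ∀ p : ℕ, p.Prime → p ∣ Nat.card A → p < 5
  obtain ⟨M, -, hM⟩ := Finite.exists_le_maximal (p := good) (a := ⊥)
    ⟨inferInstance, fun p hp h => absurd (Nat.dvd_one.1 (by simpa using h)) hp.ne_one⟩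
  have hle : ∀ A, good A → A ≤ M := by
    intro A hA
    haveI := hA.1
    haveI := hM.1.1
    refine le_sup_left.trans (hM.2 ⟨inferInstance, fun p hp h => ?_⟩ le_sup_right)
    rcases (Nat.Prime.dvd_mul hp).1 (h.trans (PSolvable.card_sup_dvd_mul A M)) with h | h
    · exact hA.2 p hp h
    · exact hM.1.2 p hp h
  haveI := hM.1.1
  haveI hMc : M.Characteristic := Subgroup.characteristic_iff_map_le.2 fun φ =>
    hle _ ⟨(inferInstance : M.Normal).map _ φ.surjective, fun p hp h => hM.1.2 p hp
      (h.trans (Subgroup.card_map_dvd M φ.toMonoidHom))⟩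
  haveI : (M.map N.subtype).Normal := ConjAct.normal_of_characteristic_of_normal
  have hKM : K.subgroupOf N ≤ M := hle _ ⟨⟨fun x hx n => hKn n n.2 x hx⟩, fun p hp h => by
    rw [Nat.card_congr (Subgroup.subgroupOfEquivOfLe hKN).toEquiv] at h
    by_contra hlt
    exact hno p hp (not_lt.1 hlt) h⟩
  have hMN : M.map N.subtype = N := by
    refine hmin _ inferInstance (Subgroup.map_subtype_le M) fun h => hK (eq_bot_iff.2 fun x hx => ?_)
    have := Subgroup.mem_map_of_mem N.subtype (hKM (show (⟨x, hKN hx⟩ : N) ∈ K.subgroupOf N from hx))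
    rwa [h] at this
  have hcard : Nat.card N = Nat.card M := by
    conv_lhs => rw [← hMN]
    exact Nat.card_congr (M.equivMapOfInjective _ N.subtype_injective).toEquiv.symm
  refine hne (hsol N hN (Induced.Burnside.isSolvable_of_card_eq 2 3 ((Nat.card N).factorization 2)
    ((Nat.card N).factorization 3) Nat.prime_two Nat.prime_three ?_))
  refine Nat.eq_of_factorization_eq Nat.card_pos.ne' (by positivity) fun q => ?_
  rw [Nat.factorization_mul (by positivity) (by positivity)]
  by_cases hq : q.Prime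
  · by_cases h2 : q = 2
    · subst h2; simp [Nat.prime_two, Nat.prime_three]
    · by_cases h3 : q = 3
      · subst h3; simp [Nat.prime_two, Nat.prime_three]
      · have : ¬ q ∣ Nat.card N := fun h => by
          have := hM.1.2 q hq (hcard ▸ h)
          have := hq.two_le
          interval_cases q <;> first | omega | exact absurd hq (by decide)
        simp [Nat.factorization_eq_zero_of_not_dvd this, Nat.prime_two.factorization, Nat.prime_three.factorization,
          h2, h3]
  · simp [Nat.factorization_eq_zero_of_not_prime _ hq]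

/-- The derived group is a simple non-abelian group. -/
theorem commutator_simple [Finite G]
    (hsol : ∀ N : Subgroup G, N.Normal → Group.IsSolvable ↥N → N = ⊥)
    (hperf : ⁅commutator G, commutator G⁆ = commutator G) (hD : IsThreeTranspositionClass D) :
    IsSimpleGroup (commutator G) ∧ ∃ x y : commutator G, x * y ≠ y * x := by
  have hC := isClosedSet_of_class hD
  have hS := hC.1
  obtain ⟨d, hd, -⟩ := hD.2.1
  have hnt : Nontrivial G := ⟨⟨d, 1, ne_one hS hd⟩⟩
  obtain ⟨N, hN, hNne, hmin⟩ := Subnormality.UniqueMaximal.exists_minimal_normal (G := G)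
  haveI := hN
  obtain ⟨K, hKn, hKN, hKne, hKmin⟩ : ∃ K : Subgroup G, (∀ n ∈ N, ∀ x ∈ K, n * x * n⁻¹ ∈ K) ∧
      K ≤ N ∧ K ≠ ⊥ ∧ ∀ W : Subgroup G, (∀ n ∈ N, ∀ x ∈ W, n * x * n⁻¹ ∈ W) → W ≤ K → W ≠ ⊥ →
        W = K := by
    obtain ⟨K, hK⟩ := (Set.toFinite {K : Subgroup G | (∀ n ∈ N, ∀ x ∈ K, n * x * n⁻¹ ∈ K) ∧
      K ≤ N ∧ K ≠ ⊥}).exists_minimal ⟨N, fun n _ x hx => hN.conj_mem x hx n, le_rfl, hNne⟩
    exact ⟨K, hK.1.1, hK.1.2.1, hK.1.2.2, fun W hW hle hne =>
      le_antisymm hle (hK.2 ⟨hW, hle.trans hK.1.2.1, hne⟩ hle)⟩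
  -- every member normalises `K`
  have hnorm : ∀ e ∈ D, ∀ x ∈ K, e * x * e⁻¹ ∈ K := by
    intro e he
    by_contra hnot
    push Not at hnot
    obtain ⟨x₀, hx₀, hx₀'⟩ := hnot
    let K' : Subgroup G := K.map (MulAut.conj e).toMonoidHom
    have hK'n : ∀ n ∈ N, ∀ x ∈ K', n * x * n⁻¹ ∈ K' := by
      rintro n hn _ ⟨x, hx, rfl⟩
      refine ⟨e⁻¹ * n * e * x * (e⁻¹ * n * e)⁻¹, hKn _ ?_ x hx, by simp; group⟩
      simpa using hN.conj_mem n hn e⁻¹
    have hdis : K ⊓ K' = ⊥ := by
      by_contra hne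
      have h1 := hKmin (K ⊓ K') (fun n hn x hx => ⟨hKn n hn x hx.1, hK'n n hn x hx.2⟩) inf_le_left hne
      have h2 : K ≤ K' := inf_eq_left.1 h1
      have h3 : K = K' := Subgroup.eq_of_le_of_card_ge h2
        (by rw [Nat.card_congr (Subgroup.equivMapOfInjective K (MulAut.conj e).toMonoidHom (MulAut.conj e).injective).toEquiv])
      apply hx₀'
      rw [h3]
      exact ⟨x₀, hx₀, rfl⟩
    obtain ⟨p, hp, hp5, hdvd⟩ := exists_prime_ge_five hsol hN hmin hKN hKne hKn
    haveI := Fact.mk hp
    obtain ⟨⟨k, hk⟩, hord⟩ := exists_prime_orderOf_dvd_card' (G := K) p hdvd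
    rw [Subgroup.orderOf_mk] at hord
    have hk' : e * k * e⁻¹ ∈ K' := ⟨k, hk, rfl⟩
    have hcom : Commute (e * k * e⁻¹) k⁻¹ := by
      rw [Commute, SemiconjBy]
      have h : ⁅e * k * e⁻¹, k⁻¹⁆ ∈ K ⊓ K' := by
        rw [commutatorElement_def]
        refine Subgroup.mem_inf.2 ⟨?_, ?_⟩
        · refine mul_mem (hKn _ ?_ _ (inv_mem hk)) (inv_mem (inv_mem hk))
          exact hN.conj_mem k (hKN hk) e
        · have h1 := hK'n k⁻¹ (inv_mem (hKN hk)) _ (inv_mem hk')
          have := mul_mem hk' h1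
          simpa only [mul_assoc] using this
      rw [hdis, Subgroup.mem_bot, commutatorElement_eq_one_iff_mul_comm] at h
      exact h
    have hpow : ∀ j : ℕ, (e * k * e⁻¹ * k⁻¹) ^ j = 1 → k ^ j = 1 := by
      intro j hj
      rw [hcom.mul_pow, mul_eq_one_iff_eq_inv, inv_pow, inv_inv] at hj
      have : k ^ j ∈ K ⊓ K' := ⟨pow_mem hk j, hj ▸ pow_mem hk' j⟩
      rwa [hdis, Subgroup.mem_bot] at this
    have he' : e * (k * e * k⁻¹) = e * k * e⁻¹ * k⁻¹ := by
      rw [inv_eq hS he]; group
    rcases hS.2 e he _ (hC.2 k e he) with h | h <;>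
    · rw [he'] at h
      have := Nat.le_of_dvd (by norm_num) (hord ▸ orderOf_dvd_of_pow_eq_one (hpow _ h))
      omega
  have hKnormal : K.Normal := by
    refine ⟨fun x hx g => ?_⟩
    have hg : g ∈ Subgroup.closure D := hD.2.2 ▸ Subgroup.mem_top g
    induction hg using Subgroup.closure_induction_left with
    | one => simpa using hx
    | mul_left e he y _ ih =>
      convert hnorm e he _ ih using 1; group
    | inv_mul_cancel e he y _ ih =>
      rw [inv_eq hS he]; convert hnorm e he _ ih using 1; group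
  have hKeq : K = N := hmin K hKnormal hKN hKne
  subst hKeq
  -- `N` is the only minimal normal subgroup
  have hcent : ∀ e, (∀ x ∈ K, Commute e x) → e = 1 := by
    have hsplit : ∀ L : Subgroup G, L.Normal → L ≠ ⊥ → K ⊓ L ≠ ⊥ := by
      intro L hL hLne hdis
      obtain ⟨⟨a, ha, hane, hac⟩, -⟩ := exists_both hsol hD hN hNne hd
      obtain ⟨-, b, hb, hbc⟩ := exists_both hsol hD hL hLne hd
      set u := d * (a * d * a⁻¹) with hu
      set v := d * (b * d * b⁻¹) with hv
      have huK : u ∈ K := by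
        have := commutator_mem hN d ha
        rwa [inv_eq hS (hC.2 a d hd)] at this
      have hvL : v ∈ L := by
        have := commutator_mem hL d hb
        rwa [inv_eq hS (hC.2 b d hd)] at this
      have hu1 : u ≠ 1 := fun h => hane ((eq_inv_of_mul_eq_one_right h).trans (inv_eq hS hd))
      have hv1 : v ≠ 1 := fun h => hbc (by
        rw [(eq_inv_of_mul_eq_one_right h).trans (inv_eq hS hd)])
      have hu2 : u ^ 2 = 1 := sq_eq_one_of_commute (mul_self hS hd) (mul_self hS (hC.2 a d hd)) hac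
      have hv3 : v ^ 3 = 1 := cube_eq_one hS hd (hC.2 b d hd) hbc
      have huv : Commute u⁻¹ v := Subgroup.commute_of_normal_of_disjoint K L hN hL
        (disjoint_iff.2 hdis) _ _ (inv_mem huK) hvL
      have hprod : (a * d * a⁻¹) * (b * d * b⁻¹) = u⁻¹ * v := by
        rw [hu, hv, mul_inv_rev, inv_eq hS hd, inv_eq hS (hC.2 a d hd)]
        simp only [mul_assoc, mul_self_assoc hS hd]
      have hcases := hS.2 _ (hC.2 a d hd) _ (hC.2 b d hd)
      rw [hprod, huv.mul_pow, huv.mul_pow, inv_pow, inv_pow] at hcases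
      rcases hcases with h | h
      · rw [hu2, inv_one, one_mul] at h
        apply hv1
        calc v = v ^ 3 * (v ^ 2)⁻¹ := by group
          _ = 1 := by rw [hv3, h]; group
      · rw [hv3, mul_one, inv_eq_one] at h
        apply hu1
        calc u = u ^ 3 * (u ^ 2)⁻¹ := by group
          _ = 1 := by rw [hu2, h]; group
    intro e he
    let C := Subgroup.centralizer (K : Set G)
    have heC : e ∈ C := fun x hx => (he x hx).symm.eq
    by_contra hne
    haveI : C.Normal := Subgroup.normal_centralizer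
    refine hsplit C inferInstance (fun h => hne (by rwa [h, Subgroup.mem_bot] at heC)) ?_
    by_contra hKC
    have h1 := hmin _ inferInstance inf_le_left hKC
    refine hNne (hsol K hN (Group.isSolvable_of_comm fun x y => Subtype.ext ?_))
    exact (inf_eq_left.1 h1 y.2) x x.2
  -- the members of one image modulo `N`
  let π := QuotientGroup.mk' K
  have hπD : IsThreeTranspositionSet D ∧ ∀ e ∈ D, ∀ f ∈ D, Commute (π e) (π f) → π e = π f := by
    refine ⟨hS, fun e he f hf h => by_contra fun hne => ?_⟩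
    have hall : ∀ k ∈ K, Commute f (k * e * k⁻¹) := by
      intro k hk
      by_contra hnc
      have hk1 : π k = 1 := (QuotientGroup.eq_one_iff k).2 hk
      have hkπ : π (k * e * k⁻¹) = π e := by simp [hk1]
      have h3 := congrArg π (cube_eq_one hS hf (hC.2 k e he) hnc)
      rw [map_pow, map_mul, hkπ, map_one] at h3
      have h2 := sq_eq_one_of_commute (by rw [← map_mul, mul_self hS hf, map_one])
        (by rw [← map_mul, mul_self hS he, map_one]) h.symm
      apply hne
      have : π f * π e = 1 := by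
        calc π f * π e = (π f * π e) ^ 3 * ((π f * π e) ^ 2)⁻¹ := by group
          _ = 1 := by rw [h3, h2]; group
      rw [eq_inv_of_mul_eq_one_right this, ← map_inv, inv_eq hS hf]
    obtain ⟨k₀, hk₀, hk₀'⟩ := exists_moved hsol hD hN hNne he
    let M : Subgroup G := Subgroup.closure {x | ∃ k ∈ K, x = e * (k * e * k⁻¹)}
    have hMK : M ≤ K := by
      rw [Subgroup.closure_le]
      rintro _ ⟨k, hk, rfl⟩
      have := commutator_mem hN e hk
      rwa [inv_eq hS (hC.2 k e he)] at this
    have hMn : ∀ n ∈ K, ∀ x ∈ M, n * x * n⁻¹ ∈ M := by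
      intro n hn x hx
      induction hx using Subgroup.closure_induction with
      | mem y hy =>
        obtain ⟨k, hk, rfl⟩ := hy
        have h1 : e * (n * e * n⁻¹) ∈ M := Subgroup.subset_closure ⟨n, hn, rfl⟩
        have h2 : e * (n * k * e * (n * k)⁻¹) ∈ M :=
          Subgroup.subset_closure ⟨n * k, mul_mem hn hk, rfl⟩
        have h3 := mul_mem (inv_mem h1) h2
        convert h3 using 1
        simp only [mul_inv_rev, inv_inv, mul_assoc, inv_eq hS he, mul_self_assoc hS he,
          inv_mul_cancel_left]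
      | one => simp
      | mul y z _ _ iy iz => convert mul_mem iy iz using 1; group
      | inv y _ iy => convert inv_mem iy using 1; group
    have hMne : M ≠ ⊥ := fun hb => hk₀' (by
      have h1 : e * (k₀ * e * k₀⁻¹) ∈ M := Subgroup.subset_closure ⟨k₀, hk₀, rfl⟩
      rw [hb, Subgroup.mem_bot] at h1
      exact (eq_inv_of_mul_eq_one_right h1).trans (inv_eq hS he))
    have hMeq := hKmin M hMn hMK hMne
    have hfe : Commute f e := by simpa using hall 1 (one_mem K)
    have hfM : ∀ x ∈ M, Commute f x := by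
      intro x hx
      induction hx using Subgroup.closure_induction with
      | mem y hy => obtain ⟨k, hk, rfl⟩ := hy; exact hfe.mul_right (hall k hk)
      | one => exact Commute.one_right f
      | mul y z _ _ iy iz => exact iy.mul_right iz
      | inv y _ iy => exact iy.inv_right
    exact ne_one hS hf (hcent f fun x hx => hfM x (hMeq ▸ hx))
  -- the quotient has a 3-group as derived group
  let D' : Set (G ⧸ K) := π '' D
  have hbraid : ∀ a ∈ D', ∀ b ∈ D', a * b * a = b * a * b := by
    rintro _ ⟨e, he, rfl⟩ _ ⟨f, hf, rfl⟩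
    by_cases h : Commute (π e) (π f)
    · rw [hπD.2 e he f hf h]
    · have := congrArg π (braid hS he hf fun hc => h (hc.map π))
      simpa using this
  have hsq : ∀ a ∈ D', a * a = 1 := by
    rintro _ ⟨e, he, rfl⟩; rw [← map_mul, mul_self hS he, map_one]
  have hcl : ∀ g : G ⧸ K, ∀ a ∈ D', g * a * g⁻¹ ∈ D' := by
    rintro g _ ⟨e, he, rfl⟩
    obtain ⟨g, rfl⟩ := QuotientGroup.mk'_surjective K g
    exact ⟨g * e * g⁻¹, hC.2 g e he, by simp [π]⟩
  let P : Subgroup (G ⧸ K) := pCore 3 (G ⧸ K)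
  haveI : Fact (Nat.Prime 3) := ⟨Nat.prime_three⟩
  have hdP : ∀ e ∈ D, π d * π e ∈ P := by
    intro e he
    obtain ⟨Q, hQn, hQp, hQ⟩ := RankThree.Width.exists_normal_three D' hbraid hsq hcl
      (Set.mem_image_of_mem π hd) (Set.mem_image_of_mem π he)
    exact (le_sSup ⟨hQn, hQp⟩ : Q ≤ P) hQ
  have hle : (commutator G).map π ≤ P := by
    rw [Subgroup.map_le_iff_le_comap, commutator_def, Subgroup.commutator_le]
    have hcyc : ∀ g : G, QuotientGroup.mk' P (π g) ∈ Subgroup.zpowers (QuotientGroup.mk' P (π d)) := by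
      have hle' : Subgroup.closure D ≤
          (Subgroup.zpowers (QuotientGroup.mk' P (π d))).comap ((QuotientGroup.mk' P).comp π) := by
        rw [Subgroup.closure_le]
        intro e he
        have h1 : QuotientGroup.mk' P (π d * π e) = 1 := (QuotientGroup.eq_one_iff _).2 (hdP e he)
        rw [map_mul] at h1
        simp only [SetLike.mem_coe, Subgroup.mem_comap, MonoidHom.comp_apply]
        rw [eq_inv_of_mul_eq_one_right h1]
        exact inv_mem (Subgroup.mem_zpowers _)
      exact fun g => hle' (hD.2.2 ▸ Subgroup.mem_top g)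
    intro x _ y _
    obtain ⟨i, hi⟩ := hcyc x
    obtain ⟨j, hj⟩ := hcyc y
    simp only at hi hj
    rw [Subgroup.mem_comap, ← QuotientGroup.eq_one_iff, map_commutatorElement]
    show QuotientGroup.mk' P ⁅π x, π y⁆ = 1
    rw [map_commutatorElement, ← hi, ← hj, commutatorElement_eq_one_iff_mul_comm]
    exact (Commute.zpow_zpow_self _ i j).eq
  have hRbot : (commutator G).map π = ⊥ := by
    set R := (commutator G).map π
    have hRp : IsPGroup 3 R := (Cores.pCore_isPGroup 3).to_le hle
    haveI := hRp.isNilpotent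
    have hperfR : ⁅R, R⁆ = R := by rw [← Subgroup.map_commutator, hperf]
    by_contra hne
    haveI : Nontrivial R := (Subgroup.nontrivial_iff_ne_bot R).2 hne
    have hlt := Group.IsSolvable.commutator_lt_top_of_nontrivial (G := R)
    apply hlt.ne
    apply (Subgroup.map_injective R.subtype_injective)
    rw [commutator_def, Subgroup.map_commutator, ← MonoidHom.range_eq_map, Subgroup.range_subtype,
      hperfR]
  have hGK : commutator G = K := by
    refine le_antisymm ?_ ?_
    · rw [← QuotientGroup.ker_mk' K]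
      exact ((Subgroup.map_eq_bot_iff _).1 hRbot)
    · have hMK : K ⊓ commutator G ≠ ⊥ := by
        obtain ⟨k₀, hk₀, hk₀'⟩ := exists_moved hsol hD hN hNne hd
        intro hb
        have hm : ⁅d, k₀⁆ ∈ K ⊓ commutator G := by
          refine Subgroup.mem_inf.2 ⟨?_, Subgroup.commutator_mem_commutator (Subgroup.mem_top _) (Subgroup.mem_top _)⟩
          rw [commutatorElement_def]
          exact mul_mem (hN.conj_mem k₀ hk₀ d) (inv_mem hk₀)
        rw [hb, Subgroup.mem_bot, commutatorElement_eq_one_iff_mul_comm] at hm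
        exact hk₀' (mul_inv_eq_iff_eq_mul.2 hm.symm)
      exact inf_eq_left.1 (hmin _ inferInstance inf_le_left hMK)
  have hsimp : IsSimpleGroup K := by
    haveI : Nontrivial K := (Subgroup.nontrivial_iff_ne_bot K).2 hNne
    refine ⟨fun W hW => ?_⟩
    by_cases hW0 : W = ⊥
    · exact Or.inl hW0
    refine Or.inr ?_
    have h1 : W.map K.subtype = K := hKmin _ (fun n hn x hx => by
        obtain ⟨y, hy, rfl⟩ := hx
        exact ⟨_, hW.conj_mem y hy ⟨n, hn⟩, rfl⟩) (Subgroup.map_subtype_le W)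
      fun h => hW0 ((Subgroup.map_eq_bot_iff_of_injective _ K.subtype_injective).1 h)
    apply Subgroup.map_injective K.subtype_injective
    rw [h1, ← MonoidHom.range_eq_map, Subgroup.range_subtype]
  rw [hGK]
  refine ⟨hsimp, ?_⟩
  by_contra h
  push Not at h
  exact hNne (hsol K hN (Group.isSolvable_of_comm h))

end Cfsg.Agent.Lib.SporFischer
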