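import Cfsg.Agent.Lib.SporFischer.VLines
import Cfsg.Agent.Lib.Symplectic.Std

/-!
Fischer groups with lines of three members are the symplectic groups over the field of two elements: the
non-commutation functions of the members are the non-zero vectors of a space of functions, and evaluation
is a symplectic form whose transvections are the members.
-/

set_option autoImplicit false
set_option linter.style.haveILetI false

open Cfsg Cfsg.Agent.Lib.ThreeTranspositions Cfsg.Agent.Lib.RankThree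

namespace Cfsg.Agent.Lib.SporFischer

universe u

variable {G : Type u} [Group G] {D : Set G}

/-- An element of the two-core of `⟨D_x⟩` moving a member gives a third point of a line. -/
theorem hasVLines_of_pCore [Finite G] (h : IsFischerPair D) {x : G} (hx : x ∈ D)
    (hN : ¬ pCore 2 ↥(Subgroup.closure (comSet D x)) ≤ Subgroup.center ↥(Subgroup.closure (comSet D x))) :
    IsFischerPair.HasVLines D := by
  have hS := h.closed.1
  set H := Subgroup.closure (comSet D x)
  set N := pCore 2 ↥H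
  have hNp : IsPGroup 2 N := Cores.pCore_isPGroup 2
  obtain ⟨y, hy, n, hn, hne⟩ : ∃ y, ∃ hy : y ∈ comSet D x, ∃ n ∈ N,
      n * (⟨y, Subgroup.subset_closure hy⟩ : H) * n⁻¹ ≠ ⟨y, Subgroup.subset_closure hy⟩ := by
    by_contra hh
    push Not at hh
    apply hN
    intro n hn
    rw [Subgroup.mem_center_iff]
    intro g
    apply Subtype.ext
    show (g : G) * n = n * g
    suffices ∀ z ∈ H, z * (n : G) = n * z from this g g.2
    intro z₁ hz₁
    induction hz₁ using Subgroup.closure_induction with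
    | mem z hz => exact (congrArg Subtype.val (mul_inv_eq_iff_eq_mul.1 (hh z hz n hn))).symm
    | one => simp
    | mul a b _ _ ia ib => exact (Commute.mul_left ia ib).eq
    | inv a _ ia => exact (Commute.inv_left ia).eq
  let Y : H := ⟨y, Subgroup.subset_closure hy⟩
  let W : H := n * Y * n⁻¹
  let π := QuotientGroup.mk' N
  have hπ : π W = π Y := by
    have : π n = 1 := (QuotientGroup.eq_one_iff n).2 hn
    simp [W, this]
  have hYinv : π Y * π Y = 1 := by
    rw [← map_mul, show Y * Y = 1 from Subtype.ext (mul_self hS hy.1), map_one]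
  have hthree : ∀ a : H, π a = 1 → a ^ 3 = 1 → a = 1 := by
    intro a ha h3
    obtain ⟨k, hk⟩ := hNp ⟨a, (QuotientGroup.eq_one_iff a).1 ha⟩
    have hk' : a ^ 2 ^ k = 1 := by simpa [Subtype.ext_iff] using hk
    have := pow_gcd_eq_one.2 ⟨hk', h3⟩
    rwa [show Nat.gcd (2 ^ k) 3 = 1 from Nat.Coprime.pow_left k (by norm_num), pow_one] at this
  have hwx : (W : G) ∈ comSet D x := by
    have h1 := h.comSet_conj (n : G) hy
    have hnx : Commute (n : G) x := by
      suffices ∀ z ∈ H, Commute z x from this n n.2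
      intro z₁ hz₁
      induction hz₁ using Subgroup.closure_induction with
      | mem z hz => exact hz.2.2.symm
      | one => exact Commute.one_left x
      | mul a b _ _ ia ib => exact ia.mul_left ib
      | inv a _ ia => exact ia.inv_left
    rw [hnx.eq, mul_inv_cancel_right] at h1
    exact h1
  have hyW : y ≠ (W : G) := fun e => hne (Subtype.ext e.symm)
  have hc : Commute y (W : G) := by
    by_contra hc
    have e : (Y * W) ^ 3 = 1 := Subtype.ext (cube_eq_one hS hy.1 hwx.1 hc)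
    have := congrArg Subtype.val (hthree (Y * W) (by rw [map_mul, hπ, hYinv]) e)
    exact hyW ((eq_inv_of_mul_eq_one_left this).trans (inv_eq hS hwx.1))
  have hr : VRel D x y W := by
    refine ⟨hy, hwx, hyW, hc, fun e he _ _ => ?_⟩
    let Z : H := ⟨e, Subgroup.subset_closure he⟩
    have hZ : π Z * π Z = 1 := by
      rw [← map_mul, show Z * Z = 1 from Subtype.ext (mul_self hS he.1), map_one]
    have key : ∀ U U' : H, (U : G) ∈ D → (U' : G) ∈ D → π U = π U' → π U' * π U' = 1 →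
        Commute e (U' : G) → Commute e (U : G) := by
      intro U U' hU hU' hπU hU2 hcc
      by_contra hnc
      have h3 : (Z * U) ^ 3 = 1 := Subtype.ext (cube_eq_one hS he.1 hU hnc)
      have h2 : π (Z * U) ^ 2 = 1 := by
        have hcc' : Commute Z U' := Subtype.ext hcc
        rw [map_mul, hπU, (hcc'.map π).mul_pow, pow_two, pow_two, hZ, hU2, mul_one]
      have h1 : π (Z * U) = 1 := by
        calc π (Z * U) = π (Z * U) ^ 3 * (π (Z * U) ^ 2)⁻¹ := by group
          _ = 1 := by rw [h2, ← map_pow, h3, map_one]; group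
      have := congrArg Subtype.val (hthree _ h1 h3)
      exact hnc ((eq_inv_of_mul_eq_one_left this).trans (inv_eq hS hU) ▸ Commute.refl e)
    exact ⟨key W Y hwx.1 hy.1 hπ hYinv, key Y W hy.1 hwx.1 hπ.symm (by rw [hπ, hYinv])⟩
  intro u hu v hv
  obtain ⟨g, rfl, rfl⟩ := h.com hx hy.1 hu hv.1 hy.2.1 hv.2.1 hy.2.2 hv.2.2
  exact ⟨_, h.vRel_conj g hr⟩

theorem sp_one_eq : ∀ u v : Fin 1 ⊕ Fin 1 → ZMod 2, u ≠ 0 → v ≠ 0 →
    u (Sum.inr 0) * v (Sum.inl 0) - u (Sum.inl 0) * v (Sum.inr 0) = 0 → u = v := by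
  intro u v hu hv he
  have hu' : u (Sum.inl 0) ≠ 0 ∨ u (Sum.inr 0) ≠ 0 := by
    by_contra hh
    push Not at hh
    refine hu (funext fun i => ?_)
    rcases i with i | i <;> rw [Subsingleton.elim i 0]
    exacts [hh.1, hh.2]
  have hv' : v (Sum.inl 0) ≠ 0 ∨ v (Sum.inr 0) ≠ 0 := by
    by_contra hh
    push Not at hh
    refine hv (funext fun i => ?_)
    rcases i with i | i <;> rw [Subsingleton.elim i 0]
    exacts [hh.1, hh.2]
  have key : ∀ a b c d : ZMod 2, (a ≠ 0 ∨ b ≠ 0) → (c ≠ 0 ∨ d ≠ 0) → b * c - a * d = 0 → a = c ∧ b = d := by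
    decide
  obtain ⟨h1, h2⟩ := key _ _ _ _ hu' hv' he
  refine funext fun i => ?_
  rcases i with i | i <;> rw [Subsingleton.elim i 0]
  exacts [h1, h2]

namespace IsFischerPair

variable [Finite G]

/-- With lines of three members, a member adjacent to two adjacent members commutes with the third. -/
theorem commute_third_of_lines_three (h : IsFischerPair D) (hV : HasVLines D)
    (h3 : ∀ x ∈ D, ∀ y ∈ comSet D x, (vLine D x y).ncard = 3) {x y z : G} (hx : x ∈ D) (hy : y ∈ D)
    (hz : z ∈ D) (hxy : ¬ Commute x y) (hzx : ¬ Commute z x) (hzy : ¬ Commute z y) :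
    Commute z (x * y * x) := by
  have hS := h.closed.1
  by_contra hzw
  -- for a common perp `u`, the two other thirds
  have build : ∀ x y u : G, x ∈ D → y ∈ D → ¬ Commute x y → u ∈ comSet D x → u ∈ comSet D y →
      ∃ x' y', VRel D u x x' ∧ VRel D u y y' ∧ x' * y' * x' = x * y * x ∧ ¬ Commute x' y' := by
    intro x y u hx hy hxy hux huy
    have hxu := mem_comSet_symm hx hux
    have hyu := mem_comSet_symm hy huy
    obtain ⟨x', hx'⟩ := hV u hux.1 x hxu
    have hx'y : ¬ Commute y x' := fun hc => hxy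
      (h.commute_vLine_of_two hux.1 hxu (Or.inl rfl) (Or.inr (Or.inr hx')) (Ne.symm hx'.2.1.2.1) hy
        huy.2.2 hc (Or.inr (Or.inl rfl))).symm
    set g := x * y with hg
    have hgu : g * u * g⁻¹ = u := mul_inv_eq_iff_eq_mul.2 (hux.2.2.mul_left huy.2.2).eq
    have hgx : g * x * g⁻¹ = y := by rw [hg, braid hS hx hy hxy]; group
    have hr := h.vRel_conj g hx'
    rw [hgu, hgx] at hr
    rw [hg, h.conj_pair_eq hx hy hx'.2.1.1 hx'y] at hr
    refine ⟨x', x * x' * y * x' * x, hx', hr, ?_, ?_⟩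
    · have e : x' * x = x * x' := hx'.2.2.2.1.symm.eq
      calc x' * (x * x' * y * x' * x) * x' = (x' * x) * x' * y * (x' * (x * x')) := by group
        _ = x * (x' * x') * y * (x' * x') * x := by rw [← e]; nth_rewrite 1 [e]; group
        _ = x * y * x := by rw [mul_self hS hx'.2.1.1, mul_one, mul_one]
    · intro hc
      exact hxy ((h.commute_vLine_of_two hux.1 hyu (Or.inl rfl) (Or.inr (Or.inr hr)) (Ne.symm hr.2.1.2.1)
        hx (hux.2.2) (by
          refine (h.commute_vLine_of_two hux.1 hxu (Or.inl rfl) (Or.inr (Or.inr hx')) (Ne.symm hx'.2.1.2.1)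
            hr.2.1.1 hr.2.1.2.2.symm hc.symm (Or.inr (Or.inl rfl))).symm) (Or.inr (Or.inl rfl))))
  -- a common perp not commuting with `z` is impossible
  have case1 : ∀ x y u : G, x ∈ D → y ∈ D → ¬ Commute x y → u ∈ comSet D x → u ∈ comSet D y →
      ¬ Commute z x → ¬ Commute z y → ¬ Commute z u → Commute z (x * y * x) := by
    intro x y u hx hy hxy hux huy hzx hzy hzu
    obtain ⟨x', y', hx', hy', he, -⟩ := build x y u hx hy hxy hux huy
    have key : ∀ {p q : G}, p ∈ comSet D u → VRel D u p q → ¬ Commute z p → Commute z q := by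
      intro p q hp hr hzp
      have hsub : ({u, p, q} : Set G) = vLine D u p := by
        refine Set.eq_of_subset_of_ncard_le ?_ ?_ (Set.toFinite _)
        · rintro w (rfl | rfl | rfl)
          exacts [Or.inl rfl, Or.inr (Or.inl rfl), Or.inr (Or.inr hr)]
        · rw [h3 u hux.1 p hp,
            Set.ncard_eq_three.2 ⟨u, p, q, Ne.symm hp.2.1, Ne.symm hr.2.1.2.1, hr.2.2.1, rfl⟩]
      obtain ⟨r, hr', hc⟩ := h.exists_perp hV hux.1 hp hz
      rw [← hsub] at hr'
      rcases hr' with rfl | rfl | rfl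
      exacts [absurd hc hzu, absurd hc hzp, hc]
    have h1 := key hx'.1 hx' hzx
    have h2 := key hy'.1 hy' hzy
    rw [← he]
    exact (h1.mul_right h2).mul_right h1
  have hP : ∀ u, u ∈ comSet D x → u ∈ comSet D y → Commute z u := fun u h1 h2 =>
    by_contra fun hc => hzw (case1 x y u hx hy hxy h1 h2 hzx hzy hc)
  -- some member of `D_x` is a common perp
  have hmeet : ∀ a ∈ comSet D x, ∃ u ∈ vLine D x a, u ∈ comSet D x ∧ u ∈ comSet D y := by
    intro a ha
    obtain ⟨u, hu, hc⟩ := h.exists_perp hV hx ha hy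
    have hne : u ≠ x := fun e => hxy (e ▸ hc).symm
    have huy : u ≠ y := fun e => hxy (vLine_commute ha (Or.inl rfl) (e ▸ hu))
    exact ⟨u, hu, h.mem_comSet_of_mem_vLine hx ha (Or.inl rfl) hu (Ne.symm hne), vLine_subset hx ha hu, huy, hc⟩
  obtain ⟨a, ha⟩ : ∃ a, a ∈ comSet D x := by
    obtain ⟨b, hb, hbx, hc⟩ := h.width x hx
    exact ⟨b, hb, hbx, hc⟩
  set w := x * y * x with hw
  have hwD : w ∈ D := third_mem h.closed hx hy
  have hxw : ¬ Commute x w := third_not_commute_left h.closed hx hy hxy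
  have hset : ∀ p q : G, p ∈ D → q ∈ D → ¬ Commute p q → p * q * p = w →
      (∀ u, u ∈ comSet D p → u ∈ comSet D q → Commute z u) → ¬ Commute z p →
      comSet D p ∩ comSet D q = comSet D z ∩ comSet D w := by
    intro p q hp hq hpq he hall hzp
    refine Set.eq_of_subset_of_ncard_le ?_ ?_ (Set.toFinite _)
    · rintro u ⟨h1, h2⟩
      have hcu : Commute u w := he ▸ ((h1.2.2.symm.mul_right h2.2.2.symm).mul_right h1.2.2.symm)
      exact ⟨⟨h1.1, fun e => hzp (e ▸ h1.2.2.symm), hall u h1 h2⟩, h1.1, fun e => by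
        have hcm : Commute p w := e ▸ h1.2.2
        exact third_not_commute_left h.closed hp hq hpq (he ▸ hcm), hcu.symm⟩
    · obtain ⟨g, e1, e2⟩ := h.adj hz hwD hp hq hzw hpq
      rw [← e1, ← e2, ← comSet_image h.closed, ← comSet_image h.closed, ← Set.image_inter (conj_inj' g),
        Set.ncard_image_of_injective _ (conj_inj' g)]
  have hPw := hset x y hx hy hxy rfl hP hzx
  obtain ⟨b, hb, hab⟩ : ∃ b ∈ comSet D x, ¬ Commute a b := by
    obtain ⟨b, hb, hc⟩ := h.exists_adj_in_comSet hV hx ha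
    exact ⟨b, hb, fun h' => hc h'.symm⟩
  -- two such common perps commute
  have hclique : ∀ u v, u ∈ comSet D x → u ∈ comSet D y → v ∈ comSet D x → v ∈ comSet D y → Commute v u := by
    intro u v hux huy hvx hvy
    obtain ⟨x', y', hx', hy', he, hx'y'⟩ := build x y u hx hy hxy hux huy
    have hzu := hP u hux huy
    have hne : ∀ {p q : G}, VRel D u p q → ¬ Commute z p → ¬ Commute z q := fun hr hzp hc => hzp
      (h.commute_vLine_of_two hux.1 hr.1 (Or.inl rfl) (Or.inr (Or.inr hr)) (Ne.symm hr.2.1.2.1) hz hzu hc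
        (Or.inr (Or.inl rfl)))
    have hzx' := hne hx' hzx
    have hzy' := hne hy' hzy
    have hP' : ∀ u₁, u₁ ∈ comSet D x' → u₁ ∈ comSet D y' → Commute z u₁ := fun u₁ h1 h2 =>
      by_contra fun hc => hzw (by
        have := case1 x' y' u₁ hx'.2.1.1 hy'.2.1.1 hx'y' h1 h2 hzx' hzy' hc
        rwa [he] at this)
    have hPw' := hset x' y' hx'.2.1.1 hy'.2.1.1 hx'y' he hP' hzx'
    have hm : v ∈ comSet D x' ∩ comSet D y' := by rw [hPw', ← hPw]; exact ⟨hvx, hvy⟩
    exact h.commute_vLine_of_two hux.1 hx'.1 (Or.inr (Or.inl rfl)) (Or.inr (Or.inr hx')) hx'.2.2.1 hvx.1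
      hvx.2.2.symm hm.1.2.2.symm (Or.inl rfl)
  obtain ⟨u, hua, hux, huy⟩ := hmeet a ha
  obtain ⟨v, hvb, hvx, hvy⟩ := hmeet b hb
  have hvu := hclique u v hux huy hvx hvy
  have hva : Commute v a := h.commute_vLine_of_two hx ha (Or.inl rfl) hua (Ne.symm hux.2.1) hvx.1
    hvx.2.2.symm hvu (Or.inr (Or.inl rfl))
  exact hab (h.commute_vLine_of_two hx hb (Or.inl rfl) hvb (Ne.symm hvx.2.1) ha.1 ha.2.2.symm hva.symm
    (Or.inr (Or.inl rfl)))

/-- Fischer groups with lines of three members are symplectic. -/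
theorem symplectic_of_lines_three (h : IsFischerPair D) (hV : HasVLines D) (hZ : Subgroup.center G = ⊥)
    (h3 : ∀ x ∈ D, ∀ y ∈ comSet D x, (vLine D x y).ncard = 3) :
    ∃ n : ℕ, Nonempty (G ≃* Matrix.symplecticGroup (Fin n) (ZMod 2)) ∧ 2 ≤ n ∧
      ∀ x ∈ D, 3 ≤ n → ∃ a ∈ comSet D x, ∃ b ∈ comSet D x, ∃ c ∈ comSet D x, ∃ e ∈ comSet D x,
        ¬ Commute a b ∧ ¬ Commute b c ∧ ¬ Commute c e ∧ Commute a c ∧ Commute a e ∧ Commute b e := by
  classical
  have hS := h.closed.1
  haveI : Finite ↥D := Subtype.finite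
  let φ : ↥D → (↥D → ZMod 2) := fun x z => if Commute (x : G) (z : G) then 0 else 1
  have hφsymm : ∀ x z, φ x z = φ z x := fun x z => by
    simp only [φ, Commute.symm_iff (a := (x : G))]
  have hφinj : Function.Injective φ := by
    intro x y e
    apply Subtype.ext
    refine eq_of_adjSet h.cls h.modules h.two x.2 y.2 (Set.ext fun z => ?_)
    have hz : ∀ hz : z ∈ D, (Commute (x : G) z ↔ Commute (y : G) z) := fun hz => by
      have := congrFun e ⟨z, hz⟩
      simp only [φ] at this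
      split_ifs at this with a b b <;> simp_all
    exact ⟨fun ha => ⟨ha.1, fun hc => ha.2 ((hz ha.1).2 hc)⟩, fun ha => ⟨ha.1, fun hc => ha.2 ((hz ha.1).1 hc)⟩⟩
  have hφne : ∀ x, φ x ≠ 0 := by
    intro x e
    obtain ⟨c, hc, hxc⟩ := exists_not_commute h.cls h.two x.2
    have := congrFun e ⟨c, hc⟩
    simp [φ, hxc] at this
  have hsecant : ∀ x y : ↥D, ¬ Commute (x : G) y →
      φ ⟨(x : G) * y * x, third_mem h.closed x.2 y.2⟩ = φ x + φ y := by
    intro x y hxy
    funext z
    simp only [φ, Pi.add_apply]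
    set w : G := (x : G) * y * x
    have hy' : (x : G) * w * x = y := by
      simp only [w]; simp only [mul_assoc, mul_self hS x.2, mul_self_assoc hS x.2, mul_one]
    by_cases h1 : Commute (x : G) z <;> by_cases h2 : Commute (y : G) z
    · simp [h1, h2, show Commute w (z : G) from (h1.mul_left h2).mul_left h1]
    · have : ¬ Commute w (z : G) := fun hw => h2 (hy' ▸ (h1.mul_left hw).mul_left h1)
      simp [h1, h2, show ¬ Commute ((x : G) * y * x) z from this]
    · have : ¬ Commute w (z : G) := fun hw => h1 (by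
        have e : (y : G) * w * y = x := by
          simp only [w]; rw [braid hS x.2 y.2 hxy]
          simp only [mul_assoc, mul_self hS y.2, mul_self_assoc hS y.2, mul_one]
        exact e ▸ (h2.mul_left hw).mul_left h2)
      simp [h1, h2, show ¬ Commute ((x : G) * y * x) z from this]
    · have := h.commute_third_of_lines_three hV h3 x.2 y.2 z.2 hxy (fun hc => h1 hc.symm) (fun hc => h2 hc.symm)
      simp [h1, h2, this.symm]; decide
  have hsum : ∀ x y : ↥D, x ≠ y → ∃ w, φ w = φ x + φ y := by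
    intro x y hne
    by_cases hxy : Commute (x : G) y
    · have hym : (y : G) ∈ comSet D x := ⟨y.2, fun e => hne (Subtype.ext e.symm), hxy⟩
      obtain ⟨v, hv⟩ := hV x x.2 y hym
      refine ⟨⟨v, hv.2.1.1⟩, ?_⟩
      have hsub : ({(x : G), (y : G), v} : Set G) = vLine D x y := by
        refine Set.eq_of_subset_of_ncard_le ?_ ?_ (Set.toFinite _)
        · rintro w (rfl | rfl | rfl)
          exacts [Or.inl rfl, Or.inr (Or.inl rfl), Or.inr (Or.inr hv)]
        · rw [h3 x x.2 y hym,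
            Set.ncard_eq_three.2 ⟨(x : G), (y : G), v, Ne.symm hym.2.1, Ne.symm hv.2.1.2.1, hv.2.2.1, rfl⟩]
      funext z
      simp only [φ, Pi.add_apply]
      have two : ∀ {a b c : G}, a ∈ vLine D x y → b ∈ vLine D x y → c ∈ vLine D x y → a ≠ b →
          Commute a z → Commute b z → Commute c z := fun ha hb hc hne' h1 h2 =>
        (h.commute_vLine_of_two x.2 hym ha hb hne' z.2 h1.symm h2.symm hc).symm
      have hxm : (x : G) ∈ vLine D x y := Or.inl rfl
      have hym' : (y : G) ∈ vLine D x y := Or.inr (Or.inl rfl)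
      have hvm : v ∈ vLine D x y := Or.inr (Or.inr hv)
      by_cases h1 : Commute (x : G) z <;> by_cases h2 : Commute (y : G) z
      · simp [h1, h2, two hxm hym' hvm (Ne.symm hym.2.1) h1 h2]
      · have : ¬ Commute v (z : G) := fun hw => h2 (two hxm hvm hym' (Ne.symm hv.2.1.2.1) h1 hw)
        simp [h1, h2, this]
      · have : ¬ Commute v (z : G) := fun hw => h1 (two hym' hvm hxm hv.2.2.1 h2 hw)
        simp [h1, h2, this]
      · obtain ⟨r, hr, hc⟩ := h.exists_perp hV x.2 hym z.2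
        rw [← hsub] at hr
        rcases hr with rfl | rfl | rfl
        · exact absurd hc.symm h1
        · exact absurd hc.symm h2
        · simp [h1, h2, hc.symm]; decide
    · exact ⟨_, hsecant x y hxy⟩
  let V : Submodule (ZMod 2) (↥D → ZMod 2) :=
    { carrier := insert 0 (Set.range φ)
      zero_mem' := Or.inl rfl
      add_mem' := by
        rintro _ _ (rfl | ⟨x, rfl⟩) (rfl | ⟨y, rfl⟩)
        · exact Or.inl (add_zero 0)
        · exact Or.inr ⟨y, (zero_add _).symm⟩
        · exact Or.inr ⟨x, (add_zero _).symm⟩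
        · by_cases hne : x = y
          · subst hne; exact Or.inl (funext fun z => CharTwo.add_self_eq_zero _)
          · obtain ⟨w, hw⟩ := hsum x y hne
            exact Or.inr ⟨w, hw⟩
      smul_mem' := by
        intro c v hv
        rcases (show ∀ c : ZMod 2, c = 0 ∨ c = 1 by decide) c with rfl | rfl
        · exact Or.inl (zero_smul _ v)
        · simpa using hv }
  let f : V → V → ZMod 2 := fun v w => if hw : ∃ a, φ a = (w : ↥D → ZMod 2) then v.1 hw.choose else 0
  have hf0 : ∀ (v : V) (a : ↥D) (ha : φ a ∈ V), f v ⟨φ a, ha⟩ = v.1 a := by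
    intro v a ha
    have hw : ∃ b, φ b = φ a := ⟨a, rfl⟩
    simp only [f, dif_pos hw]
    rw [hφinj hw.choose_spec]
  have hV0 : ∀ v : V, v = 0 ∨ ∃ a, ∃ ha : φ a ∈ V, v = ⟨φ a, ha⟩ := by
    rintro ⟨v, rfl | ⟨a, rfl⟩⟩
    exacts [Or.inl rfl, Or.inr ⟨a, Or.inr ⟨a, rfl⟩, rfl⟩]
  have hfz : ∀ v : V, f v 0 = 0 := fun v => by
    simp only [f, Submodule.coe_zero]
    rw [dif_neg (fun ⟨a, ha⟩ => hφne a ha)]
  have hfz' : ∀ w : V, f 0 w = 0 := fun w => by simp only [f]; split_ifs <;> rfl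
  have hfadd : ∀ v v' w : V, f (v + v') w = f v w + f v' w := fun v v' w => by
    simp only [f]; split_ifs <;> simp
  have hfsmul : ∀ (c : ZMod 2) (v w : V), f (c • v) w = c • f v w := fun c v w => by
    simp only [f]; split_ifs <;> simp
  have hfsymm : ∀ v w : V, f v w = f w v := by
    intro v w
    rcases hV0 v with rfl | ⟨a, ha, rfl⟩ <;> rcases hV0 w with rfl | ⟨b, hb, rfl⟩
    · rfl
    · rw [hfz', hfz]
    · rw [hfz', hfz]
    · rw [hf0 _ b hb, hf0 _ a ha]; exact hφsymm a b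
  let B : V →ₗ[ZMod 2] V →ₗ[ZMod 2] ZMod 2 := LinearMap.mk₂ (ZMod 2) f hfadd hfsmul
    (fun v w w' => by rw [hfsymm, hfadd, hfsymm w, hfsymm w'])
    (fun c v w => by rw [hfsymm, hfsmul, hfsymm w])
  have hB : Symplectic.IsSympForm B := by
    refine ⟨fun v => ?_, fun v hv => ?_⟩
    · rcases hV0 v with rfl | ⟨a, ha, rfl⟩
      · exact hfz 0
      · exact (hf0 _ a ha).trans (if_pos (Commute.refl (a : G)))
    · apply Subtype.ext
      funext a
      have := hv ⟨φ a, Or.inr ⟨a, rfl⟩⟩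
      rwa [LinearMap.mk₂_apply, hf0 v a (Or.inr ⟨a, rfl⟩)] at this
  -- the action
  let c : G → ↥D → ↥D := fun g z => ⟨g * z * g⁻¹, h.closed.2 g z z.2⟩
  have hc_mul : ∀ g g' z, c (g * g') z = c g (c g' z) := fun g g' z => Subtype.ext (by simp [c, mul_assoc])
  have hc_one : ∀ z, c 1 z = z := fun z => Subtype.ext (by simp [c])
  have hφc : ∀ g x z, φ (c g x) z = φ x (c g⁻¹ z) := by
    intro g x z
    have : Commute (g * (x : G) * g⁻¹) (z : G) ↔ Commute (x : G) (g⁻¹ * z * g⁻¹⁻¹) := by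
      rw [← conj_commute_iff g (x : G) (g⁻¹ * z * g⁻¹⁻¹), show g * (g⁻¹ * (z : G) * g⁻¹⁻¹) * g⁻¹ = z by group]
    simp only [φ, c, this]
  have hmem : ∀ (g : G) (v : V), (fun z => v.1 (c g⁻¹ z)) ∈ V := by
    intro g v
    rcases hV0 v with rfl | ⟨a, ha, rfl⟩
    · exact Or.inl rfl
    · exact Or.inr ⟨c g a, funext fun z => hφc g a z⟩
  let act : G → V → V := fun g v => ⟨fun z => v.1 (c g⁻¹ z), hmem g v⟩
  have hact_mul : ∀ g g' v, act (g * g') v = act g (act g' v) := fun g g' v =>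
    Subtype.ext (funext fun z => by simp only [act, mul_inv_rev, hc_mul])
  have hact_one : ∀ v, act 1 v = v := fun v => Subtype.ext (funext fun z => by simp only [act, inv_one, hc_one])
  have hactφ : ∀ g a (ha : φ a ∈ V), act g ⟨φ a, ha⟩ = ⟨φ (c g a), Or.inr ⟨_, rfl⟩⟩ := fun g a ha =>
    Subtype.ext (funext fun z => (hφc g a z).symm)
  let L : G → (V ≃ₗ[ZMod 2] V) := fun g =>
    { toFun := act g
      map_add' := fun _ _ => rfl
      map_smul' := fun _ _ => rfl
      invFun := act g⁻¹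
      left_inv := fun v => by rw [← hact_mul, inv_mul_cancel, hact_one]
      right_inv := fun v => by rw [← hact_mul, mul_inv_cancel, hact_one] }
  have hLmem : ∀ g, L g ∈ Symplectic.Isom B := by
    intro g v w
    show f (act g v) (act g w) = f v w
    rcases hV0 w with rfl | ⟨b, hb, rfl⟩
    · rw [show act g 0 = 0 from rfl, hfz, hfz]
    · rw [hactφ g b hb, hf0 _ (c g b) (Or.inr ⟨_, rfl⟩), hf0 _ b hb]
      show v.1 (c g⁻¹ (c g b)) = v.1 b
      rw [← hc_mul, inv_mul_cancel, hc_one]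
  let ψ : G →* Symplectic.Isom B := MonoidHom.mk' (fun g => ⟨L g, hLmem g⟩)
    (fun g g' => Symplectic.isom_ext fun v => hact_mul g g' v)
  have hinj : Function.Injective ψ := by
    rw [← MonoidHom.ker_eq_bot_iff, eq_bot_iff, ← hZ]
    intro g hg
    refine mem_center_of_commute_gen h.cls.2.2 fun d hd => ?_
    have e := congrArg (fun r : Symplectic.Isom B => (r • (⟨φ ⟨d, hd⟩, Or.inr ⟨_, rfl⟩⟩ : V))) (MonoidHom.mem_ker.1 hg)
    simp only [one_smul] at e
    have e1 : act g ⟨φ ⟨d, hd⟩, Or.inr ⟨_, rfl⟩⟩ = ⟨φ ⟨d, hd⟩, Or.inr ⟨_, rfl⟩⟩ := e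
    rw [hactφ g ⟨d, hd⟩ (Or.inr ⟨_, rfl⟩)] at e1
    exact mul_inv_eq_iff_eq_mul.1 (congrArg Subtype.val (hφinj (congrArg Subtype.val e1)))
  have hsurj : Function.Surjective ψ := by
    rw [← MonoidHom.range_eq_top, eq_top_iff, ← Symplectic.TG_eq_top hB, Symplectic.TG, Subgroup.closure_le]
    rintro _ ⟨⟨a, t⟩, rfl⟩
    rcases (show ∀ c : ZMod 2, c = 0 ∨ c = 1 by decide) t with rfl | rfl
    · simp only [Symplectic.transv_zero]; exact one_mem _
    rcases hV0 a with rfl | ⟨x, hx, rfl⟩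
    · simp only [Symplectic.transv_vec_zero]; exact one_mem _
    refine ⟨x, Symplectic.isom_ext fun v => ?_⟩
    show act x v = v + ((1 : ZMod 2) * f v ⟨φ x, hx⟩) • ⟨φ x, hx⟩
    rw [one_mul, hf0 v x hx]
    rcases hV0 v with rfl | ⟨y, hy, rfl⟩
    · show act x 0 = 0 + (0 : ZMod 2) • _
      rw [zero_smul, add_zero]; rfl
    · rw [hactφ (x : G) y hy]
      show _ = _ + φ y x • _
      by_cases hc : Commute (x : G) y
      · rw [show φ y x = 0 from if_pos hc.symm, zero_smul, add_zero]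
        exact Subtype.ext (congrArg φ (Subtype.ext (by simp [c, hc.eq])))
      · rw [show φ y x = 1 from if_neg fun hc' => hc hc'.symm, one_smul]
        refine Subtype.ext ?_
        show φ (c x y) = φ y + φ x
        rw [add_comm, ← hsecant x y hc]
        exact congrArg φ (Subtype.ext (conj_eq hS x.2 (y : G)))
  obtain ⟨m, hm⟩ := Symplectic.even_finrank hB
  obtain ⟨e⟩ := Symplectic.nonempty_isom_mulEquiv_sp hB (m := m) (by omega)
  refine ⟨m, ⟨(MulEquiv.ofBijective ψ ⟨hinj, hsurj⟩).trans e⟩, ?_⟩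
  obtain ⟨iso, hiso⟩ := Symplectic.exists_isometry hB (Symplectic.isSympForm_stdForm m (ZMod 2))
    (by rw [Symplectic.finrank_std]; omega)
  have hBcom : ∀ a b : ↥D, B ⟨φ a, Or.inr ⟨a, rfl⟩⟩ ⟨φ b, Or.inr ⟨b, rfl⟩⟩ = 0 ↔ Commute (a : G) b := by
    intro a b
    rw [LinearMap.mk₂_apply, hf0 _ b (Or.inr ⟨b, rfl⟩)]
    show (if Commute (a : G) b then (0 : ZMod 2) else 1) = 0 ↔ _
    split_ifs with h' <;> simp [h']
  constructor
  · obtain ⟨a, ha, -⟩ := h.two
    obtain ⟨b, hb, hba, hc⟩ := h.width a ha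
    set u := iso ⟨φ ⟨a, ha⟩, Or.inr ⟨_, rfl⟩⟩ with hu
    set v := iso ⟨φ ⟨b, hb⟩, Or.inr ⟨_, rfl⟩⟩ with hv
    have huv : Symplectic.stdForm m (ZMod 2) u v = 0 := by rw [hu, hv, hiso]; exact (hBcom _ _).2 hc
    have hu0 : u ≠ 0 := fun e' => hφne ⟨a, ha⟩
      (congrArg Subtype.val (iso.injective (e'.trans (map_zero iso).symm)))
    have hv0 : v ≠ 0 := fun e' => hφne ⟨b, hb⟩
      (congrArg Subtype.val (iso.injective (e'.trans (map_zero iso).symm)))
    have hne : u ≠ v := fun e' => hba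
      (congrArg Subtype.val (hφinj (congrArg Subtype.val (iso.injective e')))).symm
    clear_value u v
    by_contra hm2
    rcases (show m = 0 ∨ m = 1 by omega) with rfl | rfl
    · exact hu0 (funext fun i => i.elim (fun k => k.elim0) fun k => k.elim0)
    · exact hne (sp_one_eq u v hu0 hv0
        (by rw [Symplectic.stdForm_apply, Fin.sum_univ_one] at huv; exact huv))
  intro x hx hm3
  -- five vectors in the standard space
  let i0 : Fin m := ⟨0, by omega⟩
  let i1 : Fin m := ⟨1, by omega⟩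
  let i2 : Fin m := ⟨2, by omega⟩
  have h01 : i0 ≠ i1 := by simp [i0, i1]
  have h02 : i0 ≠ i2 := by simp [i0, i2]
  have h12 : i1 ≠ i2 := by simp [i1, i2]
  let el : Fin m → (Fin m ⊕ Fin m → ZMod 2) := fun i => Pi.single (Sum.inl i) 1
  let er : Fin m → (Fin m ⊕ Fin m → ZMod 2) := fun i => Pi.single (Sum.inr i) 1
  have hstd := Symplectic.isSympForm_stdForm m (ZMod 2)
  have Sll : ∀ i j, Symplectic.stdForm m (ZMod 2) (el i) (el j) = 0 := fun i j => by
    simp [Symplectic.stdForm_apply, el]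
  have Srr : ∀ i j, Symplectic.stdForm m (ZMod 2) (er i) (er j) = 0 := fun i j => by
    simp [Symplectic.stdForm_apply, er]
  have Slr : ∀ i j, Symplectic.stdForm m (ZMod 2) (el i) (er j) = if i = j then 1 else 0 := fun i j => by
    simp only [Symplectic.stdForm_apply, el, er]
    rw [Finset.sum_eq_single i]
    · by_cases hij : i = j
      · subst hij; simp
      · simp [hij]
    · intro k _ hk; simp [hk]
    · simp
  have Srl : ∀ i j, Symplectic.stdForm m (ZMod 2) (er i) (el j) = if j = i then 1 else 0 := fun i j => by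
    rw [hstd.swap, Slr]; split_ifs <;> decide
  have hne0 : el i0 ≠ 0 := fun e' => one_ne_zero (α := ZMod 2) (by
    have := congrFun e' (Sum.inl i0); simp [el] at this)
  obtain ⟨g, hg⟩ := Symplectic.exists_smul_eq_of_ne_zero hstd hne0
    (y := iso ⟨φ ⟨x, hx⟩, Or.inr ⟨_, rfl⟩⟩) (fun e' => hφne ⟨x, hx⟩
      (congrArg Subtype.val (iso.injective (e'.trans (map_zero iso).symm))))
  have hget : ∀ w, w ≠ 0 → w ≠ el i0 → Symplectic.stdForm m (ZMod 2) (el i0) w = 0 →
      ∃ z, ∃ hz : z ∈ comSet D x, iso ⟨φ ⟨z, hz.1⟩, Or.inr ⟨_, rfl⟩⟩ = g • w := by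
    intro w hw0 hw1 hw
    obtain ⟨v, hv⟩ := iso.surjective (g • w)
    rcases hV0 v with rfl | ⟨z, hz, rfl⟩
    · exact absurd ((map_zero iso).symm.trans hv) (Ne.symm (Symplectic.isom_smul_ne_zero g hw0))
    refine ⟨z, ⟨z.2, fun e' => hw1 ?_, ?_⟩, hv⟩
    · have e'' : z = ⟨x, hx⟩ := Subtype.ext e'
      subst e''
      exact MulAction.injective g (hv.symm.trans hg.symm)
    · refine (hBcom ⟨x, hx⟩ z).1 ?_
      rw [← hiso, hv, ← hg, Symplectic.isom_apply_smul]
      exact hw
  have hne' : ∀ w k, w k = 1 → el i0 k = 0 → w ≠ 0 ∧ w ≠ el i0 := fun w k h1 h0 =>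
    ⟨fun e' => one_ne_zero (α := ZMod 2) (h1.symm.trans (congrFun e' k)),
      fun e' => one_ne_zero (α := ZMod 2) (h1.symm.trans ((congrFun e' k).trans h0))⟩
  obtain ⟨a1, a2⟩ := hne' (el i1) (Sum.inl i1) (by simp [el]) (by simp [el, h01.symm])
  obtain ⟨b1, b2⟩ := hne' (er i1) (Sum.inr i1) (by simp [er]) (by simp [el])
  obtain ⟨c1, c2⟩ := hne' (el i1 + el i2) (Sum.inl i1) (by simp [el, h12]) (by simp [el, h01.symm])
  obtain ⟨d1, d2⟩ := hne' (er i2) (Sum.inr i2) (by simp [er]) (by simp [el])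
  obtain ⟨a, ha, ea⟩ := hget _ a1 a2 (Sll _ _)
  obtain ⟨b, hb, eb⟩ := hget _ b1 b2 (by rw [Slr, if_neg h01])
  obtain ⟨c, hc, ec⟩ := hget _ c1 c2 (by rw [map_add, Sll, Sll, add_zero])
  obtain ⟨z, hz, ez⟩ := hget _ d1 d2 (by rw [Slr, if_neg h02])
  have hval : ∀ {u v : ↥D} {w w'}, iso ⟨φ u, Or.inr ⟨_, rfl⟩⟩ = g • w → iso ⟨φ v, Or.inr ⟨_, rfl⟩⟩ = g • w' →
      (Symplectic.stdForm m (ZMod 2) w w' = 0 ↔ Commute (u : G) v) := by
    intro u v w w' eu ev
    rw [← hBcom, ← hiso, eu, ev, Symplectic.isom_apply_smul]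
  refine ⟨a, ha, b, hb, c, hc, z, hz, fun h' => ?_, fun h' => ?_, fun h' => ?_, ?_, ?_, ?_⟩
  · have := (hval ea eb).2 h'; simp [Slr] at this
  · have := (hval eb ec).2 h'; simp [Srl, h12.symm] at this
  · have := (hval ec ez).2 h'; simp [Slr, h12] at this
  · exact (hval ea ec).1 (by rw [map_add, Sll, Sll, add_zero])
  · exact (hval ea ez).1 (by rw [Slr, if_neg h12])
  · exact (hval eb ez).1 (Srr _ _)

end IsFischerPair

end Cfsg.Agent.Lib.SporFischer
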