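import Cfsg.Agent.Lib.SporFischer.UModel
import Cfsg.Agent.Lib.Unitary.Generation

/-!
A Fischer group with lines of five members is a projective unitary group over the field of four elements:
both groups permute the isotropic points and the members act as the transvections.
-/

set_option autoImplicit false
set_option linter.style.haveILetI false
set_option linter.unusedSectionVars false

open Cfsg Cfsg.Agent.Lib.ThreeTranspositions Cfsg.Agent.Lib.RankThree Cfsg.Agent.Lib.Unitary
open Cfsg.Agent.Lib.UnitaryFour.Transvection (act tv act_tv act_mul act_one act_smul act_herm act_inv_self ext')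

namespace Cfsg.Agent.Lib.SporFischer

universe u

variable {G : Type u} [Group G] {D : Set G}

/-- Members adjacent to `p` with the common perps of `p` and `q`. -/
theorem UData.third_unique [Finite G] {p q : G} (d : UData D p q) {z : G} (hz : z ∈ D) (hpz : ¬ Commute p z)
    (hc : ∀ U ∈ USet D p q, Commute z U) : z = q ∨ z = p * q * p := by
  obtain ⟨τ, hτ, rfl⟩ := d.transitive hz hpz
  have hfix : ∀ v ∈ comSet D p, τ * v * τ⁻¹ = v := by
    intro v hv
    obtain ⟨hU, hUq, hL⟩ := d.upt_mem hv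
    refine d.fix_line hτ hU hUq.2.2 ?_ v (hL ▸ Or.inr (Or.inl rfl))
    obtain ⟨h1, -, -⟩ := (d.tt_act τ hτ).2 _ hU
    exact (d.per_unique hz hpz hU h1 ((conj_commute_iff τ q _).2 hUq.2.2)).trans
      (d.per_unique hz hpz hU (Or.inr (Or.inl rfl)) (hc _ ⟨hU, hUq.2.2⟩)).symm
  rcases d.fix_iff hτ hfix with rfl | rfl
  · exact Or.inl (by rw [one_mul, inv_one, mul_one])
  · exact Or.inr (conj_eq d.hS d.hp q)

namespace IsFischerPair

variable [Finite G] {F : Type} [Field F] [Fintype F] {n : ℕ}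

/-- A Fischer group on the isotropic points is the projective unitary group. -/
theorem psu_of_points (h : IsFischerPair D) (hZ : Subgroup.center G = ⊥) (hF : Fintype.card F = 4)
    (hn : 4 ≤ n) (vec : G → (Fin n → F))
    (hiso : ∀ x ∈ D, vec x ≠ 0 ∧ hermForm n F 2 (vec x) (vec x) = 0)
    (hcom : ∀ x ∈ D, ∀ y ∈ D, (Commute x y ↔ hermForm n F 2 (vec x) (vec y) = 0))
    (hsurj : ∀ v, v ≠ 0 → hermForm n F 2 v v = 0 → ∃ x ∈ D, ∃ c : F, c ≠ 0 ∧ v = c • vec x)
    (hthird : ∀ x ∈ D, ∀ y ∈ D, ∀ z ∈ D, ¬ Commute x y → ¬ Commute x z →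
      (∀ u ∈ D, u ≠ x → Commute x u → Commute y u → Commute z u) → z = y ∨ z = x * y * x) :
    Nonempty (G ≃* PSU n F 2) := by
  classical
  have hF2 : Fintype.card F = 2 ^ 2 := hF
  have hS := h.closed.1
  have huniq : ∀ x ∈ D, ∀ y ∈ D, ∀ c : F, c ≠ 0 → vec x = c • vec y → x = y := by
    intro x hx y hy c hc e
    refine eq_of_adjSet h.cls h.modules h.two hx hy (Set.ext fun z => ?_)
    have key : ∀ z ∈ D, (Commute x z ↔ Commute y z) := fun z hz => by
      rw [hcom x hx z hz, hcom y hy z hz, e, herm_smul_left, mul_eq_zero, or_iff_right hc]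
    exact ⟨fun hz => ⟨hz.1, fun h' => hz.2 ((key z hz.1).2 h')⟩, fun hz => ⟨hz.1, fun h' => hz.2 ((key z hz.1).1 h')⟩⟩
  have hex : ∀ (g : SU n F 2) (x : ↥D), ∃ y : ↥D, ∃ c : F, c ≠ 0 ∧ act g (vec x) = c • vec y := by
    intro g x
    obtain ⟨h1, h2⟩ := hiso x x.2
    obtain ⟨y, hy, c, hc, e⟩ := hsurj (act g (vec x)) (fun e => h1 (by
      rw [← act_inv_self g (vec x), e]; exact Matrix.mulVec_zero _)) (by rw [act_herm]; exact h2)
    exact ⟨⟨y, hy⟩, c, hc, e⟩
  choose f cf hcf hf using hex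
  have hfeq : ∀ g (x y : ↥D) (c : F), c ≠ 0 → act g (vec x) = c • vec y → f g x = y := by
    intro g x y c hc e
    refine Subtype.ext (huniq _ (f g x).2 _ y.2 ((cf g x)⁻¹ * c) (mul_ne_zero (inv_ne_zero (hcf g x)) hc) ?_)
    rw [mul_smul, ← e, hf g x, smul_smul, inv_mul_cancel₀ (hcf g x), one_smul]
  have hfmul : ∀ g g' x, f (g * g') x = f g (f g' x) := by
    intro g g' x
    refine hfeq _ _ _ (cf g' x * cf g (f g' x)) (mul_ne_zero (hcf _ _) (hcf _ _)) ?_
    rw [act_mul, hf g' x, act_smul, hf g (f g' x), smul_smul]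
  have hf1 : ∀ x, f 1 x = x := fun x => hfeq _ _ _ 1 one_ne_zero (by rw [act_one, one_smul])
  let π : SU n F 2 →* Equiv.Perm ↥D := MonoidHom.mk' (fun g =>
    ⟨f g, f g⁻¹, fun x => by rw [← hfmul, inv_mul_cancel, hf1], fun x => by rw [← hfmul, mul_inv_cancel, hf1]⟩)
    (fun g g' => Equiv.ext fun x => hfmul g g' x)
  let c : G → ↥D → ↥D := fun g x => ⟨g * x * g⁻¹, h.closed.2 g x x.2⟩
  let cj : G →* Equiv.Perm ↥D := MonoidHom.mk' (fun g =>
    ⟨c g, c g⁻¹, fun x => Subtype.ext (show g⁻¹ * (g * (x : G) * g⁻¹) * g⁻¹⁻¹ = x by group),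
      fun x => Subtype.ext (show g * (g⁻¹ * (x : G) * g⁻¹⁻¹) * g⁻¹ = x by group)⟩)
    (fun g g' => Equiv.ext fun x => Subtype.ext
      (show g * g' * (x : G) * (g * g')⁻¹ = g * (g' * x * g'⁻¹) * g⁻¹ by group))
  have hcj : Function.Injective cj := by
    rw [← MonoidHom.ker_eq_bot_iff, eq_bot_iff, ← hZ]
    intro g hg
    refine mem_center_of_commute_gen h.cls.2.2 fun e he => ?_
    have := congrArg Subtype.val (Equiv.ext_iff.1 (MonoidHom.mem_ker.1 hg) ⟨e, he⟩)
    exact mul_inv_eq_iff_eq_mul.1 this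
  -- transvections act as members
  have htv : ∀ x (hx : x ∈ D), π (tv hF2 (vec x) (hiso x hx).2) = cj x := by
    intro x hx
    refine Equiv.ext fun ⟨y, hy⟩ => ?_
    show f (tv hF2 (vec x) (hiso x hx).2) ⟨y, hy⟩ = c x ⟨y, hy⟩
    set g := tv hF2 (vec x) (hiso x hx).2 with hg
    by_cases hxy : Commute x y
    · have e : hermForm n F 2 (vec y) (vec x) = 0 := (hcom y hy x hx).1 hxy.symm
      have hc1 : c x ⟨y, hy⟩ = ⟨y, hy⟩ := Subtype.ext (show x * y * x⁻¹ = y by
        rw [hxy.eq, mul_inv_cancel_right])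
      rw [hc1]
      refine hfeq _ _ _ 1 one_ne_zero ?_
      rw [hg, act_tv, e, zero_smul, add_zero, one_smul]
    set z := f g ⟨y, hy⟩ with hzdef
    have hz := hf g ⟨y, hy⟩
    rw [hg, act_tv, ← hg, ← hzdef] at hz
    have hk := hcf g ⟨y, hy⟩
    set k := cf g ⟨y, hy⟩
    have hzcom : ∀ u ∈ D, (Commute (z : G) u ↔
        hermForm n F 2 (vec y) (vec u) + hermForm n F 2 (vec y) (vec x) * hermForm n F 2 (vec x) (vec u) = 0) := by
      intro u hu
      rw [hcom z z.2 u hu, ← herm_smul_left (a := hermForm n F 2 (vec y) (vec x)), ← herm_add_left, hz,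
        herm_smul_left, mul_eq_zero, or_iff_right hk]
    have hyx : hermForm n F 2 (vec y) (vec x) ≠ 0 := fun e => hxy ((hcom y hy x hx).2 e).symm
    have h1 : ¬ Commute x (z : G) := fun hc => hyx (by
      have := (hzcom x hx).1 hc.symm
      rwa [(hiso x hx).2, mul_zero, add_zero] at this)
    have h2 : (z : G) ≠ y := by
      intro e
      have := (hzcom y hy).1 (e ▸ Commute.refl (z : G))
      rw [(hiso y hy).2, zero_add] at this
      exact mul_ne_zero hyx (fun e' => hxy ((hcom x hx y hy).2 e')) this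
    refine Subtype.ext (((hthird x hx y hy z z.2 hxy h1 ?_).resolve_left h2).trans (conj_eq hS hx y).symm)
    intro u hu _ hxu hyu
    rw [hzcom u hu, (hcom x hx u hu).1 hxu, (hcom y hy u hu).1 hyu, mul_zero, add_zero]
  have hrange : π.range = cj.range := by
    apply le_antisymm
    · rw [MonoidHom.range_eq_map, ← suTransvections_closure hF2 (by omega) (by omega), Subgroup.map_le_iff_le_comap,
        Subgroup.closure_le]
      rintro A ⟨v, k, hv, hk, hA⟩
      have hA' : ∀ u, act A u = u + (k * hermForm n F 2 u v) • v := fun u => hA u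
      by_cases htriv : k = 0 ∨ v = 0
      · have : A = 1 := ext' fun u => by
          rw [hA', act_one]; rcases htriv with e | e <;> simp [e]
        rw [this]; exact one_mem _
      push Not at htriv
      obtain ⟨x, hx, a, ha, rfl⟩ := hsurj v htriv.2 hv
      have hk1 : k = 1 := by
        have h2 := UnitaryFour.Transvection.two_eq_zero hF2
        have e : k * (k + 1) = 0 := by linear_combination hk
        have := (mul_eq_zero.1 e).resolve_left htriv.1
        linear_combination this - h2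
      refine ⟨x, ?_⟩
      show cj x = π A
      rw [← htv x hx]
      congr 1
      refine ext' fun u => ?_
      rw [hA', act_tv, hk1, one_mul, herm_smul_right, smul_smul]
      have e3 := UnitaryFour.Transvection.cube_eq_one hF2 ha
      congr 2
      linear_combination (-(hermForm n F 2 u (vec x))) * e3
    · rw [MonoidHom.range_eq_map, ← h.cls.2.2, Subgroup.map_le_iff_le_comap, Subgroup.closure_le]
      exact fun x hx => ⟨_, htv x hx⟩
  have hker : π.ker = Subgroup.center (SU n F 2) := by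
    ext g
    rw [mem_center_SU_iff hF2 (by omega), MonoidHom.mem_ker]
    constructor
    · intro hg
      refine scalar_of_isotropic_eigen hF2 (by omega) _ fun v hv => ?_
      by_cases hv0 : v = 0
      · exact ⟨0, by subst hv0; simp⟩
      obtain ⟨x, hx, a, ha, rfl⟩ := hsurj v hv0 hv
      have e := hf g ⟨x, hx⟩
      rw [show f g ⟨x, hx⟩ = ⟨x, hx⟩ from Equiv.ext_iff.1 hg ⟨x, hx⟩] at e
      refine ⟨cf g ⟨x, hx⟩, ?_⟩
      show act g (a • vec x) = _
      rw [act_smul, e, smul_comm]
    · rintro ⟨l, hl⟩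
      refine Equiv.ext fun x => ?_
      show f g x = x
      refine hfeq _ _ _ l (fun e => (hiso x x.2).1 ?_) (hl _)
      rw [← act_inv_self g (vec x), show act g (vec x) = 0 by rw [show act g (vec x) = l • vec x from hl _, e, zero_smul]]
      exact Matrix.mulVec_zero _
  exact ⟨((MonoidHom.ofInjective hcj).trans (MulEquiv.subgroupCongr hrange.symm)).trans
    ((QuotientGroup.quotientKerEquivRange π).symm.trans (QuotientGroup.quotientMulEquivOfEq hker))⟩

/-- An injective image of the symmetric group of degree five shows that a subgroup is not solvable. -/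
theorem not_solvable_of_chain (h : IsFischerPair D) {a b c e : G} {H : Subgroup G} (ha : a ∈ D) (hb : b ∈ D)
    (hc : c ∈ D) (he : e ∈ D) (hab : ¬ Commute a b) (hbc : ¬ Commute b c) (hce : ¬ Commute c e)
    (hac : Commute a c) (hae : Commute a e) (hbe : Commute b e) (ma : a ∈ H) (mb : b ∈ H) (mc : c ∈ H)
    (me : e ∈ H) : ¬ Group.IsSolvable ↥H := by
  classical
  intro hs
  haveI := hs
  obtain ⟨φ, e0, e1, e2, e3⟩ := h.exists_reverse ha hb hc he hab hbc hce hac hae hbe
  have hinj : Function.Injective φ := by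
    rw [← MonoidHom.ker_eq_bot_iff]
    by_contra hne
    haveI : Nontrivial φ.ker := (Subgroup.nontrivial_iff_ne_bot _).2 hne
    have hle := Equiv.Perm.alternatingGroup_le_of_normal (α := Fin 5) (by simp) (N := φ.ker) inferInstance
    have hm : Equiv.swap (0 : Fin 5) 1 * Equiv.swap 1 2 ∈ alternatingGroup (Fin 5) :=
      Equiv.Perm.mem_alternatingGroup.2 (by simp)
    have h1 : φ (Equiv.swap (0 : Fin 5) 1 * Equiv.swap 1 2) = 1 := MonoidHom.mem_ker.1 (hle hm)
    rw [map_mul, e0, e1] at h1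
    exact ne_of_not_commute hab ((eq_inv_of_mul_eq_one_left h1).trans (inv_eq h.closed.1 hb))
  have hmem : ∀ σ, φ σ ∈ H := by
    have hcyc : Equiv.swap (0 : Fin 5) 1 * Equiv.swap 1 2 * Equiv.swap 2 3 * Equiv.swap 3 4 = finRotate 5 := by
      decide +kernel
    have htop := Equiv.Perm.closure_cycle_adjacent_swap (isCycle_finRotate (n := 3)) (support_finRotate) (0 : Fin 5)
    have hle : Subgroup.closure {finRotate 5, Equiv.swap (0 : Fin 5) (finRotate 5 0)} ≤ H.comap φ := by
      rw [Subgroup.closure_le]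
      rintro σ (rfl | rfl)
      · show φ (finRotate 5) ∈ H
        rw [← hcyc, map_mul, map_mul, map_mul, e0, e1, e2, e3]
        exact mul_mem (mul_mem (mul_mem ma mb) mc) me
      · show φ (Equiv.swap 0 (finRotate 5 0)) ∈ H
        rw [show finRotate 5 0 = 1 by decide, e0]; exact ma
    intro σ
    exact hle (htop.symm ▸ Subgroup.mem_top σ)
  exact Equiv.Perm.not_isSolvable_fin_5
    (Group.isSolvable_of_isSolvable_injective (f := φ.codRestrict H hmem) fun x y exy => hinj (congrArg Subtype.val exy))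

/-- Fischer groups with lines of five members. -/
theorem unitary_of_lines_five (h : IsFischerPair D) (hV : HasVLines D) (hZ : Subgroup.center G = ⊥)
    (h5 : ∀ x ∈ D, ∀ y ∈ comSet D x, (vLine D x y).ncard = 5) {x : G} (hx : x ∈ D) :
    ∃ (F : Type) (_ : Field F) (_ : Fintype F) (n : ℕ), Fintype.card F = 4 ∧ 4 ≤ n ∧
      Nonempty (G ≃* PSU n F 2) ∧ (Group.IsSolvable ↥(Subgroup.closure (comSet D x)) → n ≤ 5) := by
  classical
  haveI : Fact (Nat.Prime 2) := ⟨Nat.prime_two⟩
  let F := GaloisField 2 2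
  letI : Fintype F := Fintype.ofFinite F
  have hF : Fintype.card F = 4 := by
    rw [← Nat.card_eq_fintype_card, GaloisField.card 2 2 two_ne_zero]; norm_num
  obtain ⟨y, hy, hxy⟩ := exists_not_commute h.cls h.two hx
  have d : UData D x y := ⟨h, hV, h5, hZ, hx, hy, hxy⟩
  obtain ⟨m, hm, vec, v1, v2, v3, v4⟩ := d.exists_model F hF
  refine ⟨F, inferInstance, inferInstance, m + 2, hF, by omega,
    h.psu_of_points hZ hF (by omega) vec v1 v2 v3 ?_, fun hs => ?_⟩
  · intro a ha b hb z hz hab haz hc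
    exact (UData.mk h hV h5 hZ ha hb hab).third_unique hz haz fun U hU => hc U hU.1.1 hU.1.2.1 hU.1.2.2 hU.2.symm.symm
  · by_contra hm6
    obtain ⟨k, rfl⟩ : ∃ k, m = k + 2 + 2 := ⟨m - 4, by omega⟩
    have hF2 : Fintype.card F = 2 ^ 2 := hF
    obtain ⟨ω, hω0, hω1, hω⟩ := UnitaryFour.Transvection.exists_omega hF2
    have h2 := UnitaryFour.Transvection.two_eq_zero hF2
    let V : F → F → F → F → Fin (k + 2 + 2 + 2) → F := fun a b c e => mk2 0 0 (mk2 a b (mk2 c e 0))
    have hV' : ∀ a b c e a' b' c' e' : F, hermForm _ F 2 (V a b c e) (V a' b' c' e') =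
        a * a' ^ 2 + b * b' ^ 2 + (c * c' ^ 2 + e * e' ^ 2) := fun a b c e a' b' c' e' => by
      simp only [V, herm_mk2]; simp [hermForm]
    have hmem : ∀ a b c e : F, a * a ^ 2 + b * b ^ 2 + (c * c ^ 2 + e * e ^ 2) = 0 → (a ≠ 0 ∨ c ≠ 0) →
        ∃ z ∈ comSet D x, ∃ s : F, s ≠ 0 ∧ V a b c e = s • vec z := by
      intro a b c e h0 hne
      obtain ⟨z, hz, s, hs', ek⟩ := v3 (V a b c e) (fun e0 => hne.elim
        (fun ha => ha (congrFun e0 (Fin.succ (Fin.succ 0))))
        (fun hc => hc (congrFun e0 (Fin.succ (Fin.succ (Fin.succ (Fin.succ 0))))))) (by rw [hV']; exact h0)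
      refine ⟨z, ⟨hz, fun ezx => ?_, ?_⟩, s, hs', ek⟩
      · rw [ezx, v4, smul_mk2, mul_one] at ek
        exact hs' (congrFun ek 0).symm
      · rw [v2 x hx z hz, v4]
        have e1 : hermForm (k + 2 + 2 + 2) F 2 (mk2 1 1 0) (V a b c e) = 0 := by
          rw [show V a b c e = mk2 0 0 (mk2 a b (mk2 c e 0)) from rfl, herm_mk2]; simp [hermForm]
        rw [ek, herm_smul_right] at e1
        exact (mul_eq_zero.1 e1).resolve_left (pow_ne_zero 2 hs')
    obtain ⟨a, ha, ka, hka, ea⟩ := hmem 1 1 0 0 (by linear_combination h2) (Or.inl one_ne_zero)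
    obtain ⟨b, hb, kb, hkb, eb⟩ := hmem 0 1 1 0 (by linear_combination h2) (Or.inr one_ne_zero)
    obtain ⟨c, hc, kc, hkc, ec⟩ := hmem 0 0 1 1 (by linear_combination h2) (Or.inr one_ne_zero)
    obtain ⟨e, he, ke, hke, ee⟩ := hmem 1 1 1 ω
      (by linear_combination (ω - 1) * hω + 2 * h2) (Or.inl one_ne_zero)
    have hcom : ∀ {u v : G} {s s' : F} {w w' : Fin _ → F}, u ∈ D → v ∈ D → s ≠ 0 → s' ≠ 0 → w = s • vec u →
        w' = s' • vec v → (Commute u v ↔ hermForm _ F 2 w w' = 0) := by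
      intro u v s s' w w' hu hv hs hs' e1 e2
      rw [e1, e2, herm_smul_left, herm_smul_right, mul_eq_zero, mul_eq_zero, or_iff_right hs,
        or_iff_right (pow_ne_zero 2 hs'), v2 u hu v hv]
    refine h.not_solvable_of_chain ha.1 hb.1 hc.1 he.1 ?_ ?_ ?_ ?_ ?_ ?_ (Subgroup.subset_closure ha)
      (Subgroup.subset_closure hb) (Subgroup.subset_closure hc) (Subgroup.subset_closure he) hs
    · rw [hcom ha.1 hb.1 hka hkb ea eb, hV']; simp
    · rw [hcom hb.1 hc.1 hkb hkc eb ec, hV']; simp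
    · rw [hcom hc.1 he.1 hkc hke ec ee, hV']
      intro h0
      have e2 : (ω + 1) * (ω + 1) = 0 := by linear_combination h0 + ω * h2
      have e3 := mul_self_eq_zero.1 e2
      exact hω1 (by linear_combination e3 - h2)
    · rw [hcom ha.1 hc.1 hka hkc ea ec, hV']; simp
    · rw [hcom ha.1 he.1 hka hke ea ee, hV']; linear_combination h2
    · rw [hcom hb.1 he.1 hkb hke eb ee, hV']; linear_combination h2

end IsFischerPair

end Cfsg.Agent.Lib.SporFischer
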