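import Mathlib

/-!
Functions on the isotropic vectors of a unitary space over the field of four elements which are additive
on every three isotropic vectors adding up to zero are restrictions of additive functions.
-/

set_option autoImplicit false
set_option linter.style.haveILetI false

namespace Cfsg.Agent.Lib.SporFischer.UCoord

universe v

variable {F : Type v} [Field F]

/-- The cubes of the coordinates add up to zero. -/
def Iso {ι : Type} [Fintype ι] (x : ι → F) : Prop := ∑ i, x i ^ 3 = 0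

variable {ω : F}

theorem sum_three (hω : ω ^ 2 + ω + 1 = 0) (hF : ∀ a : F, a = 0 ∨ a = 1 ∨ a = ω ∨ a = ω ^ 2) {a : F}
    (ha : a ≠ 0) (g : F → ZMod 2) : g a + g (ω * a) + g (ω ^ 2 * a) = g 1 + g ω + g (ω ^ 2) := by
  have h3 : ω ^ 3 = 1 := by linear_combination (ω - 1) * hω
  rcases hF a with rfl | rfl | rfl | rfl
  · exact absurd rfl ha
  · rw [mul_one, mul_one]
  · rw [show a ^ 2 * a = 1 by linear_combination h3, show a * a = a ^ 2 by ring]; abel
  · rw [show ω * ω ^ 2 = 1 by linear_combination h3, show ω ^ 2 * ω ^ 2 = ω by linear_combination ω * h3]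
    abel

/-- An additive function agreeing with `η` on nonzero isotropic vectors. -/
theorem exists_additive [CharP F 2] (hω : ω ^ 2 + ω + 1 = 0)
    (hF : ∀ a : F, a = 0 ∨ a = 1 ∨ a = ω ∨ a = ω ^ 2) {m : ℕ} (η : (Fin m → F) → ZMod 2)
    (hη : ∀ u v, u ≠ 0 → v ≠ 0 → u + v ≠ 0 → Iso u → Iso v → Iso (u + v) → η (u + v) = η u + η v) :
    ∃ l : (Fin m → F) →+ ZMod 2, ∀ v, v ≠ 0 → Iso v → l v = η v := by
  classical
  have h2 : (2 : F) = 0 := CharP.cast_eq_zero F 2
  have h2' : ∀ a : ZMod 2, a + a = 0 := by decide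
  have hω0 : ω ≠ 0 := by intro e; rw [e] at hω; simp at hω
  have hω3 : ω ^ 3 = 1 := by linear_combination (ω - 1) * hω
  have hcube : ∀ a : F, a ≠ 0 → a ^ 3 = 1 := by
    intro a ha
    rcases hF a with rfl | rfl | rfl | rfl
    · exact absurd rfl ha
    · exact one_pow 3
    · exact hω3
    · linear_combination (ω ^ 3 + 1) * hω3
  let P : Fin m → Fin m → F → F → (Fin m → F) := fun i j a b => Pi.single i a + Pi.single j b
  let f : Fin m → Fin m → F → F → ZMod 2 := fun i j a b => η (P i j a b)
  have hPi : ∀ i j a b, i ≠ j → P i j a b i = a ∧ P i j a b j = b := by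
    intro i j a b hij
    simp [P, hij, hij.symm]
  have hIso : ∀ i j a b, i ≠ j → a ≠ 0 → b ≠ 0 → Iso (P i j a b) ∧ P i j a b ≠ 0 := by
    intro i j a b hij ha hb
    refine ⟨?_, fun e => ha (by rw [← (hPi i j a b hij).1, e]; rfl)⟩
    show ∑ k, P i j a b k ^ 3 = 0
    rw [Fintype.sum_eq_add i j hij ?_]
    · rw [(hPi i j a b hij).1, (hPi i j a b hij).2, hcube a ha, hcube b hb]; linear_combination h2
    · intro k hk; simp [P, hk.1, hk.2]
  have hadd : ∀ u v w, u ≠ 0 → v ≠ 0 → w ≠ 0 → Iso u → Iso v → Iso w → w = u + v →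
      η u + η v + η w = 0 := by
    intro u v w hu hv hw iu iv iw e
    subst e
    rw [hη u v hu hv hw iu iv iw]; exact h2' _
  have hP3 : ∀ i j a b a' b' a'' b'', i ≠ j → a ≠ 0 → b ≠ 0 → a' ≠ 0 → b' ≠ 0 → a'' ≠ 0 → b'' ≠ 0 →
      a'' = a + a' → b'' = b + b' → f i j a b + f i j a' b' + f i j a'' b'' = 0 := by
    intro i j a b a' b' a'' b'' hij ha hb ha' hb' ha'' hb'' ea eb
    obtain ⟨i1, n1⟩ := hIso i j a b hij ha hb
    obtain ⟨i2, n2⟩ := hIso i j a' b' hij ha' hb'
    obtain ⟨i3, n3⟩ := hIso i j a'' b'' hij ha'' hb''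
    refine hadd _ _ _ n1 n2 n3 i1 i2 i3 ?_
    simp only [P, ea, eb, Pi.single_add]
    abel
  have hm : ∀ a : F, ω ^ 2 * a = a + ω * a := fun a => by linear_combination a * hω - (a + ω * a) * h2
  have hm' : ∀ a : F, ω * a = a + ω ^ 2 * a := fun a => by linear_combination a * hω - (a + ω ^ 2 * a) * h2
  have hne : ∀ a : F, a ≠ 0 → ω * a ≠ 0 ∧ ω ^ 2 * a ≠ 0 := fun a ha =>
    ⟨mul_ne_zero hω0 ha, mul_ne_zero (pow_ne_zero 2 hω0) ha⟩
  have hdiag : ∀ i j a b, i ≠ j → a ≠ 0 → b ≠ 0 →
      f i j a b + f i j (ω * a) (ω * b) + f i j (ω ^ 2 * a) (ω ^ 2 * b) = 0 := fun i j a b hij ha hb =>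
    hP3 i j _ _ _ _ _ _ hij ha hb (hne a ha).1 (hne b hb).1 (hne a ha).2 (hne b hb).2 (hm a) (hm b)
  have hanti : ∀ i j a b, i ≠ j → a ≠ 0 → b ≠ 0 →
      f i j a b + f i j (ω * a) (ω ^ 2 * b) + f i j (ω ^ 2 * a) (ω * b) = 0 := fun i j a b hij ha hb =>
    hP3 i j _ _ _ _ _ _ hij ha hb (hne a ha).1 (hne b hb).2 (hne a ha).2 (hne b hb).1 (hm a) (hm' b)
  -- row sums
  let r : Fin m → Fin m → F → ZMod 2 := fun i j a =>
    if a = 0 then 0 else f i j a 1 + f i j a ω + f i j a (ω ^ 2)
  have hswap : ∀ i j a b, f i j a b = f j i b a := fun i j a b => by simp only [f, P, add_comm]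
  have hsq : ∀ i j a b, i ≠ j → a ≠ 0 → b ≠ 0 → f i j a b = r i j a + r j i b := by
    intro i j a b hij ha hb
    obtain ⟨hb1, hb2⟩ := hne b hb
    have d1 := hdiag i j a (ω * b) hij ha hb1
    have d2 := hdiag i j a (ω ^ 2 * b) hij ha hb2
    have a0 := hanti i j a b hij ha hb
    rw [show ω * (ω * b) = ω ^ 2 * b by ring,
      show ω ^ 2 * (ω * b) = b by linear_combination b * hω3] at d1
    rw [show ω * (ω ^ 2 * b) = b by linear_combination b * hω3,
      show ω ^ 2 * (ω ^ 2 * b) = ω * b by linear_combination (ω * b) * hω3] at d2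
    simp only [r, if_neg ha, if_neg hb]
    rw [← sum_three hω hF hb (fun t => f i j a t), hswap j i b 1, hswap j i b ω, hswap j i b (ω ^ 2),
      ← sum_three hω hF ha (fun t => f i j t b)]
    linear_combination (exp := 1) a0 + d1 + d2 - (f i j a b + f i j (ω * a) (ω ^ 2 * b)
      + f i j (ω ^ 2 * a) (ω * b) + f i j a (ω * b) + f i j (ω ^ 2 * a) b + f i j a (ω ^ 2 * b)
      + f i j (ω * a) b) * (CharP.cast_eq_zero (ZMod 2) 2)
  have hrsum : ∀ i j, i ≠ j → r i j 1 + r i j ω + r i j (ω ^ 2) = 0 := by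
    intro i j hij
    have d0 := hdiag i j 1 1 hij one_ne_zero one_ne_zero
    have d1 := hdiag i j 1 ω hij one_ne_zero hω0
    have d2 := hdiag i j 1 (ω ^ 2) hij one_ne_zero (pow_ne_zero 2 hω0)
    simp only [mul_one, show ω * ω = ω ^ 2 by ring, show ω ^ 2 * ω = 1 by linear_combination hω3,
      show ω * ω ^ 2 = 1 by linear_combination hω3,
      show ω ^ 2 * ω ^ 2 = ω by linear_combination ω * hω3] at d0 d1 d2
    simp only [r, if_neg one_ne_zero, if_neg hω0, if_neg (pow_ne_zero 2 hω0)]
    linear_combination d0 + d1 + d2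
  have hindep : ∀ i j k a, i ≠ j → i ≠ k → a ≠ 0 → r i j a = r i k a := by
    intro i j k a hij hik ha
    by_cases hjk : j = k
    · rw [hjk]
    have key : ∀ b c, b ≠ 0 → c ≠ 0 →
        r i k a + r k i c = r i j a + r j i b + (r j k b + r k j c) := by
      intro b c hb hc
      obtain ⟨i1, n1⟩ := hIso i j a b hij ha hb
      obtain ⟨i2, n2⟩ := hIso j k b c hjk hb hc
      obtain ⟨i3, n3⟩ := hIso i k a c hik ha hc
      have e : P i k a c = P i j a b + P j k b c := by
        simp only [P]
        rw [add_assoc, ← add_assoc (Pi.single j b : Fin m → F), ← Pi.single_add,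
          show b + b = 0 by linear_combination b * h2, Pi.single_zero, zero_add]
      rw [← hsq i k a c hik ha hc, ← hsq i j a b hij ha hb, ← hsq j k b c hjk hb hc]
      show η _ = η _ + η _
      rw [e]
      exact hη _ _ n1 n2 (e ▸ n3) i1 i2 (e ▸ i3)
    have s1 := hrsum k i (Ne.symm hik)
    have s2 := hrsum k j (Ne.symm hjk)
    have t1 := hrsum j i (Ne.symm hij)
    have t2 := hrsum j k hjk
    have hω2 : ω ^ 2 ≠ 0 := pow_ne_zero 2 hω0
    linear_combination key 1 1 one_ne_zero one_ne_zero + key ω ω hω0 hω0 + key _ _ hω2 hω2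
      - s1 + s2 + t1 + t2 + 2 * (r i j a - r i k a) * (CharP.cast_eq_zero (ZMod 2) 2)
  have hradd : ∀ i j a b, i ≠ j → r i j (a + b) = r i j a + r i j b := by
    intro i j a b hij
    have z : r i j 0 = 0 := if_pos rfl
    have s := hrsum i j hij
    have e1 : (1 : F) + 1 = 0 := by linear_combination h2
    have e2 : ω + ω = 0 := by linear_combination ω * h2
    have e3 : ω ^ 2 + ω ^ 2 = 0 := by linear_combination ω ^ 2 * h2
    have e4 : 1 + ω = ω ^ 2 := by linear_combination hω - ω ^ 2 * h2
    have e5 : 1 + ω ^ 2 = ω := by linear_combination hω - ω * h2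
    have e6 : ω + ω ^ 2 = 1 := by linear_combination hω - (1 : F) * h2
    rcases hF a with ha | ha | ha | ha <;> rcases hF b with hb | hb | hb | hb <;> rw [ha, hb] <;>
      simp only [zero_add, add_zero, z, e1, e2, e3, e4, e5, e6, add_comm ω 1, add_comm (ω ^ 2) 1,
        add_comm (ω ^ 2) ω, h2'] <;>
      (revert s; generalize r i j 1 = x; generalize r i j ω = y; generalize r i j (ω ^ 2) = w;
        revert x y w; decide)
  have hex : ∀ i : Fin m, ∃ R : F →+ ZMod 2, ∀ j, i ≠ j → ∀ a, a ≠ 0 → R a = r i j a := by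
    intro i
    by_cases hj : ∃ j, i ≠ j
    · obtain ⟨j, hij⟩ := hj
      exact ⟨AddMonoidHom.mk' (r i j) (fun a b => hradd i j a b hij), fun k hik a ha => hindep i j k a hij hik ha⟩
    · exact ⟨0, fun j hij => absurd ⟨j, hij⟩ hj⟩
  choose R hR using hex
  let l : (Fin m → F) →+ ZMod 2 := AddMonoidHom.mk' (fun x => ∑ i, R i (x i)) (fun x y => by
    simp only [Pi.add_apply, map_add, Finset.sum_add_distrib])
  have hl : ∀ i j a b, i ≠ j → a ≠ 0 → b ≠ 0 → l (P i j a b) = f i j a b := by
    intro i j a b hij ha hb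
    show ∑ k, R k (P i j a b k) = _
    rw [Fintype.sum_eq_add i j hij ?_, (hPi i j a b hij).1, (hPi i j a b hij).2, hR i j hij a ha,
      hR j i (Ne.symm hij) b hb, hsq i j a b hij ha hb]
    intro k hk
    simp [P, hk.1, hk.2]
  refine ⟨l, fun v => ?_⟩
  induction hs : (Finset.univ.filter fun i => v i ≠ 0).card using Nat.strong_induction_on generalizing v with
  | _ n ih =>
    subst hs
    intro hv0 hiso
    set S := Finset.univ.filter fun i => v i ≠ 0
    have hS : ((S.card : ℕ) : F) = 0 := by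
      have e : ∑ i, v i ^ 3 = ∑ i ∈ S, (1 : F) := by
        rw [← Finset.sum_filter_add_sum_filter_not Finset.univ (fun i => v i ≠ 0)]
        rw [Finset.sum_eq_zero (s := Finset.univ.filter fun i => ¬ v i ≠ 0)
          (fun i hi => by simp only [Finset.mem_filter, not_not] at hi; rw [hi.2]; ring), add_zero]
        exact Finset.sum_congr rfl fun i hi => hcube _ (Finset.mem_filter.1 hi).2
      rw [hiso] at e
      simpa using e.symm
    have hne' : S.Nonempty := by
      obtain ⟨i, hi⟩ := Function.ne_iff.1 hv0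
      exact ⟨i, Finset.mem_filter.2 ⟨Finset.mem_univ i, hi⟩⟩
    have h2S : 2 ≤ S.card := by
      by_contra h
      have h1 : S.card = 1 := by have := hne'.card_pos; omega
      rw [h1, Nat.cast_one] at hS
      exact one_ne_zero hS
    obtain ⟨i, hi, j, hj, hij⟩ := Finset.one_lt_card.1 (show 1 < S.card by omega)
    have hi' := (Finset.mem_filter.1 hi).2
    have hj' := (Finset.mem_filter.1 hj).2
    obtain ⟨iu, nu⟩ := hIso i j _ _ hij hi' hj'
    set u := P i j (v i) (v j)
    have hlu : l u = η u := hl i j _ _ hij hi' hj'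
    by_cases hrest : v + u = 0
    · have e : v = u := funext fun k => by
        have h := congrFun hrest k
        simp only [Pi.add_apply, Pi.zero_apply] at h
        exact CharTwo.add_eq_zero.1 h
      rw [e]; exact hlu
    have hvk : ∀ k, (v + u) k = if k = i ∨ k = j then 0 else v k := by
      intro k
      split_ifs with hk
      · rcases hk with rfl | rfl
        · simp only [Pi.add_apply, u, (hPi k j _ _ hij).1]; linear_combination v k * h2
        · simp only [Pi.add_apply, u, (hPi i k _ _ hij).2]; linear_combination v k * h2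
      · push Not at hk
        simp [u, P, hk.1, hk.2]
    have hir : Iso (v + u) := by
      have hterm : ∀ k, (v + u) k ^ 3 = v k ^ 3 + u k ^ 3 := by
        intro k
        rw [hvk]
        split_ifs with hk
        · rcases hk with rfl | rfl
          · simp only [u, (hPi k j _ _ hij).1]; linear_combination -(v k ^ 3) * h2
          · simp only [u, (hPi i k _ _ hij).2]; linear_combination -(v k ^ 3) * h2
        · push Not at hk
          simp [u, P, hk.1, hk.2]
      show ∑ k, (v + u) k ^ 3 = 0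
      simp only [hterm, Finset.sum_add_distrib, show ∑ k, v k ^ 3 = 0 from hiso,
        show ∑ k, u k ^ 3 = 0 from iu, add_zero]
    have hlt : (Finset.univ.filter fun k => (v + u) k ≠ 0).card < S.card := by
      refine Finset.card_lt_card ((Finset.ssubset_iff_of_subset ?_).2 ⟨i, hi, ?_⟩)
      · intro k hk
        simp only [Finset.mem_filter, Finset.mem_univ, true_and, hvk, S] at hk ⊢
        split_ifs at hk with h
        · exact absurd rfl hk
        · exact hk
      · simp [hvk]
    have hlr := ih _ hlt (v + u) rfl hrest hir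
    have e : v = (v + u) + u := funext fun k => by
      simp only [Pi.add_apply]; linear_combination -(u k) * h2
    rw [e, map_add, hlr, hlu]
    exact (hη _ _ hrest nu (e ▸ hv0) hir iu (e ▸ hiso)).symm

end Cfsg.Agent.Lib.SporFischer.UCoord
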