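import Cfsg.Agent.Lib.SporFischer.UOrient

/-!
The space spanned by the functions of `UX`, its commutator form, the operator of an orientation, and a
function splitting the central extension by a bilinear form.
-/

set_option autoImplicit false
set_option linter.style.haveILetI false
set_option linter.unusedSectionVars false

open Cfsg Cfsg.Agent.Lib.ThreeTranspositions Cfsg.Agent.Lib.RankThree
open scoped Classical

namespace Cfsg.Agent.Lib.SporFischer

universe u

variable {G : Type u} [Group G] {D : Set G}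

/-- The space spanned by the functions of `UX`. -/
noncomputable def UW (D : Set G) (p q : G) : Submodule (ZMod 2) (↥(UX D p q) → ZMod 2) :=
  Submodule.span (ZMod 2) (psi D p q '' UX D p q)

/-- The vector of a member of `UX`. -/
noncomputable def pW (D : Set G) (p q : G) (a : ↥(UX D p q)) : ↥(UW D p q) :=
  ⟨psi D p q a, Submodule.subset_span ⟨a, a.2, rfl⟩⟩

/-- Zero exactly for commuting elements. -/
noncomputable def bf (τ σ : G) : ZMod 2 := if Commute τ σ then 0 else 1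

/-- A power of `p` with exponent modulo two. -/
def pp (p : G) (k : ZMod 2) : G := if k = 0 then 1 else p

/-- A coherent cyclic order. -/
def IsOrient (D : Set G) (p q : G) (om : G → G) : Prop := ∀ a ∈ UX D p q, om a ∈ UX D p q ∧
  per D p q (om a) = per D p q a ∧ om a ≠ a ∧ om (om (om a)) = a ∧
  ∀ b ∈ UX D p q, E1 q a b → E1 q (om a) (om b)

namespace UData

variable {p q : G} (d : UData D p q) [Finite G]
include d

theorem pp_add (k l : ZMod 2) : pp p (k + l) = pp p k * pp p l := by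
  have hpp := mul_self d.hS d.hp
  have hcases : ∀ k : ZMod 2, k = 0 ∨ k = 1 := by decide
  have h11 : (1 : ZMod 2) + 1 = 0 := by decide
  rcases hcases k with rfl | rfl <;> rcases hcases l with rfl | rfl <;> simp [pp, hpp, h11]

theorem pp_mem (k : ZMod 2) : pp p k ∈ TT D p q := by
  simp only [pp]; split_ifs
  exacts [one_mem _, d.p_mem]

theorem pp_comm {τ : G} (hτ : τ ∈ TT D p q) (k : ZMod 2) : Commute (pp p k) τ := by
  simp only [pp]; split_ifs
  exacts [Commute.one_left τ, d.p_central hτ]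

theorem bf_spec {τ σ : G} (hτ : τ ∈ TT D p q) (hσ : σ ∈ TT D p q) :
    τ * σ = pp p (bf τ σ) * (σ * τ) := by
  by_cases h : Commute τ σ
  · simp [bf, pp, h, h.eq]
  · simpa [bf, pp, h] using (d.twist τ hτ σ hσ).resolve_left h

theorem bf_eq {τ σ : G} {k : ZMod 2} (h : τ * σ = pp p k * (σ * τ)) : bf τ σ = k := by
  rcases (show ∀ k : ZMod 2, k = 0 ∨ k = 1 by decide) k with rfl | rfl
  · have hc : Commute τ σ := by
      simp only [pp, if_true, one_mul] at h; exact h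
    simp [bf, hc]
  · have hc : ¬ Commute τ σ := fun hc => d.p_ne_one (by
      simp only [pp, one_ne_zero, if_false] at h
      exact mul_eq_right.1 ((h.symm).trans hc.eq))
    simp [bf, hc]

theorem bf_mul {τ τ' σ : G} (hτ : τ ∈ TT D p q) (hτ' : τ' ∈ TT D p q) (hσ : σ ∈ TT D p q) :
    bf (τ * τ') σ = bf τ σ + bf τ' σ := by
  refine d.bf_eq ?_
  rw [mul_assoc, d.bf_spec hτ' hσ, ← mul_assoc τ, ← (d.pp_comm hτ _).eq, mul_assoc _ τ,
    ← mul_assoc τ σ, d.bf_spec hτ hσ, d.pp_add, (d.pp_comm (d.pp_mem (bf τ σ)) (bf τ' σ)).symm.eq]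
  simp only [mul_assoc]

theorem bf_comm (τ σ : G) : bf τ σ = bf σ τ := by
  have _ := d
  simp only [bf, Commute.symm_iff (a := τ)]

theorem bf_p {σ : G} (hσ : σ ∈ TT D p q) : bf p σ = 0 := if_pos (d.p_central hσ)

theorem bf_congr {τ τ' σ : G} (hτ : τ ∈ TT D p q) (hτ' : τ' ∈ TT D p q) (hσ : σ ∈ TT D p q)
    (h : Psi D p q τ = Psi D p q τ') : bf τ σ = bf τ' σ := by
  rcases d.Psi_eq_zero (mul_mem hτ (inv_mem hτ')) (by
    have h1 := d.Psi_mul (mul_mem hτ (inv_mem hτ')) hτ'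
    rw [inv_mul_cancel_right, h] at h1
    exact (right_eq_add.1 h1)) with e | e
  · rw [mul_inv_eq_one.1 e]
  · rw [mul_inv_eq_iff_eq_mul.1 e, d.bf_mul d.p_mem hτ' hσ, d.bf_p hσ, zero_add]

theorem Psi_mem : ∀ τ ∈ TT D p q, Psi D p q τ ∈ UW D p q := by
  refine d.tt_induction (by rw [d.Psi_one]; exact zero_mem _) ?_
  rintro g hg τ hτ ih
  rw [d.Psi_mul (d.gen_mem hg) hτ]
  refine add_mem ?_ ih
  rcases hg with rfl | ⟨a, ha, rfl⟩
  · rw [d.Psi_p]; exact zero_mem _
  · rw [d.Psi_tt ha]; exact Submodule.subset_span ⟨a, ha, rfl⟩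

theorem exists_lift (w : ↥(UW D p q)) : ∃ τ ∈ TT D p q, Psi D p q τ = w := by
  obtain ⟨w, hw⟩ := w
  induction hw using Submodule.span_induction with
  | mem x hx => obtain ⟨a, ha, rfl⟩ := hx; exact ⟨_, d.tt_mem ha, d.Psi_tt ha⟩
  | zero => exact ⟨1, one_mem _, d.Psi_one⟩
  | add x y _ _ ix iy =>
    obtain ⟨τ, hτ, ex⟩ := ix
    obtain ⟨σ, hσ, ey⟩ := iy
    refine ⟨τ * σ, mul_mem hτ hσ, ?_⟩
    show _ = x + y
    rw [d.Psi_mul hτ hσ]
    exact congrArg₂ (· + ·) ex ey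
  | smul c x _ ix =>
    rcases (show ∀ c : ZMod 2, c = 0 ∨ c = 1 by decide) c with rfl | rfl
    · exact ⟨1, one_mem _, by rw [d.Psi_one]; exact (zero_smul _ x).symm⟩
    · obtain ⟨τ, hτ, e⟩ := ix; exact ⟨τ, hτ, e.trans (one_smul _ x).symm⟩

theorem UW_induction {P : ↥(UW D p q) → Prop} (h0 : P 0) (ha : ∀ a, P (pW D p q a))
    (hadd : ∀ v w, P v → P w → P (v + w)) (w : ↥(UW D p q)) : P w := by
  obtain ⟨w, hw⟩ := w
  induction hw using Submodule.span_induction with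
  | mem x hx => obtain ⟨a, ha', rfl⟩ := hx; exact ha ⟨a, ha'⟩
  | zero => exact h0
  | add x y hx hy ix iy => exact hadd ⟨x, hx⟩ ⟨y, hy⟩ ix iy
  | smul c x hx ix =>
    rcases (show ∀ c : ZMod 2, c = 0 ∨ c = 1 by decide) c with rfl | rfl
    · convert h0 using 1; exact Subtype.ext (zero_smul _ x)
    · convert ix using 1; exact Subtype.ext (one_smul _ x)

theorem bf_tt {τ : G} (hτ : τ ∈ TT D p q) (b : ↥(UX D p q)) :
    bf τ (tt D p q b) = Psi D p q τ b := by
  suffices H : ∀ τ ∈ TT D p q, bf τ (tt D p q b) = Psi D p q τ b from H τ hτ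
  clear hτ τ
  refine d.tt_induction ?_ ?_
  · rw [d.Psi_one]; exact if_pos (Commute.one_left _)
  intro g hg τ hτ ih
  rw [d.bf_mul (d.gen_mem hg) hτ (d.tt_mem b.2), d.Psi_mul (d.gen_mem hg) hτ, Pi.add_apply, ih]
  congr 1
  rcases hg with rfl | ⟨a, ha, rfl⟩
  · rw [d.Psi_p, d.bf_p (d.tt_mem b.2)]; rfl
  · rw [d.Psi_tt ha]
    obtain ⟨b, hb⟩ := b
    by_cases h : Commute (tt D p q a) (tt D p q b)
    · rw [(d.tt_commute_iff ha hb).1 h]; exact if_pos h
    · rw [show bf (tt D p q a) (tt D p q b) = 1 from if_neg h]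
      exact ((show ∀ k : ZMod 2, k ≠ 0 → k = 1 by decide) _ fun e => h ((d.tt_commute_iff ha hb).2 e)).symm

theorem exists_form : ∃ B : ↥(UW D p q) →ₗ[ZMod 2] ↥(UW D p q) →ₗ[ZMod 2] ZMod 2,
    (∀ v b, B v (pW D p q b) = v.1 b) ∧ (∀ v w, B v w = B w v) ∧
      ∀ τ ∈ TT D p q, ∀ σ ∈ TT D p q, ∀ v w : ↥(UW D p q), Psi D p q τ = v → Psi D p q σ = w →
        bf τ σ = B v w := by
  choose L hL hLv using fun w : ↥(UW D p q) => d.exists_lift w
  let f : ↥(UW D p q) → ↥(UW D p q) → ZMod 2 := fun v w => bf (L v) (L w)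
  have hf : ∀ τ ∈ TT D p q, ∀ σ ∈ TT D p q, ∀ v w : ↥(UW D p q), Psi D p q τ = v → Psi D p q σ = w →
      bf τ σ = f v w := by
    intro τ hτ σ hσ v w ev ew
    rw [d.bf_congr hτ (hL v) hσ (ev.trans (hLv v).symm), d.bf_comm, d.bf_congr hσ (hL w) (hL v)
      (ew.trans (hLv w).symm), d.bf_comm]
  have hadd : ∀ v v' w, f (v + v') w = f v w + f v' w := by
    intro v v' w
    rw [← hf _ (mul_mem (hL v) (hL v')) _ (hL w) (v + v') w
      (by rw [d.Psi_mul (hL v) (hL v'), hLv, hLv]; rfl) (hLv w), d.bf_mul (hL v) (hL v') (hL w)]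
  have hsymm : ∀ v w, f v w = f w v := fun v w => d.bf_comm _ _
  have hsmul : ∀ (c : ZMod 2) v w, f (c • v) w = c • f v w := by
    intro c v w
    rcases (show ∀ c : ZMod 2, c = 0 ∨ c = 1 by decide) c with rfl | rfl
    · rw [zero_smul, zero_smul, ← hf 1 (one_mem _) _ (hL w) 0 w d.Psi_one (hLv w)]
      exact if_pos (Commute.one_left _)
    · rw [one_smul, one_smul]
  refine ⟨LinearMap.mk₂ (ZMod 2) f hadd hsmul (fun v w w' => by rw [hsymm, hadd, hsymm w, hsymm w'])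
    (fun c v w => by rw [hsymm, hsmul, hsymm w]), ?_, hsymm, hf⟩
  intro v b
  show f v (pW D p q b) = v.1 b
  rw [← hf _ (hL v) _ (d.tt_mem b.2) v (pW D p q b) (hLv v) (d.Psi_tt b.2), d.bf_tt (hL v) b, hLv]

theorem orient_mem {om : G → G} (ho : IsOrient D p q om) {a : G} (ha : a ∈ UX D p q) :
    ∀ b ∈ UX D p q, (Commute (om a) (om b) ↔ Commute a b) ∧ (E1 q (om a) (om b) ↔ E1 q a b) := by
  intro b hb
  obtain ⟨a1, a2, -, -, a5⟩ := ho a ha
  obtain ⟨b1, b2, -, -, -⟩ := ho b hb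
  have hL : ∀ {x x' : G}, x ∈ UX D p q → x' ∈ UX D p q → per D p q x' = per D p q x → x' ∈ vLine D p x := by
    intro x x' hx hx' e
    rw [← (d.upt_mem hx.1).2.2, ← e, (d.upt_mem hx'.1).2.2]
    exact Or.inr (Or.inl rfl)
  constructor
  · exact ⟨fun h => d.line_com a1.1 b1.1 h (hL a1 ha a2.symm) (hL b1 hb b2.symm),
      fun h => d.line_com ha.1 hb.1 h (hL ha a1 a2) (hL hb b1 b2)⟩
  · refine ⟨fun h => ?_, a5 b hb⟩
    obtain ⟨a11, -, -, -, a15⟩ := ho (om a) a1
    obtain ⟨b11, -, -, -, -⟩ := ho (om b) b1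
    have h2 := a15 (om b) b1 h
    have h3 := (ho _ a11).2.2.2.2 _ b11 h2
    rwa [(ho a ha).2.2.2.1, (ho b hb).2.2.2.1] at h3

theorem psi_orient {om : G → G} (ho : IsOrient D p q om) {a b : G} (ha : a ∈ UX D p q) (hb : b ∈ UX D p q) :
    psi D p q (om a) ⟨om b, (ho b hb).1⟩ = psi D p q a ⟨b, hb⟩ := by
  obtain ⟨h1, h2⟩ := d.orient_mem ho ha b hb
  by_cases h : psi D p q a ⟨b, hb⟩ = 0
  · rw [h, d.psi_eq_zero (ho a ha).1 (ho b hb).1, h1, h2, ← d.psi_eq_zero ha hb]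
    exact h
  · have h' : ¬ psi D p q (om a) ⟨om b, (ho b hb).1⟩ = 0 := fun e => h (by
      rw [d.psi_eq_zero ha hb, ← h1, ← h2, ← d.psi_eq_zero (ho a ha).1 (ho b hb).1]; exact e)
    exact ((show ∀ k : ZMod 2, k ≠ 0 → k = 1 by decide) _ h').trans
      ((show ∀ k : ZMod 2, k ≠ 0 → k = 1 by decide) _ h).symm

theorem orient_distinct {om : G → G} (ho : IsOrient D p q om) {a : G} (ha : a ∈ UX D p q) :
    a ≠ om a ∧ a ≠ om (om a) ∧ om a ≠ om (om a) := by
  obtain ⟨a1, -, a3, a4, -⟩ := ho a ha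
  refine ⟨Ne.symm a3, fun e => a3 ?_, Ne.symm (ho _ a1).2.2.1⟩
  have h := a4
  rw [← e] at h
  exact h

/-- The operator of an orientation. -/
theorem exists_operator {om : G → G} (ho : IsOrient D p q om) :
    ∃ Om : ↥(UW D p q) →ₗ[ZMod 2] ↥(UW D p q),
      (∀ a : ↥(UX D p q), Om (pW D p q a) = pW D p q ⟨om a, (ho a a.2).1⟩) ∧
      (∀ v, Om (Om v) + Om v + v = 0) := by
  let σ : ↥(UX D p q) → ↥(UX D p q) := fun b => ⟨om (om b), (ho _ (ho b b.2).1).1⟩
  let L : (↥(UX D p q) → ZMod 2) →ₗ[ZMod 2] (↥(UX D p q) → ZMod 2) := LinearMap.funLeft (ZMod 2) (ZMod 2) σ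
  have hL : ∀ a (ha : a ∈ UX D p q), L (psi D p q a) = psi D p q (om a) := by
    intro a ha
    funext ⟨b, hb⟩
    show psi D p q a ⟨om (om b), _⟩ = psi D p q (om a) ⟨b, hb⟩
    rw [← d.psi_orient ho ha (ho _ (ho b hb).1).1]
    congr 1
    exact Subtype.ext (ho b hb).2.2.2.1
  have hmem : ∀ v ∈ UW D p q, L v ∈ UW D p q := by
    intro v hv
    induction hv using Submodule.span_induction with
    | mem x hx => obtain ⟨a, ha, rfl⟩ := hx; rw [hL a ha]; exact Submodule.subset_span ⟨_, (ho a ha).1, rfl⟩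
    | zero => rw [map_zero]; exact zero_mem _
    | add x y _ _ ix iy => rw [map_add]; exact add_mem ix iy
    | smul c x _ ix => rw [map_smul]; exact Submodule.smul_mem _ c ix
  refine ⟨L.restrict hmem, fun a => Subtype.ext (hL a a.2), d.UW_induction (by simp) ?_ ?_⟩
  · rintro ⟨a, ha⟩
    obtain ⟨n1, n2, n3⟩ := d.orient_distinct ho ha
    obtain ⟨a1, a2, -⟩ := ho a ha
    obtain ⟨a11, a12, -⟩ := ho _ a1
    apply Subtype.ext
    show L (L (psi D p q a)) + L (psi D p q a) + psi D p q a = 0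
    rw [hL a ha, hL _ a1]
    have := d.block_sum ha a1 a11 a2.symm (a12.trans a2).symm n1 n2 n3
    rw [← this]; abel
  · intro v w hv hw
    simp only [map_add]
    calc _ = (L.restrict hmem (L.restrict hmem v) + L.restrict hmem v + v) +
          (L.restrict hmem (L.restrict hmem w) + L.restrict hmem w + w) := by abel
      _ = 0 := by rw [hv, hw, add_zero]

/-- A function splitting the extension by a bilinear form with the squares as diagonal. -/
theorem exists_split (β : ↥(UW D p q) →ₗ[ZMod 2] ↥(UW D p q) →ₗ[ZMod 2] ZMod 2)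
    (hB : ∀ τ ∈ TT D p q, ∀ σ ∈ TT D p q, ∀ v w : ↥(UW D p q), Psi D p q τ = v → Psi D p q σ = w →
      bf τ σ = β v w + β w v)
    (hsq : ∀ τ ∈ TT D p q, ∀ v : ↥(UW D p q), Psi D p q τ = v → τ * τ = pp p (β v v)) :
    ∃ ε : G → ZMod 2, ε p = 1 ∧ ∀ τ ∈ TT D p q, ∀ σ ∈ TT D p q, ∀ v w : ↥(UW D p q),
      Psi D p q τ = v → Psi D p q σ = w → ε (τ * σ) = ε τ + ε σ + β v w := by
  let T := TT D p q
  let P : ↥T → ↥(UW D p q) := fun x => ⟨Psi D p q x, d.Psi_mem x x.2⟩
  have hPmul : ∀ x y : ↥T, P (x * y) = P x + P y := fun x y => Subtype.ext (d.Psi_mul x.2 y.2)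
  have hP1 : P 1 = 0 := Subtype.ext d.Psi_one
  let π : ZMod 2 → ↥T := fun k => ⟨pp p k, d.pp_mem k⟩
  have hPπ : ∀ k, P (π k) = 0 := by
    intro k
    apply Subtype.ext
    show Psi D p q (pp p k) = 0
    simp only [pp]; split_ifs
    exacts [d.Psi_one, d.Psi_p]
  have hπc : ∀ k (x : ↥T), π k * x = x * π k := fun k x => Subtype.ext (d.pp_comm x.2 k).eq
  have hπadd : ∀ k l, π (k + l) = π k * π l := fun k l => Subtype.ext (d.pp_add k l)
  have hπ0 : π 0 = 1 := Subtype.ext (show pp p 0 = 1 from if_pos rfl)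
  letI : Add ↥T := ⟨fun x y => x * y * π (β (P x) (P y))⟩
  have hadd_def : ∀ x y : ↥T, x + y = x * y * π (β (P x) (P y)) := fun _ _ => rfl
  have hPadd : ∀ x y : ↥T, P (x + y) = P x + P y := fun x y => by
    rw [hadd_def, hPmul, hPmul, hPπ, add_zero]
  letI : Zero ↥T := ⟨1⟩
  letI : Neg ↥T := ⟨fun x => x⟩
  have hzero : ∀ x : ↥T, (0 : ↥T) + x = x := fun x => by
    show 1 * x * π (β (P 1) (P x)) = x
    rw [hP1, map_zero, LinearMap.zero_apply, hπ0, one_mul, mul_one]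
  have hcomm : ∀ x y : ↥T, x + y = y + x := by
    intro x y
    have e : x * y = π (β (P x) (P y) + β (P y) (P x)) * (y * x) := by
      rw [← hB x x.2 y y.2 (P x) (P y) rfl rfl]
      exact Subtype.ext (d.bf_spec x.2 y.2)
    rw [hadd_def, hadd_def, e, hπc, mul_assoc, ← hπadd]
    congr 2
    linear_combination (β (P x) (P y)) * (CharP.cast_eq_zero (ZMod 2) 2)
  have hassoc : ∀ x y z : ↥T, x + y + z = x + (y + z) := by
    intro x y z
    have key : β (P x) (P y) + β (P (x + y)) (P z) = β (P y) (P z) + β (P x) (P (y + z)) := by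
      rw [hPadd, hPadd, map_add, map_add, LinearMap.add_apply]; abel
    calc x + y + z = x * y * (π (β (P x) (P y)) * z) * π (β (P (x + y)) (P z)) := by
          rw [hadd_def (x + y), hadd_def x y]; group
      _ = x * y * z * (π (β (P x) (P y)) * π (β (P (x + y)) (P z))) := by rw [hπc]; group
      _ = x * y * z * (π (β (P y) (P z)) * π (β (P x) (P (y + z)))) := by rw [← hπadd, key, hπadd]
      _ = x + (y + z) := by rw [hadd_def x (y + z), hadd_def y z]; group
  have hself : ∀ x : ↥T, x + x = 0 := by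
    intro x
    rw [hadd_def]
    apply Subtype.ext
    show (x : G) * x * pp p (β (P x) (P x)) = 1
    rw [hsq x x.2 (P x) rfl, ← d.pp_add, show ∀ k : ZMod 2, k + k = 0 from by decide]
    exact if_pos rfl
  letI : AddCommGroup ↥T :=
    { add_assoc := hassoc
      zero_add := hzero
      add_zero := fun x => (hcomm x 0).trans (hzero x)
      add_comm := hcomm
      nsmul := nsmulRec
      zsmul := zsmulRec
      neg_add_cancel := hself }
  letI : Module (ZMod 2) ↥T := AddCommGroup.zmodModule (fun x => by rw [two_nsmul]; exact hself x)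
  obtain ⟨f, hf⟩ : ∃ f : Module.Dual (ZMod 2) ↥T, f (π 1) ≠ 0 := by
    by_contra hno
    push Not at hno
    have h := (Module.forall_dual_apply_eq_zero_iff (ZMod 2) (π 1)).1 hno
    have h' : pp p 1 = 1 := congrArg Subtype.val h
    simp only [pp, one_ne_zero, if_false] at h'
    exact d.p_ne_one h'
  have hf1 : f (π 1) = 1 := (show ∀ k : ZMod 2, k ≠ 0 → k = 1 by decide) _ hf
  have hfπ : ∀ (x : ↥T) k, f (x * π k) = f x + k := by
    intro x k
    have e : x + π k = x * π k := by rw [hadd_def, hPπ, map_zero, hπ0, mul_one]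
    rw [← e, map_add]
    rcases (show ∀ c : ZMod 2, c = 0 ∨ c = 1 by decide) k with rfl | rfl
    · rw [hπ0]; exact congrArg (f x + ·) (map_zero f)
    · rw [hf1]
  refine ⟨fun τ => if h : τ ∈ T then f ⟨τ, h⟩ else 0, ?_, fun τ hτ σ hσ v w ev ew => ?_⟩
  · show (if h : p ∈ T then f ⟨p, h⟩ else 0) = 1
    rw [dif_pos d.p_mem, show (⟨p, d.p_mem⟩ : ↥T) = π 1 from Subtype.ext (by simp [π, pp]), hf1]
  · beta_reduce
    rw [dif_pos (show τ * σ ∈ T from mul_mem hτ hσ), dif_pos (show τ ∈ T from hτ), dif_pos (show σ ∈ T from hσ)]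
    have hm : (⟨τ * σ, mul_mem hτ hσ⟩ : ↥T) = ⟨τ, hτ⟩ * ⟨σ, hσ⟩ := rfl
    have hv : P ⟨τ, hτ⟩ = v := Subtype.ext ev
    have hw : P ⟨σ, hσ⟩ = w := Subtype.ext ew
    have e := hfπ (⟨τ, hτ⟩ * ⟨σ, hσ⟩) (β v w)
    rw [← hv, ← hw, ← hadd_def, map_add, hv, hw] at e
    rw [hm, e, add_assoc, (show ∀ k : ZMod 2, k + k = 0 from by decide), add_zero]

end UData

end Cfsg.Agent.Lib.SporFischer
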