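import Cfsg.Agent.Lib.SporFischer.VLines

/-!
Lines of five members in a Fischer group: fix adjacent `p, q`.  The involutions `t_a = u_a a`, with `u_a`
the member of the line `p a` commuting with `q`, generate with `p` a group acting regularly on the members
adjacent to `p`; this group is an extension of a space of functions by `⟨p⟩`.
-/

set_option autoImplicit false
set_option linter.style.haveILetI false
set_option linter.unusedSectionVars false

open Cfsg Cfsg.Agent.Lib.ThreeTranspositions Cfsg.Agent.Lib.RankThree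

namespace Cfsg.Agent.Lib.SporFischer

universe u

variable {G : Type u} [Group G] {D : Set G}

/-- Four distinct members exhaust a set of four. -/
theorem mem_four {α : Type u} {S : Set α} (hS : S.ncard = 4) {a b c d x : α} (ha : a ∈ S) (hb : b ∈ S)
    (hc : c ∈ S) (hd : d ∈ S) (hx : x ∈ S) (hab : a ≠ b) (hac : a ≠ c) (had : a ≠ d) (hbc : b ≠ c)
    (hbd : b ≠ d) (hcd : c ≠ d) : x = a ∨ x = b ∨ x = c ∨ x = d := by
  classical
  by_contra hne
  push Not at hne
  have hfin : S.Finite := Set.finite_of_ncard_ne_zero (by omega)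
  have h := Finset.card_le_card (s := ({x, a, b, c, d} : Finset α)) (t := hfin.toFinset) (by
    intro v hv
    simp only [Finset.mem_insert, Finset.mem_singleton] at hv
    rw [Set.Finite.mem_toFinset]
    rcases hv with rfl | rfl | rfl | rfl | rfl <;> assumption)
  rw [← Set.ncard_eq_toFinset_card _ hfin, hS] at h
  simp [hne.1, hne.2.1, hne.2.2.1, hne.2.2.2, hab, hac, had, hbc, hbd, hcd] at h

/-- Adjacent `p, q` in a Fischer group all whose lines have five members. -/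
structure UData (D : Set G) (p q : G) : Prop where
  pair : IsFischerPair D
  lines : IsFischerPair.HasVLines D
  five : ∀ x ∈ D, ∀ y ∈ comSet D x, (vLine D x y).ncard = 5
  centre : Subgroup.center G = ⊥
  hp : p ∈ D
  hq : q ∈ D
  hpq : ¬ Commute p q

open scoped Classical in
/-- The member of the line `p a` commuting with `z`. -/
noncomputable def per (D : Set G) (p z a : G) : G :=
  if h : ∃ v ∈ vLine D p a, Commute z v then h.choose else a

/-- The commuting members of `p` which do not commute with `q`. -/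
def UX (D : Set G) (p q : G) : Set G := {a | a ∈ comSet D p ∧ ¬ Commute a q}

/-- The involution attached to a member of `UX`. -/
noncomputable def tt (D : Set G) (p q a : G) : G := per D p q a * a

/-- `a, b` are adjacent and their third member commutes with `q`. -/
def E1 (q a b : G) : Prop := ¬ Commute a b ∧ Commute (a * b * a) q

/-- Generators of the regular group. -/
def ugen (D : Set G) (p q : G) : Set G := insert p (tt D p q '' UX D p q)

/-- The group acting regularly on the members adjacent to `p`. -/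
def TT (D : Set G) (p q : G) : Subgroup G := Subgroup.closure (ugen D p q)

open scoped Classical in
/-- The section of a member adjacent to `p`. -/
noncomputable def sec (D : Set G) (p q y : G) : ↥(UX D p q) → ZMod 2 := fun b =>
  if Commute y (b : G) ∨ Commute y (per D p q b) then 0 else 1

/-- The function of a member of `UX`. -/
noncomputable def psi (D : Set G) (p q a : G) : ↥(UX D p q) → ZMod 2 := sec D p q (a * q * a)

namespace UData

variable {p q : G} (d : UData D p q)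
include d

theorem hS : IsThreeTranspositionSet D := d.pair.closed.1

theorem conj_inv_self {g : G} (hg : g * g = 1) (v : G) : g * (g * v * g⁻¹) * g⁻¹ = v := by
  have _ := d
  rw [show g * (g * v * g⁻¹) * g⁻¹ = g * g * v * (g * g)⁻¹ by group, hg, one_mul, inv_one, mul_one]

theorem conj_fix {g v : G} (h : Commute g v) : g * v * g⁻¹ = v := by
  have _ := d
  exact mul_inv_eq_iff_eq_mul.2 h.eq

variable [Finite G]

theorem per_spec {z a : G} (hz : z ∈ D) (hzp : ¬ Commute p z) (ha : a ∈ comSet D p) :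
    per D p z a ∈ vLine D p a ∧ Commute z (per D p z a) ∧ per D p z a ≠ p := by
  obtain ⟨v, hv, hc⟩ := d.pair.exists_perp d.lines d.hp ha hz
  have he : ∃ v ∈ vLine D p a, Commute z v := ⟨v, hv, hc⟩
  have h1 := he.choose_spec
  simp only [per, dif_pos he]
  exact ⟨h1.1, h1.2, fun e => hzp (e ▸ h1.2).symm⟩

theorem per_unique {z a v : G} (hz : z ∈ D) (hzp : ¬ Commute p z) (ha : a ∈ comSet D p)
    (hv : v ∈ vLine D p a) (hc : Commute z v) : v = per D p z a := by
  obtain ⟨h1, h2, -⟩ := d.per_spec hz hzp ha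
  by_contra hne
  exact hzp (d.pair.commute_vLine_of_two d.hp ha hv h1 hne hz hc h2 (Or.inl rfl)).symm

theorem line_sub {a v : G} (ha : a ∈ comSet D p) (hv : v ∈ vLine D p a) (hne : v ≠ p) :
    v ∈ comSet D p ∧ vLine D p v = vLine D p a :=
  ⟨d.pair.mem_comSet_of_mem_vLine d.hp ha (Or.inl rfl) hv (Ne.symm hne),
    d.pair.vLine_eq d.hp ha (Or.inl rfl) hv (Ne.symm hne)⟩

theorem per_congr {z a v : G} (hz : z ∈ D) (hzp : ¬ Commute p z) (ha : a ∈ comSet D p)
    (hv : v ∈ vLine D p a) (hne : v ≠ p) : per D p z v = per D p z a := by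
  obtain ⟨h1, h2⟩ := d.line_sub ha hv hne
  obtain ⟨h3, h4, -⟩ := d.per_spec hz hzp h1
  exact d.per_unique hz hzp ha (h2 ▸ h3) h4

theorem upt_spec {a : G} (ha : a ∈ comSet D p) :
    per D p q a ∈ vLine D p a ∧ Commute q (per D p q a) ∧ per D p q a ≠ p := d.per_spec d.hq d.hpq ha

theorem upt_mem {a : G} (ha : a ∈ comSet D p) :
    per D p q a ∈ comSet D p ∧ per D p q a ∈ comSet D q ∧ vLine D p (per D p q a) = vLine D p a := by
  obtain ⟨h1, h2, h3⟩ := d.upt_spec ha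
  obtain ⟨h4, h5⟩ := d.line_sub ha h1 h3
  exact ⟨h4, ⟨h4.1, fun e => d.hpq (e ▸ h4.2.2), h2⟩, h5⟩

theorem upt_fix {U : G} (hU : U ∈ comSet D p) (hUq : Commute q U) : per D p q U = U :=
  (d.per_unique d.hq d.hpq hU (Or.inr (Or.inl rfl)) hUq).symm

theorem upt_ne {a : G} (ha : a ∈ UX D p q) : per D p q a ≠ a :=
  fun e => ha.2 (e ▸ (d.upt_spec ha.1).2.1).symm

theorem com_upt {a : G} (ha : a ∈ comSet D p) : Commute (per D p q a) a :=
  vLine_commute ha (d.upt_spec ha).1 (Or.inr (Or.inl rfl))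

theorem line_com {a b v w : G} (ha : a ∈ comSet D p) (hb : b ∈ comSet D p) (hab : Commute a b)
    (hv : v ∈ vLine D p a) (hw : w ∈ vLine D p b) : Commute v w := by
  have h1 : Commute b v := d.pair.commute_vLine_of_two d.hp ha (Or.inl rfl) (Or.inr (Or.inl rfl))
    (Ne.symm ha.2.1) hb.1 hb.2.2.symm hab.symm hv
  exact d.pair.commute_vLine_of_two d.hp hb (Or.inl rfl) (Or.inr (Or.inl rfl))
    (Ne.symm hb.2.1) (vLine_subset d.hp ha hv) (vLine_commute ha hv (Or.inl rfl)) h1.symm hw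

theorem line_adj {a b v w : G} (ha : a ∈ comSet D p) (hb : b ∈ comSet D p) (hab : ¬ Commute a b)
    (hv : v ∈ vLine D p a) (hvp : v ≠ p) (hw : w ∈ vLine D p b) (hwp : w ≠ p) : ¬ Commute v w := by
  obtain ⟨h1, h2⟩ := d.line_sub ha hv hvp
  obtain ⟨h3, h4⟩ := d.line_sub hb hw hwp
  exact fun hc => hab (d.line_com h1 h3 hc (h2 ▸ Or.inr (Or.inl rfl)) (h4 ▸ Or.inr (Or.inl rfl)))

theorem adj_upt {a b : G} (ha : a ∈ comSet D p) (hb : b ∈ comSet D p) (hab : ¬ Commute a b) :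
    ¬ Commute (per D p q a) b :=
  d.line_adj ha hb hab (d.upt_spec ha).1 (d.upt_spec ha).2.2 (Or.inr (Or.inl rfl)) hb.2.1

theorem line_ncard {a : G} (ha : a ∈ comSet D p) : (vLine D p a \ {p}).ncard = 4 := by
  rw [Set.ncard_sdiff_singleton_of_mem (show p ∈ vLine D p a from Or.inl rfl), d.five p d.hp a ha]

/-! ### The involutions -/

theorem ha' {a : G} (ha : a ∈ UX D p q) : a ∈ D := ha.1.1

theorem hu' {a : G} (ha : a ∈ UX D p q) : per D p q a ∈ D := (d.upt_mem ha.1).1.1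

theorem tt_sq {a : G} (ha : a ∈ UX D p q) : tt D p q a * tt D p q a = 1 := by
  rw [tt, ← pow_two]
  exact sq_eq_one_of_commute (mul_self d.hS (d.hu' ha)) (mul_self d.hS ha.1.1) (d.com_upt ha.1)

theorem tt_com_p {a : G} (ha : a ∈ UX D p q) : Commute (tt D p q a) p :=
  (d.upt_mem ha.1).1.2.2.symm.mul_left ha.1.2.2.symm

theorem tt_conj {a : G} (ha : a ∈ UX D p q) (v : G) :
    tt D p q a * v * (tt D p q a)⁻¹ = per D p q a * (a * v * a) * per D p q a := by
  rw [tt, mul_inv_rev, inv_eq d.hS (d.hu' ha), inv_eq d.hS ha.1.1]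
  group

theorem tt_fix {a b v : G} (ha : a ∈ UX D p q) (hb : b ∈ comSet D p) (hab : Commute a b)
    (hv : v ∈ vLine D p b) : tt D p q a * v * (tt D p q a)⁻¹ = v :=
  d.conj_fix ((d.line_com ha.1 hb hab (d.upt_spec ha.1).1 hv).mul_left
    (d.line_com ha.1 hb hab (Or.inr (Or.inl rfl)) hv))

theorem tt_ne {a b : G} (ha : a ∈ UX D p q) (hb : b ∈ comSet D p) (hab : ¬ Commute a b) :
    tt D p q a * b * (tt D p q a)⁻¹ ≠ b := by
  rw [d.tt_conj ha]
  intro e
  set U := per D p q a with hU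
  have hUD : U ∈ D := d.hu' ha
  have hUU : U * U = 1 := mul_self d.hS hUD
  have e1 : a * b * a = U * b * U := by
    have h1 := congrArg (fun x => U * x * U) e
    simp only [mul_assoc, mul_self_assoc d.hS hUD, hUU, mul_one] at h1
    simpa only [mul_assoc] using h1
  rw [braid d.hS ha.1.1 hb.1 hab, braid d.hS hUD hb.1 (d.adj_upt ha.1 hb hab)] at e1
  exact d.upt_ne ha (mul_left_cancel (mul_right_cancel e1)).symm

theorem tt_mem_line {a b v : G} (ha : a ∈ UX D p q) (hb : b ∈ comSet D p) (hv : v ∈ vLine D p b) :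
    tt D p q a * v * (tt D p q a)⁻¹ ∈ vLine D p b := by
  by_cases hab : Commute a b
  · rw [d.tt_fix ha hb hab hv]; exact hv
  have hp' := d.conj_fix (d.tt_com_p ha)
  have hb' : tt D p q a * b * (tt D p q a)⁻¹ ∈ vLine D p b := by
    rw [d.tt_conj ha]
    set U := per D p q a with hU
    have hUb : ¬ Commute b U := fun hc => d.adj_upt ha.1 hb hab hc.symm
    have hg : a * b * p * (a * b)⁻¹ = p := d.conj_fix (ha.1.2.2.symm.mul_left hb.2.2.symm)
    have hga : a * b * a * (a * b)⁻¹ = b := by rw [braid d.hS ha.1.1 hb.1 hab]; group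
    have h1 : a * b * U * (a * b)⁻¹ ∈ (fun z => a * b * z * (a * b)⁻¹) '' vLine D p a :=
      ⟨U, (d.upt_spec ha.1).1, rfl⟩
    rw [d.pair.vLine_image, hg, hga, d.pair.conj_pair_eq ha.1.1 hb.1 (d.hu' ha) hUb] at h1
    rw [← hU] at h1
    have e : U * a = a * U := (d.com_upt ha.1).eq
    have e2 : U * (a * b * a) * U = a * U * b * U * a := by
      calc U * (a * b * a) * U = (U * a) * b * (a * U) := by group
        _ = a * U * b * (U * a) := by rw [e]
        _ = a * U * b * U * a := by group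
    rw [e2]; exact h1
  have hne : tt D p q a * b * (tt D p q a)⁻¹ ≠ p := fun e =>
    hb.2.1 (conj_left_inj.1 (e.trans hp'.symm))
  have h2 : tt D p q a * v * (tt D p q a)⁻¹ ∈
      (fun z => tt D p q a * z * (tt D p q a)⁻¹) '' vLine D p b := Set.mem_image_of_mem _ hv
  rw [d.pair.vLine_image, hp'] at h2
  rwa [(d.line_sub hb hb' hne).2] at h2

theorem exists_adj {a : G} (ha : a ∈ comSet D p) : ∃ z ∈ comSet D p, ¬ Commute a z := by
  obtain ⟨z, hz, hc⟩ := d.pair.exists_adj_in_comSet d.lines d.hp ha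
  exact ⟨z, hz, fun h => hc h.symm⟩

/-- The member of the line of `V` paired with `a`. -/
theorem partner {a V : G} (ha : a ∈ UX D p q) (hV : V ∈ comSet D p) (hVq : Commute q V)
    (hav : ¬ Commute a V) :
    tt D p q a * V * (tt D p q a)⁻¹ ∈ UX D p q ∧ E1 q a (tt D p q a * V * (tt D p q a)⁻¹) ∧
      per D p q (tt D p q a * V * (tt D p q a)⁻¹) = V := by
  set b := tt D p q a * V * (tt D p q a)⁻¹ with hb
  have hbL := d.tt_mem_line ha hV (v := V) (Or.inr (Or.inl rfl))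
  have hbp : b ≠ p := fun e => hV.2.1 (conj_left_inj.1 (e.trans (d.conj_fix (d.tt_com_p ha)).symm))
  obtain ⟨hbc, -⟩ := d.line_sub hV hbL hbp
  have hab : ¬ Commute a b := d.line_adj ha.1 hV hav (Or.inr (Or.inl rfl)) ha.1.2.1 hbL hbp
  have hbne : b ≠ V := d.tt_ne ha hV hav
  refine ⟨⟨hbc, fun hc => hbne ?_⟩, ⟨hab, ?_⟩, ?_⟩
  · exact (d.per_unique d.hq d.hpq hV hbL hc.symm).trans (d.upt_fix hV hVq)
  · set U := per D p q a with hU
    have e : a * b * a = U * V * U := by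
      rw [hb, d.tt_conj ha, ← hU]
      calc a * (U * (a * V * a) * U) * a = (a * U) * a * V * (a * (U * a)) := by group
        _ = (U * a) * a * V * (a * (a * U)) := by rw [(d.com_upt ha.1).eq]
        _ = U * (a * a) * V * (a * a) * U := by group
        _ = U * V * U := by rw [mul_self d.hS ha.1.1, mul_one, mul_one]
    rw [e]
    exact (((d.upt_spec ha.1).2.1.mul_right hVq).mul_right (d.upt_spec ha.1).2.1).symm
  · rw [d.per_congr d.hq d.hpq hV hbL hbp, d.upt_fix hV hVq]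

theorem e1_symm {a b : G} (ha : a ∈ D) (hb : b ∈ D) (h : E1 q a b) : E1 q b a :=
  ⟨fun hc => h.1 hc.symm, by rw [← braid d.hS ha hb h.1]; exact h.2⟩

theorem e1_iff {a b : G} (ha : a ∈ UX D p q) (hb : b ∈ UX D p q) :
    E1 q a b ↔ ¬ Commute a b ∧ b = tt D p q a * per D p q b * (tt D p q a)⁻¹ := by
  constructor
  · intro h
    refine ⟨h.1, ?_⟩
    obtain ⟨hU1, hU2, hU3⟩ := d.upt_mem hb.1
    have hav : ¬ Commute a (per D p q b) := fun hc =>
      d.adj_upt hb.1 ha.1 (fun h' => h.1 h'.symm) hc.symm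
    obtain ⟨h1, h2, h3⟩ := d.partner ha hU1 hU2.2.2 hav
    set b' := tt D p q a * per D p q b * (tt D p q a)⁻¹
    -- the thirds are perps of `q` on one line
    have hp' : a * p * a⁻¹ = p := d.conj_fix ha.1.2.2.symm
    have hb'L : b' ∈ vLine D p b := by
      have := d.tt_mem_line ha hb.1 (d.upt_spec hb.1).1
      exact this
    have hi : ∀ v ∈ vLine D p b, a * v * a ∈ vLine D p (a * b * a) := by
      intro v hv
      have := Set.mem_image_of_mem (fun z => a * z * a⁻¹) hv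
      rwa [d.pair.vLine_image, hp', conj_eq d.hS ha.1.1, conj_eq d.hS ha.1.1] at this
    have hc : a * b * a ∈ comSet D p := by
      have := d.pair.comSet_conj a hb.1
      rwa [hp', conj_eq d.hS ha.1.1] at this
    have e := (d.per_unique d.hq d.hpq hc (hi b (Or.inr (Or.inl rfl))) h.2.symm).trans
      (d.per_unique d.hq d.hpq hc (hi b' hb'L) h2.2.symm).symm
    exact mul_left_cancel (mul_right_cancel e)
  · rintro ⟨hab, e⟩
    rw [e]
    obtain ⟨hU1, hU2, -⟩ := d.upt_mem hb.1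
    exact (d.partner ha hU1 hU2.2.2 fun hc => d.adj_upt hb.1 ha.1 (fun h' => hab h'.symm) hc.symm).2.1

theorem exists_e1 {a : G} (ha : a ∈ UX D p q) : ∃ b ∈ UX D p q, E1 q a b := by
  obtain ⟨z, hz, hc⟩ := d.exists_adj ha.1
  obtain ⟨hU1, hU2, -⟩ := d.upt_mem hz
  have hav : ¬ Commute a (per D p q z) := fun h => d.adj_upt hz ha.1 (fun h' => hc h'.symm) h.symm
  obtain ⟨h1, h2, -⟩ := d.partner ha hU1 hU2.2.2 hav
  exact ⟨_, h1, h2⟩

/-! ### The group -/

theorem gen_facts {g : G} (hg : g ∈ ugen D p q) :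
    g * g = 1 ∧ Commute g p ∧ ∀ v ∈ comSet D p, g * v * g⁻¹ ∈ vLine D p v ∧
      g * v * g⁻¹ ≠ p ∧ (g * v * g⁻¹ = v → ∀ w ∈ vLine D p v, g * w * g⁻¹ = w) := by
  have hne : Commute g p → ∀ v ∈ comSet D p, g * v * g⁻¹ ≠ p := fun hc v hv e =>
    hv.2.1 (conj_left_inj.1 (e.trans (d.conj_fix hc).symm))
  rcases hg with rfl | ⟨a, ha, rfl⟩
  · refine ⟨mul_self d.hS d.hp, Commute.refl _, fun v hv => ⟨?_, hne (Commute.refl _) v hv, ?_⟩⟩
    · rw [d.conj_fix hv.2.2]; exact Or.inr (Or.inl rfl)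
    · exact fun _ w hw => d.conj_fix (vLine_commute hv (Or.inl rfl) hw)
  · refine ⟨d.tt_sq ha, d.tt_com_p ha, fun v hv =>
      ⟨d.tt_mem_line ha hv (Or.inr (Or.inl rfl)), hne (d.tt_com_p ha) v hv, ?_⟩⟩
    intro e w hw
    exact d.tt_fix ha hv (by_contra fun hc => d.tt_ne ha hv hc e) hw

theorem gen_comm {g k v : G} (hg : g ∈ ugen D p q) (hk : k ∈ ugen D p q) (hv : v ∈ comSet D p) :
    g * (k * v * k⁻¹) * g⁻¹ = k * (g * v * g⁻¹) * k⁻¹ := by
  obtain ⟨gg, -, gf⟩ := d.gen_facts hg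
  obtain ⟨kk, -, kf⟩ := d.gen_facts hk
  obtain ⟨gL, gp, gfix⟩ := gf v hv
  obtain ⟨kL, kp, kfix⟩ := kf v hv
  by_cases h1 : g * v * g⁻¹ = v
  · rw [gfix h1 _ kL, h1]
  by_cases h2 : k * v * k⁻¹ = v
  · rw [kfix h2 _ gL, h2]
  by_cases h3 : g * v * g⁻¹ = k * v * k⁻¹
  · rw [← h3, d.conj_inv_self gg, h3, d.conj_inv_self kk]
  set a := g * v * g⁻¹ with ha
  set b := k * v * k⁻¹ with hb
  obtain ⟨hbc, hbe⟩ := d.line_sub hv kL kp
  obtain ⟨hac, hae⟩ := d.line_sub hv gL gp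
  have hgb : g * b * g⁻¹ ∈ vLine D p v \ {p} := by
    obtain ⟨h4, h5, -⟩ := gf b hbc
    exact ⟨hbe ▸ h4, h5⟩
  have hka : k * a * k⁻¹ ∈ vLine D p v \ {p} := by
    obtain ⟨h4, h5, -⟩ := kf a hac
    exact ⟨hae ▸ h4, h5⟩
  have hgbne : g * b * g⁻¹ ≠ v ∧ g * b * g⁻¹ ≠ a ∧ g * b * g⁻¹ ≠ b := by
    refine ⟨fun e => h3 ?_, fun e => h2 (conj_left_inj.1 e), fun e => ?_⟩
    · rw [← d.conj_inv_self gg b, e]
    · refine h1 ?_
      obtain ⟨-, -, hfix⟩ := gf b hbc
      exact hfix e v (hbe ▸ Or.inr (Or.inl rfl))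
  have hkane : k * a * k⁻¹ ≠ v ∧ k * a * k⁻¹ ≠ a ∧ k * a * k⁻¹ ≠ b := by
    refine ⟨fun e => h3 ?_, fun e => ?_, fun e => h1 (conj_left_inj.1 e)⟩
    · rw [← d.conj_inv_self kk a, e]
    · refine h2 ?_
      obtain ⟨-, -, hfix⟩ := kf a hac
      exact hfix e v (hae ▸ Or.inr (Or.inl rfl))
  rcases mem_four (d.line_ncard hv) ⟨Or.inr (Or.inl rfl), hv.2.1⟩ ⟨gL, gp⟩ ⟨kL, kp⟩ hgb hka
      (Ne.symm h1) (Ne.symm h2) (Ne.symm hgbne.1) h3 (Ne.symm hgbne.2.1) (Ne.symm hgbne.2.2) with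
    e | e | e | e
  exacts [absurd e hkane.1, absurd e hkane.2.1, absurd e hkane.2.2, e.symm]

omit [Finite G] in
theorem p_mem : p ∈ TT D p q := by
  have _ := d
  exact Subgroup.subset_closure (Or.inl rfl)

omit [Finite G] in
theorem tt_mem {a : G} (ha : a ∈ UX D p q) : tt D p q a ∈ TT D p q := by
  have _ := d
  exact Subgroup.subset_closure (Or.inr ⟨a, ha, rfl⟩)

/-- Induction on the group by multiplying with generators on the left. -/
theorem tt_induction {P : G → Prop} (h1 : P 1)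
    (hmul : ∀ g ∈ ugen D p q, ∀ τ ∈ TT D p q, P τ → P (g * τ)) : ∀ τ ∈ TT D p q, P τ := by
  intro τ hτ
  induction hτ using Subgroup.closure_induction_left with
  | one => exact h1
  | mul_left g hg y hy ih => exact hmul g hg y hy ih
  | inv_mul_cancel g hg y hy ih =>
    rw [inv_eq_of_mul_eq_one_left (d.gen_facts hg).1]; exact hmul g hg y hy ih

theorem tt_act : ∀ τ ∈ TT D p q, Commute τ p ∧ ∀ v ∈ comSet D p,
    τ * v * τ⁻¹ ∈ vLine D p v ∧ τ * v * τ⁻¹ ≠ p ∧
      ∀ k ∈ ugen D p q, τ * (k * v * k⁻¹) * τ⁻¹ = k * (τ * v * τ⁻¹) * k⁻¹ := by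
  refine d.tt_induction ⟨Commute.one_left p, fun v hv =>
    ⟨by rw [one_mul, inv_one, mul_one]; exact Or.inr (Or.inl rfl), by simpa using hv.2.1,
      fun k _ => by simp⟩⟩ ?_
  rintro g hg τ - ⟨hc, ih⟩
  refine ⟨(d.gen_facts hg).2.1.mul_left hc, fun v hv => ?_⟩
  obtain ⟨i1, i2, i3⟩ := ih v hv
  obtain ⟨h1, h2⟩ := d.line_sub hv i1 i2
  obtain ⟨j1, j2, -⟩ := (d.gen_facts hg).2.2 _ h1
  rw [show g * τ * v * (g * τ)⁻¹ = g * (τ * v * τ⁻¹) * g⁻¹ by group]
  refine ⟨h2 ▸ j1, j2, fun k hk => ?_⟩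
  rw [show g * τ * (k * v * k⁻¹) * (g * τ)⁻¹ = g * (τ * (k * v * k⁻¹) * τ⁻¹) * g⁻¹ by group, i3 k hk,
    d.gen_comm hg hk h1]

omit [Finite G] in
theorem conj_adj {g : G} (hg : Commute g p) {y : G} (hy : y ∈ D) (hpy : ¬ Commute p y) :
    g * y * g⁻¹ ∈ D ∧ ¬ Commute p (g * y * g⁻¹) :=
  ⟨d.pair.closed.2 g y hy, fun hc => hpy ((conj_commute_iff g p y).1 (by rwa [d.conj_fix hg]))⟩

theorem tt_q {a : G} (ha : a ∈ UX D p q) : tt D p q a * q * (tt D p q a)⁻¹ = a * q * a := by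
  rw [d.tt_conj ha]
  have hc : Commute (per D p q a) (a * q * a) :=
    ((d.com_upt ha.1).mul_right (d.upt_spec ha.1).2.1.symm).mul_right (d.com_upt ha.1)
  rw [hc.eq, mul_assoc, mul_self d.hS (d.hu' ha), mul_one]

theorem aqa {a : G} (ha : a ∈ UX D p q) : a * q * a ∈ D ∧ ¬ Commute p (a * q * a) := by
  rw [← d.tt_q ha]; exact d.conj_adj (d.tt_com_p ha) d.hq d.hpq

theorem ptt_q {c : G} (hc : c ∈ UX D p q) :
    p * tt D p q c * q * (p * tt D p q c)⁻¹ = p * (c * q * c) * p := by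
  rw [show p * tt D p q c * q * (p * tt D p q c)⁻¹ = p * (tt D p q c * q * (tt D p q c)⁻¹) * p⁻¹ by group,
    d.tt_q hc, inv_eq d.hS d.hp]

/-- `p t_c` carries `q` to a member of the line of `q` and `u_c`. -/
theorem ptt_line {c : G} (hc : c ∈ UX D p q) :
    p * (c * q * c) * p ∈ vLine D q (per D p q c) ∧ p * (c * q * c) * p ≠ q ∧
      p * (c * q * c) * p ≠ per D p q c := by
  obtain ⟨hU, hUq, hL⟩ := d.upt_mem hc.1
  set U := per D p q c with hUdef
  have hcU : Commute c U := (d.com_upt hc.1).symm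
  have hgU : c * q * U * (c * q)⁻¹ = U := d.conj_fix (hcU.mul_left hUq.2.2)
  have hgc : c * q * c * (c * q)⁻¹ = q := by rw [braid d.hS hc.1.1 d.hq hc.2]; group
  have hgp : c * q * p * (c * q)⁻¹ = p * (c * q * c) * p := by
    rw [d.pair.conj_pair_eq hc.1.1 d.hq d.hp fun h => d.hpq h.symm]
    calc c * p * q * p * c = (c * p) * q * (p * c) := by group
      _ = (p * c) * q * (c * p) := by rw [hc.1.2.2.eq]
      _ = p * (c * q * c) * p := by group
  have hUc : vLine D U c = vLine D p U :=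
    d.pair.vLine_eq d.hp hU (Or.inr (Or.inl rfl)) (hL ▸ Or.inr (Or.inl rfl)) (d.upt_ne hc)
  have hm : c * q * p * (c * q)⁻¹ ∈ (fun z => c * q * z * (c * q)⁻¹) '' vLine D U c :=
    ⟨p, hUc ▸ Or.inl rfl, rfl⟩
  rw [d.pair.vLine_image, hgU, hgc, hgp, ← d.pair.vLine_comm d.hq hUq] at hm
  refine ⟨hm, fun e => ?_, fun e => ?_⟩
  · have h1 : c * q * c = p * q * p := by
      have := congrArg (fun x => p * x * p) e
      simp only [mul_assoc, mul_self_assoc d.hS d.hp, mul_self d.hS d.hp, mul_one] at this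
      simpa only [mul_assoc] using this
    rw [braid d.hS hc.1.1 d.hq hc.2, braid d.hS d.hp d.hq d.hpq] at h1
    exact hc.1.2.1 (mul_left_cancel (mul_right_cancel h1))
  · have h := d.conj_adj ((Commute.refl p).mul_left (d.tt_com_p hc)) d.hq d.hpq
    rw [d.ptt_q hc, e] at h
    exact h.2 hU.2.2

theorem com_ptt {c : G} (hc : c ∈ UX D p q) : Commute q (p * (c * q * c) * p) :=
  vLine_commute (d.upt_mem hc.1).2.1 (Or.inl rfl) (d.ptt_line hc).1

/-- The members adjacent to `p` commuting with `q`. -/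
theorem perp_q {y : G} (hy : y ∈ D) (hpy : ¬ Commute p y) (hyq : Commute q y) (hne : y ≠ q) :
    ∃ c ∈ UX D p q, y = p * (c * q * c) * p := by
  have hqy : y ∈ comSet D q := ⟨hy, hne, hyq⟩
  obtain ⟨U, hU, hpU⟩ := d.pair.exists_perp d.lines d.hq hqy d.hp
  have hUq : U ≠ q := fun e => d.hpq (e ▸ hpU)
  have hUy : U ≠ y := fun e => hpy (e ▸ hpU)
  have hUp : U ∈ comSet D p :=
    ⟨vLine_subset d.hq hqy hU, fun e => d.hpq (vLine_commute hqy (e ▸ hU) (Or.inl rfl)), hpU⟩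
  have hqU : Commute q U := vLine_commute hqy (Or.inl rfl) hU
  have hL : vLine D q U = vLine D q y := d.pair.vLine_eq d.hq hqy (Or.inl rfl) hU (Ne.symm hUq)
  let B := vLine D p U \ {p, U}
  let C := vLine D q y \ {q, U}
  have hBX : ∀ c ∈ B, c ∈ UX D p q ∧ per D p q c = U := by
    rintro c ⟨hc, hcne⟩
    simp only [Set.mem_insert_iff, Set.mem_singleton_iff, not_or] at hcne
    obtain ⟨h1, -⟩ := d.line_sub hUp hc hcne.1
    have e : per D p q c = U := (d.per_congr d.hq d.hpq hUp hc hcne.1).trans (d.upt_fix hUp hqU)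
    refine ⟨⟨h1, fun hcq => hcne.2 ?_⟩, e⟩
    rw [d.per_unique d.hq d.hpq hUp hc hcq.symm, d.upt_fix hUp hqU]
  have hmap : ∀ c ∈ B, p * (c * q * c) * p ∈ C := by
    intro c hcB
    obtain ⟨hX, e⟩ := hBX c hcB
    obtain ⟨h1, h2, h3⟩ := d.ptt_line hX
    rw [e, hL] at h1
    rw [e] at h3
    exact ⟨h1, by simp only [Set.mem_insert_iff, Set.mem_singleton_iff, not_or]; exact ⟨h2, h3⟩⟩
  have hinj : Set.InjOn (fun c => p * (c * q * c) * p) B := by
    intro c hc c' hc' e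
    have e1 : c * q * c = c' * q * c' := mul_left_cancel (mul_right_cancel e)
    rw [braid d.hS (hBX c hc).1.1.1 d.hq (hBX c hc).1.2,
      braid d.hS (hBX c' hc').1.1.1 d.hq (hBX c' hc').1.2] at e1
    exact mul_left_cancel (mul_right_cancel e1)
  have hBc : B.ncard = 3 := by
    rw [show B = (vLine D p U \ {p}) \ {U} by rw [Set.sdiff_sdiff, Set.singleton_union],
      Set.ncard_sdiff_singleton_of_mem (show U ∈ vLine D p U \ {p} from ⟨Or.inr (Or.inl rfl), hUp.2.1⟩),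
      d.line_ncard hUp]
  have hCc : C.ncard = 3 := by
    rw [show C = (vLine D q y \ {q}) \ {U} by rw [Set.sdiff_sdiff, Set.singleton_union],
      Set.ncard_sdiff_singleton_of_mem (show U ∈ vLine D q y \ {q} from ⟨hU, hUq⟩),
      Set.ncard_sdiff_singleton_of_mem (show q ∈ vLine D q y from Or.inl rfl), d.five q d.hq y hqy]
  have heq : (fun c => p * (c * q * c) * p) '' B = C := by
    refine Set.eq_of_subset_of_ncard_le (by rintro _ ⟨c, hc, rfl⟩; exact hmap c hc) ?_ (Set.toFinite _)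
    rw [hinj.ncard_image, hBc, hCc]
  have hyC : y ∈ C := ⟨Or.inr (Or.inl rfl), by
    simp only [Set.mem_insert_iff, Set.mem_singleton_iff, not_or]
    exact ⟨hne, Ne.symm hUy⟩⟩
  rw [← heq] at hyC
  obtain ⟨c, hc, e⟩ := hyC
  exact ⟨c, (hBX c hc).1, e.symm⟩

theorem exists_UX {U : G} (hU : U ∈ comSet D p) : ∃ c ∈ UX D p q, c ∈ vLine D p U := by
  have h2 : 1 < (vLine D p U \ {p}).ncard := by rw [d.line_ncard hU]; norm_num
  obtain ⟨v, hv, hne⟩ := Set.exists_ne_of_one_lt_ncard h2 (per D p q U)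
  obtain ⟨h3, -⟩ := d.line_sub hU hv.1 hv.2
  exact ⟨v, ⟨h3, fun hc => hne (d.per_unique d.hq d.hpq hU hv.1 hc.symm)⟩, hv.1⟩

theorem comSet_nonempty : ∃ U, U ∈ comSet D p ∧ Commute q U := by
  obtain ⟨b, hb, h1, h2⟩ := d.pair.width p d.hp
  exact ⟨_, (d.upt_mem ⟨hb, h1, h2⟩).1, (d.upt_spec ⟨hb, h1, h2⟩).2.1⟩

/-- A member of `UX` adjacent to a common perp. -/
theorem exists_mover {U : G} (hU : U ∈ comSet D p) : ∃ a ∈ UX D p q, ¬ Commute a U := by
  obtain ⟨z, hz, hc⟩ := d.exists_adj hU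
  obtain ⟨a, ha, haL⟩ := d.exists_UX hz
  exact ⟨a, ha, fun h => d.line_adj hU hz hc (Or.inr (Or.inl rfl)) hU.2.1 haL ha.1.2.1 h.symm⟩

/-- The group is transitive on the members adjacent to `p`. -/
theorem transitive {y : G} (hy : y ∈ D) (hpy : ¬ Commute p y) :
    ∃ τ ∈ TT D p q, τ * q * τ⁻¹ = y := by
  by_cases hex : ∃ τ ∈ TT D p q, Commute y (τ * q * τ⁻¹)
  · obtain ⟨τ, hτ, hc⟩ := hex
    set z := τ⁻¹ * y * τ⁻¹⁻¹ with hz
    obtain ⟨hzD, hpz⟩ := d.conj_adj (d.tt_act τ⁻¹ (inv_mem hτ)).1 hy hpy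
    have hzq : Commute q z := by
      have := (conj_commute_iff τ⁻¹ y (τ * q * τ⁻¹)).2 hc
      rw [show τ⁻¹ * (τ * q * τ⁻¹) * τ⁻¹⁻¹ = q by group] at this
      exact this.symm
    have hyz : y = τ * z * τ⁻¹ := by rw [hz]; group
    by_cases hne : z = q
    · exact ⟨τ, hτ, by rw [hyz, hne]⟩
    obtain ⟨c, hc', e⟩ := d.perp_q hzD hpz hzq hne
    refine ⟨τ * (p * tt D p q c), mul_mem hτ (mul_mem d.p_mem (d.tt_mem hc')), ?_⟩
    rw [hyz, show z = p * tt D p q c * q * (p * tt D p q c)⁻¹ from e.trans (d.ptt_q hc').symm]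
    group
  push Not at hex
  exfalso
  -- then `y` commutes with every image of every common perp
  have key : ∀ U ∈ comSet D p, Commute q U → ∀ τ ∈ TT D p q, Commute y (τ * U * τ⁻¹) := by
    intro U hU hUq τ hτ
    have hm : U ∈ comSet D q := ⟨hU.1, fun e => d.hpq (e ▸ hU.2.2), hUq⟩
    set z := τ⁻¹ * y * τ⁻¹⁻¹ with hz
    obtain ⟨v, hv, hvc⟩ := d.pair.exists_perp d.lines d.hq hm (d.pair.closed.2 τ⁻¹ y hy)
    have hback : Commute y (τ * v * τ⁻¹) := by
      have := (conj_commute_iff τ z v).2 hvc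
      rwa [show τ * z * τ⁻¹ = y by rw [hz]; group] at this
    by_cases hvU : v = U
    · exact hvU ▸ hback
    exfalso
    by_cases hvq : v = q
    · exact hex τ hτ (hvq ▸ hback)
    have hpv : ¬ Commute p v := fun hc => d.hpq
      (d.pair.commute_vLine_of_two d.hq hm hv (Or.inr (Or.inl rfl)) hvU d.hp hc hU.2.2 (Or.inl rfl))
    obtain ⟨c, hc, e⟩ := d.perp_q (vLine_subset d.hq hm hv) hpv (vLine_commute hm (Or.inl rfl) hv) hvq
    refine hex (τ * (p * tt D p q c)) (mul_mem hτ (mul_mem d.p_mem (d.tt_mem hc))) ?_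
    rw [show τ * (p * tt D p q c) * q * (τ * (p * tt D p q c))⁻¹ =
      τ * (p * tt D p q c * q * (p * tt D p q c)⁻¹) * τ⁻¹ by group, d.ptt_q hc, ← e]
    exact hback
  obtain ⟨U, hU, hUq⟩ := d.comSet_nonempty
  obtain ⟨a, ha, haU⟩ := d.exists_mover hU
  have h1 := key U hU hUq 1 (one_mem _)
  rw [one_mul, inv_one, mul_one] at h1
  have h2 := key U hU hUq _ (d.tt_mem ha)
  exact d.tt_ne ha hU haU ((d.per_unique hy hpy hU (d.tt_mem_line ha hU (Or.inr (Or.inl rfl))) h2).trans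
    (d.per_unique hy hpy hU (Or.inr (Or.inl rfl)) h1).symm)

/-! ### Regularity and structure -/

/-- A member of the group fixing one of the four moving members of a line fixes the line. -/
theorem fix_line {τ : G} (hτ : τ ∈ TT D p q) {U : G} (hU : U ∈ comSet D p) (hUq : Commute q U)
    (hfix : τ * U * τ⁻¹ = U) : ∀ v ∈ vLine D p U, τ * v * τ⁻¹ = v := by
  intro v hv
  by_cases hvp : v = p
  · rw [hvp]; exact d.conj_fix (d.tt_act τ hτ).1
  by_cases hvU : v = U
  · rw [hvU]; exact hfix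
  obtain ⟨hv1, -⟩ := d.line_sub hU hv hvp
  have hper : per D p q v = U := (d.per_congr d.hq d.hpq hU hv hvp).trans (d.upt_fix hU hUq)
  have hvX : v ∈ UX D p q := ⟨hv1, fun hc => hvU ((d.per_unique d.hq d.hpq hU hv hc.symm).trans
    (d.upt_fix hU hUq))⟩
  obtain ⟨a, ha, hva⟩ := d.exists_e1 hvX
  obtain ⟨-, e⟩ := (d.e1_iff ha hvX).1 (d.e1_symm hv1.1 ha.1.1 hva)
  rw [hper] at e
  rw [e, ((d.tt_act τ hτ).2 U hU).2.2 _ (Or.inr ⟨a, ha, rfl⟩), hfix]

theorem fix_commute {τ : G} (hτ : τ ∈ TT D p q) (hfix : ∀ v ∈ comSet D p, τ * v * τ⁻¹ = v) :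
    ∀ σ ∈ TT D p q, Commute τ σ := by
  refine d.tt_induction (Commute.one_right τ) fun g hg σ _ ih => Commute.mul_right ?_ ih
  rcases hg with rfl | ⟨a, ha, rfl⟩
  · exact (d.tt_act τ hτ).1
  · have h1 : Commute τ (per D p q a) := mul_inv_eq_iff_eq_mul.1 (hfix _ (d.upt_mem ha.1).1)
    have h2 : Commute τ a := mul_inv_eq_iff_eq_mul.1 (hfix a ha.1)
    exact h1.mul_right h2

/-- Regularity. -/
theorem regular {τ : G} (hτ : τ ∈ TT D p q) (hq : τ * q * τ⁻¹ = q) : τ = 1 := by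
  have hfix : ∀ v ∈ comSet D p, τ * v * τ⁻¹ = v := by
    intro v hv
    obtain ⟨hU, hUq, hL⟩ := d.upt_mem hv
    refine d.fix_line hτ hU hUq.2.2 ?_ v (hL ▸ Or.inr (Or.inl rfl))
    obtain ⟨h1, h2, -⟩ := (d.tt_act τ hτ).2 _ hU
    have hc : Commute q (τ * per D p q v * τ⁻¹) := by
      have := (conj_commute_iff τ q (per D p q v)).2 hUq.2.2
      rwa [hq] at this
    exact (d.per_unique d.hq d.hpq hU h1 hc).trans (d.upt_fix hU hUq.2.2)
  have hmem : τ ∈ Subgroup.center G := by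
    refine mem_center_of_commute_gen d.pair.cls.2.2 fun e he => ?_
    by_cases hep : e = p
    · exact hep ▸ (d.tt_act τ hτ).1
    by_cases hpe : Commute p e
    · exact mul_inv_eq_iff_eq_mul.1 (hfix e ⟨he, hep, hpe⟩)
    obtain ⟨σ, hσ, rfl⟩ := d.transitive he hpe
    have h := d.fix_commute hτ hfix σ hσ
    exact (h.mul_right (mul_inv_eq_iff_eq_mul.1 hq)).mul_right h.inv_right
  rw [d.centre, Subgroup.mem_bot] at hmem
  exact hmem

theorem regular' {τ σ : G} (hτ : τ ∈ TT D p q) (hσ : σ ∈ TT D p q)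
    (h : τ * q * τ⁻¹ = σ * q * σ⁻¹) : τ = σ := by
  have e := d.regular (mul_mem (inv_mem hσ) hτ) (by
    rw [show σ⁻¹ * τ * q * (σ⁻¹ * τ)⁻¹ = σ⁻¹ * (τ * q * τ⁻¹) * σ⁻¹⁻¹ by group, h]
    group)
  exact (inv_mul_eq_one.1 e).symm

theorem p_ne_one : p ≠ 1 := ne_one d.hS d.hp

theorem pqp : p * q * p⁻¹ ≠ q := fun e => d.hpq (mul_inv_eq_iff_eq_mul.1 e)

/-- The involutions of the group. -/
theorem involution {τ : G} (hτ : τ ∈ TT D p q) (h2 : τ * τ = 1) :
    τ = 1 ∨ τ = p ∨ ∃ c ∈ UX D p q, τ = tt D p q c ∨ τ = p * tt D p q c := by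
  have hτp := (d.tt_act τ hτ).1
  set y := τ * q * τ⁻¹ with hy
  obtain ⟨hyD, hpy⟩ := d.conj_adj hτp d.hq d.hpq
  by_cases hyq : y = q
  · exact Or.inl (d.regular hτ hyq)
  by_cases hc : Commute q y
  · obtain ⟨c, hc', e⟩ := d.perp_q hyD hpy hc hyq
    exact Or.inr (Or.inr ⟨c, hc', Or.inr (d.regular' hτ (mul_mem d.p_mem (d.tt_mem hc'))
      (e.trans (d.ptt_q hc').symm))⟩)
  -- the third member is fixed
  set w := q * y * q with hw
  have hwD : w ∈ D := third_mem d.pair.closed d.hq hyD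
  have hfix : τ * w * τ⁻¹ = w := by
    have hτy : τ * y * τ⁻¹ = q := by rw [hy]; exact d.conj_inv_self h2 q
    calc τ * w * τ⁻¹ = (τ * q * τ⁻¹) * (τ * y * τ⁻¹) * (τ * q * τ⁻¹) := by rw [hw]; group
      _ = y * q * y := by rw [hτy]
      _ = w := by rw [hw, braid d.hS d.hq hyD hc]
  have hyw : y = q * w * q := by
    rw [hw]; simp only [mul_assoc, mul_self_assoc d.hS d.hq, mul_self d.hS d.hq, mul_one]
  by_cases hwp : w = p
  · refine Or.inr (Or.inl (d.regular' hτ d.p_mem ?_))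
    rw [← hy, hyw, hwp, inv_eq d.hS d.hp, braid d.hS d.hp d.hq d.hpq]
  by_cases hpw : Commute p w
  · have hwq : ¬ Commute w q := fun h => third_not_commute_left d.pair.closed d.hq hyD hc h.symm
    have hwX : w ∈ UX D p q := ⟨⟨hwD, hwp, hpw⟩, hwq⟩
    refine Or.inr (Or.inr ⟨w, hwX, Or.inl (d.regular' hτ (d.tt_mem hwX) ?_)⟩)
    rw [← hy, d.tt_q hwX, hyw, braid d.hS hwD d.hq hwq]
  obtain ⟨σ, hσ, e⟩ := d.transitive hwD hpw
  refine Or.inl ?_
  have h3 := d.regular (mul_mem (mul_mem (inv_mem hσ) hτ) hσ) (by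
    rw [show σ⁻¹ * τ * σ * q * (σ⁻¹ * τ * σ)⁻¹ = σ⁻¹ * (τ * (σ * q * σ⁻¹) * τ⁻¹) * σ⁻¹⁻¹ by group, e, hfix,
      ← e]
    group)
  calc τ = σ * (σ⁻¹ * τ * σ) * σ⁻¹ := by group
    _ = 1 := by rw [h3]; group

theorem tt_moves {a : G} (ha : a ∈ UX D p q) :
    ∃ v ∈ comSet D p, tt D p q a * v * (tt D p q a)⁻¹ ≠ v ∧
      p * tt D p q a * v * (p * tt D p q a)⁻¹ ≠ v := by
  obtain ⟨z, hz, hc⟩ := d.exists_adj ha.1
  refine ⟨z, hz, d.tt_ne ha hz hc, fun e => d.tt_ne ha hz hc ?_⟩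
  obtain ⟨h1, h2, -⟩ := (d.tt_act _ (d.tt_mem ha)).2 z hz
  rwa [show p * tt D p q a * z * (p * tt D p q a)⁻¹ = p * (tt D p q a * z * (tt D p q a)⁻¹) * p⁻¹ by group,
    d.conj_fix (d.line_sub hz h1 h2).1.2.2] at e

theorem p_fix {v : G} (hv : v ∈ comSet D p) : p * v * p⁻¹ = v := d.conj_fix hv.2.2

theorem fix_sq {τ : G} (hτ : τ ∈ TT D p q) (hfix : ∀ v ∈ comSet D p, τ * v * τ⁻¹ = v)
    (h2 : τ * τ = 1) : τ = 1 ∨ τ = p := by
  rcases d.involution hτ h2 with h | h | ⟨c, hc, rfl | rfl⟩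
  · exact Or.inl h
  · exact Or.inr h
  all_goals
    obtain ⟨v, hv, h1, h2⟩ := d.tt_moves hc
    first | exact absurd (hfix v hv) h1 | exact absurd (hfix v hv) h2

theorem gen_mem {g : G} (hg : g ∈ ugen D p q) : g ∈ TT D p q := Subgroup.subset_closure hg

/-- Generators commute up to `p`. -/
theorem gen_twist {g k : G} (hg : g ∈ ugen D p q) (hk : k ∈ ugen D p q) :
    g * k = k * g ∨ g * k = p * (k * g) := by
  obtain ⟨gg, -, -⟩ := d.gen_facts hg
  obtain ⟨kk, -, -⟩ := d.gen_facts hk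
  set z := g * k * (g * k) with hz
  have hzT : z ∈ TT D p q := mul_mem (mul_mem (d.gen_mem hg) (d.gen_mem hk)) (mul_mem (d.gen_mem hg) (d.gen_mem hk))
  have hfix : ∀ v ∈ comSet D p, z * v * z⁻¹ = v := by
    intro v hv
    obtain ⟨h1, h2, h3⟩ := (d.tt_act (g * k) (mul_mem (d.gen_mem hg) (d.gen_mem hk))).2 v hv
    have e1 : g * k * v * (g * k)⁻¹ = g * (k * v * k⁻¹) * g⁻¹ := by group
    have hkv : k * v * k⁻¹ ∈ comSet D p := (d.line_sub hv ((d.gen_facts hk).2.2 v hv).1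
      ((d.gen_facts hk).2.2 v hv).2.1).1
    calc z * v * z⁻¹ = g * (k * (g * (k * v * k⁻¹) * g⁻¹) * k⁻¹) * g⁻¹ := by rw [hz]; group
      _ = g * (g * (k * (k * v * k⁻¹) * k⁻¹) * g⁻¹) * g⁻¹ := by rw [d.gen_comm hk hg hkv]
      _ = v := by rw [d.conj_inv_self kk, d.conj_inv_self gg]
  have hzi : z⁻¹ = k * g * (k * g) := inv_eq_of_mul_eq_one_right (by
    rw [hz]
    calc g * k * (g * k) * (k * g * (k * g)) = g * k * (g * (k * k) * g) * (k * g) := by group
      _ = 1 := by rw [kk, mul_one, gg, mul_one]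
                  calc g * k * (k * g) = g * (k * k) * g := by group
                    _ = 1 := by rw [kk, mul_one, gg])
  have h2 : z * z = 1 := by
    have hc := d.fix_commute hzT hfix g (d.gen_mem hg)
    have e : g * z * g = z := by rw [← hc.eq, mul_assoc, gg, mul_one]
    have e' : g * z * g = z⁻¹ := by
      rw [hzi, hz]
      calc g * (g * k * (g * k)) * g = (g * g) * (k * g * (k * g)) := by group
        _ = k * g * (k * g) := by rw [gg, one_mul]
    exact mul_eq_one_iff_eq_inv.2 (e.symm.trans e')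
  have hgk : g * k = z * (k * g) := by
    rw [hz]
    calc g * k = g * k * g * (k * k) * g := by rw [kk, mul_one, mul_assoc _ g g, gg, mul_one]
      _ = g * k * (g * k) * (k * g) := by group
  rcases d.fix_sq hzT hfix h2 with h | h
  · left; rw [hgk, h, one_mul]
  · right; rw [hgk, h]

theorem p_central {τ : G} (hτ : τ ∈ TT D p q) : Commute p τ := (d.tt_act τ hτ).1.symm

theorem twist : ∀ τ ∈ TT D p q, ∀ σ ∈ TT D p q, τ * σ = σ * τ ∨ τ * σ = p * (σ * τ) := by
  have hpp := mul_self d.hS d.hp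
  have one : ∀ g ∈ ugen D p q, ∀ σ ∈ TT D p q, g * σ = σ * g ∨ g * σ = p * (σ * g) := by
    intro g hg
    refine d.tt_induction (Or.inl (by rw [mul_one, one_mul])) fun k hk σ hσ ih => ?_
    have hpk := d.p_central (d.gen_mem hk)
    have e : g * (k * σ) = (g * k) * σ := (mul_assoc _ _ _).symm
    rcases d.gen_twist hg hk with h1 | h1 <;> rcases ih with h2 | h2
    · left; rw [e, h1, mul_assoc, h2, ← mul_assoc]
    · right; rw [e, h1, mul_assoc, h2, ← mul_assoc k p, ← hpk.eq]; simp only [mul_assoc]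
    · right; rw [e, h1, mul_assoc p, mul_assoc k g, h2]; simp only [mul_assoc]
    · left
      rw [e, h1, mul_assoc p, mul_assoc k g, h2, ← mul_assoc k p, ← hpk.eq, mul_assoc p k, ← mul_assoc p p, hpp,
        one_mul, ← mul_assoc]
  refine d.tt_induction (fun σ _ => Or.inl (by rw [mul_one, one_mul])) fun g hg τ hτ ih σ hσ => ?_
  have hpg := d.p_central (d.gen_mem hg)
  rcases ih σ hσ with h1 | h1 <;> rcases one g hg σ hσ with h2 | h2
  · left; rw [mul_assoc, h1, ← mul_assoc g σ, h2, mul_assoc]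
  · right; rw [mul_assoc, h1, ← mul_assoc g σ, h2]; simp only [mul_assoc]
  · right; rw [mul_assoc, h1, ← mul_assoc g p, ← hpg.eq, mul_assoc p g, ← mul_assoc g σ, h2]; simp only [mul_assoc]
  · left
    rw [mul_assoc, h1, ← mul_assoc g p, ← hpg.eq, mul_assoc p g, ← mul_assoc g σ, h2]
    simp only [← mul_assoc, hpp, one_mul]

theorem sq_mem : ∀ τ ∈ TT D p q, τ * τ = 1 ∨ τ * τ = p := by
  have hpp := mul_self d.hS d.hp
  refine d.tt_induction (Or.inl (mul_one 1)) fun g hg τ hτ ih => ?_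
  obtain ⟨gg, -, -⟩ := d.gen_facts hg
  rcases d.twist τ hτ g (d.gen_mem hg) with h | h <;> rw [mul_assoc g τ, ← mul_assoc τ g, h]
  · simp only [← mul_assoc, gg, one_mul]; exact ih
  · have e : g * (p * (g * τ) * τ) = p * (τ * τ) := by
      rw [← mul_assoc, ← mul_assoc, (d.p_central (d.gen_mem hg)).eq.symm, mul_assoc p g, ← mul_assoc g g, gg]
      group
    rw [e]
    rcases ih with h' | h' <;> rw [h']
    · right; exact mul_one p
    · left; exact hpp

/-- The pointwise fixer of `D_p` in the group. -/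
theorem fix_iff {τ : G} (hτ : τ ∈ TT D p q) (hfix : ∀ v ∈ comSet D p, τ * v * τ⁻¹ = v) :
    τ = 1 ∨ τ = p := by
  by_contra hne
  have hne1 : τ * τ ≠ 1 := fun h => hne (d.fix_sq hτ hfix h)
  have hτ2 : τ * τ = p := (d.sq_mem τ hτ).resolve_left hne1
  push Not at hne
  have hτp := (d.tt_act τ hτ).1
  set y := τ * q * τ⁻¹ with hy
  obtain ⟨hyD, hpy⟩ := d.conj_adj hτp d.hq d.hpq
  have hnq : y ≠ q := fun e => hne.1 (d.regular hτ e)
  have hc : ¬ Commute q y := by
    intro hc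
    obtain ⟨c, hc', e⟩ := d.perp_q hyD hpy hc hnq
    obtain ⟨v, hv, -, h2⟩ := d.tt_moves hc'
    rw [← d.regular' hτ (mul_mem d.p_mem (d.tt_mem hc')) (e.trans (d.ptt_q hc').symm)] at h2
    exact h2 (hfix v hv)
  set w := q * y * q with hw
  have hwD : w ∈ D := third_mem d.pair.closed d.hq hyD
  have hyw : y = q * w * q := by
    rw [hw]; simp only [mul_assoc, mul_self_assoc d.hS d.hq, mul_self d.hS d.hq, mul_one]
  have hwperp : ∀ U ∈ comSet D p, Commute q U → Commute w U := by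
    intro U hU hUq
    have hyU : Commute y U := by
      have := (conj_commute_iff τ q U).2 hUq
      rwa [hfix U hU] at this
    exact (hUq.mul_left hyU).mul_left hUq
  by_cases hwp : w = p
  · refine hne.2 (d.regular' hτ d.p_mem ?_)
    rw [← hy, hyw, hwp, inv_eq d.hS d.hp, braid d.hS d.hp d.hq d.hpq]
  by_cases hpw : Commute p w
  · have hwm : w ∈ comSet D p := ⟨hwD, hwp, hpw⟩
    obtain ⟨z, hz, hwz⟩ := d.exists_adj hwm
    exact d.line_adj hwm hz hwz (Or.inr (Or.inl rfl)) hwp (d.upt_spec hz).1 (d.upt_spec hz).2.2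
      (hwperp _ (d.upt_mem hz).1 (d.upt_spec hz).2.1)
  obtain ⟨σ, hσ, e⟩ := d.transitive hwD hpw
  have hσfix : ∀ v ∈ comSet D p, σ * v * σ⁻¹ = v := by
    intro v hv
    obtain ⟨hU, hUq, hL⟩ := d.upt_mem hv
    refine d.fix_line hσ hU hUq.2.2 ?_ v (hL ▸ Or.inr (Or.inl rfl))
    obtain ⟨h1, h2, -⟩ := (d.tt_act σ hσ).2 _ hU
    have hc1 : Commute w (σ * per D p q v * σ⁻¹) := by rw [← e, conj_commute_iff]; exact hUq.2.2
    exact (d.per_unique hwD hpw hU h1 hc1).trans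
      (d.per_unique hwD hpw hU (Or.inr (Or.inl rfl)) (hwperp _ hU hUq.2.2)).symm
  rcases d.sq_mem σ hσ with h | h
  · rcases d.fix_sq hσ hσfix h with rfl | rfl
    · rw [one_mul, inv_one, mul_one] at e
      exact hnq (hyw.trans (by rw [← e, mul_self d.hS d.hq, one_mul]))
    · refine hpy ?_
      show Commute _ y
      rw [inv_eq d.hS d.hp, braid d.hS d.hp d.hq d.hpq] at e
      rw [hyw, ← e]
      simp only [mul_assoc, mul_self_assoc d.hS d.hq, mul_self d.hS d.hq, mul_one]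
      exact Commute.refl _
  have hcomm : Commute σ τ⁻¹ := (d.fix_commute hσ hσfix τ hτ).inv_right
  have hsq : σ * τ⁻¹ * (σ * τ⁻¹) = 1 := by
    rw [← pow_two, hcomm.mul_pow, inv_pow, pow_two, pow_two, h, hτ2, mul_inv_cancel]
  have hfix' : ∀ v ∈ comSet D p, σ * τ⁻¹ * v * (σ * τ⁻¹)⁻¹ = v := by
    intro v hv
    rw [show σ * τ⁻¹ * v * (σ * τ⁻¹)⁻¹ = σ * (τ⁻¹ * v * τ⁻¹⁻¹) * σ⁻¹ by group,
      d.conj_fix (show Commute τ v from mul_inv_eq_iff_eq_mul.1 (hfix v hv)).inv_left, hσfix v hv]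
  rcases d.fix_sq (mul_mem hσ (inv_mem hτ)) hfix' hsq with h' | h'
  · rw [mul_inv_eq_one.1 h', ← hy, hw] at e
    exact third_ne_right d.pair.closed d.hq hyD hc e.symm
  · rw [mul_inv_eq_iff_eq_mul.1 h', show p * τ * q * (p * τ)⁻¹ = p * (τ * q * τ⁻¹) * p⁻¹ by group, ← hy,
      inv_eq d.hS d.hp, hw, braid d.hS d.hp hyD hpy, braid d.hS d.hq hyD hc] at e
    exact d.hpq (mul_left_cancel (mul_right_cancel e) ▸ Commute.refl p)

end UData

end Cfsg.Agent.Lib.SporFischer
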