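import Cfsg.Agent.Lib.SporFischer.UForm
import Cfsg.Agent.Lib.SporFischer.UCoord
import Cfsg.Agent.Lib.Char2Inv.Forms
import Cfsg.Agent.Lib.UnitaryFour.Transvection
import Cfsg.Prelude.Def_Classical

/-!
The members of a Fischer group with lines of five members as the isotropic points of a unitary space over
the field of four elements, commutation being orthogonality.
-/

set_option autoImplicit false
set_option linter.style.haveILetI false
set_option linter.unusedSectionVars false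
set_option maxHeartbeats 1000000

open Cfsg Cfsg.Agent.Lib.ThreeTranspositions Cfsg.Agent.Lib.RankThree
open scoped Classical

namespace Cfsg.Agent.Lib.SporFischer

universe u

/-- A vector with two given first coordinates. -/
def mk2 {F : Type} {m : ℕ} (x y : F) (w : Fin m → F) : Fin (m + 2) → F := Fin.cons x (Fin.cons y w)

theorem herm_mk2 {F : Type} [Field F] {m : ℕ} (x y x' y' : F) (w w' : Fin m → F) :
    hermForm (m + 2) F 2 (mk2 x y w) (mk2 x' y' w') = x * x' ^ 2 + y * y' ^ 2 + hermForm m F 2 w w' := by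
  simp only [hermForm, mk2, Fin.sum_univ_succ, Fin.cons_zero, Fin.cons_succ]
  ring

theorem smul_mk2 {F : Type} [Field F] {m : ℕ} (c x y : F) (w : Fin m → F) :
    c • mk2 x y w = mk2 (c * x) (c * y) (c • w) := by
  funext i
  refine Fin.cases ?_ (fun i => ?_) i
  · rfl
  refine Fin.cases ?_ (fun i => ?_) i <;> rfl

variable {G : Type u} [Group G] {D : Set G}

namespace UData

variable {p q : G} (d : UData D p q) [Finite G]
include d

theorem cases_mem {y : G} (hy : y ∈ D) : y = p ∨ y ∈ USet D p q ∨ y ∈ UX D p q ∨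
    (¬ Commute p y ∧ ∃ τ ∈ TT D p q, τ * q * τ⁻¹ = y) := by
  have _ := d
  by_cases hyp : y = p
  · exact Or.inl hyp
  by_cases hc : Commute p y
  · by_cases hq : Commute y q
    · exact Or.inr (Or.inl ⟨⟨hy, hyp, hc⟩, hq.symm⟩)
    · exact Or.inr (Or.inr (Or.inl ⟨⟨hy, hyp, hc⟩, hq⟩))
  · exact Or.inr (Or.inr (Or.inr ⟨hc, d.transitive hy hc⟩))

theorem com_q_conj {ρ : G} (hρ : ρ ∈ TT D p q) : Commute q (ρ * q * ρ⁻¹) ↔
    ρ = 1 ∨ ∃ a ∈ UX D p q, ρ = p * tt D p q a := by
  constructor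
  · intro h
    by_cases h1 : ρ * q * ρ⁻¹ = q
    · exact Or.inl (d.regular hρ h1)
    obtain ⟨hD', hp'⟩ := d.conj_adj (d.tt_act ρ hρ).1 d.hq d.hpq
    obtain ⟨c, hc, e⟩ := d.perp_q hD' hp' h h1
    exact Or.inr ⟨c, hc, d.regular' hρ (mul_mem d.p_mem (d.tt_mem hc)) (e.trans (d.ptt_q hc).symm)⟩
  · rintro (rfl | ⟨a, ha, rfl⟩)
    · rw [one_mul, inv_one, mul_one]
    · rw [d.ptt_q ha]; exact d.com_ptt ha

/-- The model. -/
theorem exists_model (F : Type) [Field F] [Fintype F] (hF4 : Fintype.card F = 4) :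
    ∃ m : ℕ, 2 ≤ m ∧ ∃ vec : G → (Fin (m + 2) → F),
      (∀ x ∈ D, vec x ≠ 0 ∧ hermForm (m + 2) F 2 (vec x) (vec x) = 0) ∧
      (∀ x ∈ D, ∀ y ∈ D, (Commute x y ↔ hermForm (m + 2) F 2 (vec x) (vec y) = 0)) ∧
      (∀ v, v ≠ 0 → hermForm (m + 2) F 2 v v = 0 → ∃ x ∈ D, ∃ c : F, c ≠ 0 ∧ v = c • vec x) ∧
      vec p = mk2 1 1 0 := by
  -- the field
  have hF2 : Fintype.card F = 2 ^ 2 := hF4
  have h2 : (2 : F) = 0 := UnitaryFour.Transvection.two_eq_zero hF2
  haveI : CharP F 2 := CharTwo.of_one_ne_zero_of_two_eq_zero one_ne_zero h2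
  obtain ⟨ω, hω0, hω1, hω⟩ := UnitaryFour.Transvection.exists_omega hF2
  have hω3 : ω ^ 3 = 1 := by linear_combination (ω - 1) * hω
  have hωω0 : ω ^ 2 ≠ 0 := pow_ne_zero 2 hω0
  have hωω1 : ω ^ 2 ≠ 1 := fun e => hω0 (by linear_combination hω - e - (1 : F) * h2)
  have hωω : ω ^ 2 ≠ ω := fun e => one_ne_zero (α := F) (by linear_combination hω - e - ω * h2)
  have hF : ∀ a : F, a = 0 ∨ a = 1 ∨ a = ω ∨ a = ω ^ 2 := by
    intro a
    have e : ({0, 1, ω, ω ^ 2} : Finset F) = Finset.univ := by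
      apply Finset.eq_univ_of_card
      rw [hF4]
      simp [hω0.symm, hω1.symm, hωω0.symm, hωω1.symm, hωω.symm]
    have := Finset.mem_univ a
    rw [← e] at this
    simpa using this
  let emb : ZMod 2 →+* F := ZMod.castHom (dvd_refl 2) F
  have h01 : ∀ k : ZMod 2, k = 0 ∨ k = 1 := by decide
  have hk2 : ∀ k : ZMod 2, k + k = 0 := by decide
  have hembsq : ∀ k, emb k ^ 2 = emb k := fun k => by rcases h01 k with rfl | rfl <;> simp
  have hind : ∀ a b : ZMod 2, (emb a + ω ^ 2 * emb b = 0 → a = 0 ∧ b = 0) ∧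
      (emb a + ω ^ 2 * emb b = 1 → a = 1 ∧ b = 0) := by
    intro a b
    rcases h01 a with rfl | rfl <;> rcases h01 b with rfl | rfl <;>
      simp only [map_zero, map_one, mul_zero, mul_one, add_zero, zero_add]
    · simp
    · exact ⟨fun e => absurd e hωω0, fun e => absurd e hωω1⟩
    · simp
    · exact ⟨fun e => absurd (by linear_combination e - (1 : F) * h2) hωω1, fun e => absurd (by linear_combination e) hωω0⟩
  -- the orientation and the forms
  obtain ⟨om, ho'⟩ := d.exists_orient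
  have ho : IsOrient D p q om := ho'
  obtain ⟨Om, hOm, hquad⟩ := d.exists_operator ho
  obtain ⟨B, hBval, hBsymm, hBbf⟩ := d.exists_form
  let W := UW D p q
  have hadd2 : ∀ v : ↥W, v + v = 0 := fun v => by
    apply Subtype.ext; funext b; exact CharTwo.add_self_eq_zero _
  have hOm2 : ∀ v, Om (Om v) = Om v + v := fun v => by
    have h := hquad v
    calc Om (Om v) = Om (Om v) + ((Om v + Om v) + (v + v)) := by rw [hadd2, hadd2, add_zero, add_zero]
      _ = (Om (Om v) + Om v + v) + (Om v + v) := by abel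
      _ = Om v + v := by rw [h, zero_add]
  have hOm3 : ∀ v, Om (Om (Om v)) = v := fun v => by
    rw [hOm2 v, map_add, hOm2 v]
    calc Om v + v + Om v = (Om v + Om v) + v := by abel
      _ = v := by rw [hadd2, zero_add]
  have hiso : ∀ v w, B (Om v) (Om w) = B v w := by
    refine d.UW_induction (fun w => by simp) ?_ (fun v v' iv iv' w => by simp [iv, iv'])
    intro a
    refine d.UW_induction (by simp) ?_ (fun w w' iw iw' => by simp [iw, iw'])
    intro b
    rw [hOm, hOm, hBval, hBval]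
    exact d.psi_orient ho a.2 b.2
  let β : ↥W →ₗ[ZMod 2] ↥W →ₗ[ZMod 2] ZMod 2 := B.compl₂ (Om ∘ₗ Om)
  have hβ : ∀ v w, β v w = B v (Om (Om w)) := fun _ _ => rfl
  have hmove : ∀ v w, B v (Om (Om w)) = B (Om v) w := fun v w => by rw [← hiso v, hOm3]
  have hpolar : ∀ v w, β v w + β w v = B v w := by
    intro v w
    rw [hβ, hβ, hmove v w, hBsymm w (Om (Om v))]
    calc B (Om v) w + B (Om (Om v)) w = B (Om v + Om (Om v)) w := by simp
      _ = B v w := by
        rw [hOm2 v, show Om v + (Om v + v) = (Om v + Om v) + v by abel, hadd2, zero_add]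
  let P : G → ↥W := fun τ => if h : τ ∈ TT D p q then ⟨Psi D p q τ, d.Psi_mem τ h⟩ else 0
  have hP : ∀ τ ∈ TT D p q, Psi D p q τ = (P τ : ↥W) := fun τ hτ => by simp only [P, dif_pos hτ]
  have hPeq : ∀ τ ∈ TT D p q, ∀ v : ↥W, Psi D p q τ = v → P τ = v := fun τ hτ v e =>
    Subtype.ext ((hP τ hτ).symm.trans e)
  have hPmul : ∀ τ ∈ TT D p q, ∀ σ ∈ TT D p q, P (τ * σ) = P τ + P σ := fun τ hτ σ hσ =>
    hPeq _ (mul_mem hτ hσ) _ (by rw [d.Psi_mul hτ hσ, hP τ hτ, hP σ hσ]; rfl)
  have hPp : P p = 0 := hPeq _ d.p_mem _ d.Psi_p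
  have hPtt : ∀ a : ↥(UX D p q), P (tt D p q a) = pW D p q a := fun a => hPeq _ (d.tt_mem a.2) _ (d.Psi_tt a.2)
  have hPptt : ∀ a : ↥(UX D p q), P (p * tt D p q a) = pW D p q a := fun a => by
    rw [hPmul _ d.p_mem _ (d.tt_mem a.2), hPp, zero_add, hPtt]
  have hL : ∀ {x x' : G}, x ∈ UX D p q → x' ∈ UX D p q → per D p q x' = per D p q x → x' ∈ vLine D p x := by
    intro x x' hx hx' e
    rw [← (d.upt_mem hx.1).2.2, ← e, (d.upt_mem hx'.1).2.2]
    exact Or.inr (Or.inl rfl)
  have hblock : ∀ a : ↥(UX D p q), om (om a) ∈ UX D p q ∧ per D p q (om (om a)) = per D p q a := fun a =>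
    ⟨(ho _ (ho a a.2).1).1, (ho _ (ho a a.2).1).2.1.trans (ho a a.2).2.1⟩
  have hβval : ∀ a b : ↥(UX D p q), β (pW D p q a) (pW D p q b) = psi D p q a ⟨om (om b), (hblock b).1⟩ := by
    intro a b; rw [hβ, hOm, hOm, hBval]; rfl
  have hBaa : ∀ v, B v v = 0 := by
    intro v
    obtain ⟨τ, hτ, e⟩ := d.exists_lift v
    rw [← hBbf τ hτ τ hτ v v e e]; exact if_pos (Commute.refl τ)
  have hsq : ∀ τ ∈ TT D p q, τ * τ = pp p (β (P τ) (P τ)) := by
    refine d.tt_induction ?_ ?_
    · rw [hPeq 1 (one_mem _) 0 d.Psi_one, map_zero]; simp [pp]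
    intro g hg τ hτ ih
    obtain ⟨gg, -, -⟩ := d.gen_facts hg
    have hgT := d.gen_mem hg
    have hg0 : β (P g) (P g) = 0 := by
      rcases hg with rfl | ⟨a, ha, rfl⟩
      · rw [hPp, map_zero]
      · rw [show P (tt D p q a) = pW D p q ⟨a, ha⟩ from hPtt ⟨a, ha⟩, hβval]
        exact d.psi_of_com ha (hblock ⟨a, ha⟩).1
          (vLine_commute ha.1 (Or.inr (Or.inl rfl)) (hL ha (hblock ⟨a, ha⟩).1 (hblock ⟨a, ha⟩).2))
    rw [hPmul g hgT τ hτ, show β (P g + P τ) (P g + P τ) = β (P g) (P g) + β (P τ) (P τ) +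
      (β (P τ) (P g) + β (P g) (P τ)) by simp only [map_add, LinearMap.add_apply]; abel, hg0, zero_add,
      hpolar, ← hBbf τ hτ g hgT _ _ (hP τ hτ) (hP g hgT), d.pp_add, ← ih]
    calc g * τ * (g * τ) = g * (τ * g) * τ := by group
      _ = g * pp p (bf τ g) * (g * τ) * τ := by rw [d.bf_spec hτ hgT]; group
      _ = pp p (bf τ g) * (g * g) * (τ * τ) := by rw [← (d.pp_comm hgT _).eq]; group
      _ = τ * τ * pp p (bf τ g) := by rw [gg, mul_one, (d.pp_comm (mul_mem hτ hτ) _).eq]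
  obtain ⟨ε, hεp, hε⟩ := d.exists_split β
    (fun τ hτ σ hσ v w ev ew => by rw [hpolar]; exact hBbf τ hτ σ hσ v w ev ew)
    (fun τ hτ v ev => by rw [← hPeq τ hτ v ev]; exact hsq τ hτ)
  have hεmul : ∀ τ ∈ TT D p q, ∀ σ ∈ TT D p q, ε (τ * σ) = ε τ + ε σ + β (P τ) (P σ) :=
    fun τ hτ σ hσ => hε τ hτ σ hσ _ _ (hP τ hτ) (hP σ hσ)
  -- the vector space over `F`
  have hOm3' : Om * Om * Om = 1 := LinearMap.ext fun v => hOm3 v
  have hOm2' : Om * Om = Om + 1 := LinearMap.ext fun v => hOm2 v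
  have hE2 : ∀ f : Module.End (ZMod 2) ↥W, f + f = 0 := fun f => LinearMap.ext fun v => hadd2 _
  let sc : F → Module.End (ZMod 2) ↥W := fun c =>
    if c = 0 then 0 else if c = 1 then 1 else if c = ω then Om else Om * Om
  have sc0 : sc 0 = 0 := if_pos rfl
  have sc1 : sc 1 = 1 := by simp [sc]
  have scω : sc ω = Om := by simp [sc, hω0, hω1]
  have scωω : sc (ω ^ 2) = Om * Om := by simp [sc, hωω0, hωω1, hωω]
  have f11 : (1 : F) + 1 = 0 := by linear_combination h2
  have fωω : ω + ω = 0 := by linear_combination ω * h2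
  have fss : ω ^ 2 + ω ^ 2 = 0 := by linear_combination ω ^ 2 * h2
  have f1ω : 1 + ω = ω ^ 2 := by linear_combination hω - ω ^ 2 * h2
  have f1s : 1 + ω ^ 2 = ω := by linear_combination hω - ω * h2
  have fωs : ω + ω ^ 2 = 1 := by linear_combination hω - (1 : F) * h2
  have mωω : ω * ω = ω ^ 2 := by ring
  have mωs : ω * ω ^ 2 = 1 := by linear_combination hω3
  have msω : ω ^ 2 * ω = 1 := by linear_combination hω3
  have mss : ω ^ 2 * ω ^ 2 = ω := by linear_combination ω * hω3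
  let φ : F →+* Module.End (ZMod 2) ↥W :=
    { toFun := sc
      map_one' := sc1
      map_zero' := sc0
      map_mul' := fun a b => by
        rcases hF a with ha | ha | ha | ha <;> rcases hF b with hb | hb | hb | hb <;> rw [ha, hb] <;>
          simp only [zero_mul, mul_zero, one_mul, mul_one, mωω, mωs, msω, mss, sc0, sc1, scω, scωω] <;>
          simp only [← mul_assoc, hOm3', one_mul]
      map_add' := fun a b => by
        have t1 : Om + Om * Om = 1 := by rw [hOm2', ← add_assoc, hE2, zero_add]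
        have t2 : 1 + Om * Om = Om := by rw [hOm2', add_comm, add_assoc, hE2, add_zero]
        have t3 : 1 + Om = Om * Om := by rw [hOm2', add_comm]
        rcases hF a with ha | ha | ha | ha <;> rcases hF b with hb | hb | hb | hb <;> rw [ha, hb] <;>
          simp only [zero_add, add_zero, f11, fωω, fss, f1ω, f1s, fωs, add_comm ω 1, add_comm (ω ^ 2) 1,
            add_comm (ω ^ 2) ω, sc0, sc1, scω, scωω, hE2, add_comm Om 1, add_comm (Om * Om) 1,
            add_comm (Om * Om) Om, t1, t2, t3] }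
  letI : Module F ↥W := Module.compHom ↥W φ
  have hsmul : ∀ (c : F) (v : ↥W), c • v = sc c v := fun _ _ => rfl
  haveI : Module.Finite F ↥W := Module.Finite.of_finite
  let σ : F →+* F := frobenius F 2
  have hσ : ∀ x, σ x = x ^ 2 := fun x => rfl
  let h : ↥W → ↥W → F := fun v w => emb (β v w) + ω ^ 2 * emb (B v w)
  have hH : Char2Inv.Forms.IsHerm σ h := by
    refine ⟨fun u v w => ?_, fun c u v => ?_, fun u v => ?_, fun x => ?_⟩
    · simp only [h, map_add, LinearMap.add_apply]; ring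
    · have key : ∀ u v, h (Om u) v = ω * h u v := by
        intro u v
        have e1 : β (Om u) v = β u v + B u v := by
          rw [hβ, hiso, hβ, hOm2, map_add, add_assoc, hk2, add_zero]
        have e2 : B (Om u) v = β u v := by rw [hβ, hmove]
        simp only [h, e1, e2, map_add]
        linear_combination (emb (β u v)) * f1s - (emb (B u v)) * mωs
      rw [hsmul]
      rcases hF c with hc | hc | hc | hc <;> rw [hc]
      · simp [sc0, h]
      · simp [sc1]
      · rw [scω, key]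
      · rw [scωω, Module.End.mul_apply, key, key]; ring
    · show emb (β v u) + ω ^ 2 * emb (B v u) = σ (emb (β u v) + ω ^ 2 * emb (B u v))
      rw [map_add, map_mul, hσ, hσ, hσ, hembsq, hembsq, hBsymm v u, show β v u = β u v + B u v by
        rw [← hpolar u v, ← add_assoc, hk2, zero_add], map_add, show (ω ^ 2) ^ 2 = ω by
        linear_combination ω * hω3]
      linear_combination (emb (B u v)) * f1s
    · rw [hσ, hσ]
      rcases hF x with hx | hx | hx | hx <;> rw [hx]
      · ring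
      · ring
      · linear_combination ω * hω3
      · linear_combination (ω ^ 5 + ω ^ 2) * hω3
  have hhh : ∀ v, h v v = emb (β v v) := fun v => by simp [h, hBaa]
  have hnd : Char2Inv.Forms.NondegOn h ⊤ := by
    intro v _ hv
    apply Subtype.ext
    funext b
    rw [← hBval v b]
    exact ((hind _ _).1 (hv (pW D p q b) trivial)).2
  haveI : FiniteDimensional F ↥W := inferInstance
  obtain ⟨m, e, hfr⟩ := Char2Inv.Forms.exists_orthonormal_frame hH (fun c hc => ⟨c, by
      rw [hσ] at hc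
      rw [hσ, ← pow_succ']
      rcases hF c with hc' | hc' | hc' | hc' <;> rw [hc'] at hc ⊢
      · ring
      · ring
      · exact absurd hc hωω
      · exact absurd (show ω = ω ^ 2 by rw [← hc]; linear_combination -ω * hω3) hωω.symm⟩)
    ⊤ hnd (fun hne => by
      by_contra hno
      push Not at hno
      refine hne ((Submodule.eq_bot_iff _).2 fun v _ => ?_)
      apply Subtype.ext
      funext b
      rw [← hBval v b, ← hpolar]
      have z : ∀ u, β u u = 0 := fun u => ((hind (β u u) 0).1 (by simpa [hhh] using hno u trivial)).1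
      have := z (v + pW D p q b)
      simpa [z] using this)
  let co : ↥W → Fin m → F := fun v i => h v (e i)
  let mkW : (Fin m → F) → ↥W := fun x => ∑ i, x i • e i
  have hco : ∀ x, co (mkW x) = x := fun x => funext fun i => hfr.coeff hH x i
  have hmk : ∀ v, mkW (co v) = v := fun v => (hfr.expand v trivial).symm
  have hcoadd : ∀ v w, co (v + w) = co v + co w := fun v w => funext fun i => hH.add_left _ _ _
  have hcosmul : ∀ (c : F) v, co (c • v) = c • co v := fun c v => funext fun i => hH.smul_left _ _ _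
  have hmkadd : ∀ x y, mkW (x + y) = mkW x + mkW y := fun x y => by
    simp only [mkW, Pi.add_apply, add_smul, Finset.sum_add_distrib]
  have hherm : ∀ v w, hermForm m F 2 (co v) (co w) = h v w := by
    intro v w
    conv_rhs => rw [← hmk v]
    simp only [mkW, hH.sum_left, hH.smul_left, hermForm]
    refine Finset.sum_congr rfl fun i _ => ?_
    rw [hH.symm w (e i), hσ]
  have hco0 : co 0 = 0 := funext fun i => hH.zero_left _
  have hIso : ∀ v, UCoord.Iso (co v) ↔ h v v = 0 := by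
    intro v
    rw [← hherm, UCoord.Iso, hermForm]
    simp only [← pow_succ']
  -- singular vectors
  have hsing : ∀ v, v ≠ 0 → h v v = 0 → ∃ a, v = pW D p q a := by
    intro v hv hv0
    obtain ⟨τ, hτ, eτ⟩ := d.exists_lift v
    have ev := hPeq τ hτ v eτ
    have h1 : τ * τ = 1 := by
      rw [hsq τ hτ, ev, ((hind (β v v) 0).1 (by simpa [hhh] using hv0)).1]; exact if_pos rfl
    rcases d.involution hτ h1 with rfl | rfl | ⟨a, ha, rfl | rfl⟩
    · exact absurd (ev.symm.trans (hPeq 1 (one_mem _) 0 d.Psi_one)) hv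
    · exact absurd (ev.symm.trans hPp) hv
    · exact ⟨⟨a, ha⟩, ev.symm.trans (hPtt ⟨a, ha⟩)⟩
    · exact ⟨⟨a, ha⟩, ev.symm.trans (hPptt ⟨a, ha⟩)⟩
  have hpWne : ∀ a, pW D p q a ≠ 0 := fun a e => d.psi_ne_zero a.2 (congrArg Subtype.val e)
  have hpWs : ∀ a, h (pW D p q a) (pW D p q a) = 0 := by
    intro a
    rw [hhh, hβval]
    rw [d.psi_of_com a.2 (hblock a).1 (vLine_commute a.2.1 (Or.inr (Or.inl rfl))
      (hL a.2 (hblock a).1 (hblock a).2)), map_zero]
  have hpWinj : ∀ a b, pW D p q a = pW D p q b → a = b := fun a b e =>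
    Subtype.ext (d.psi_inj a.2 b.2 (congrArg Subtype.val e))
  have hpair : ∀ a b : ↥(UX D p q), (h (pW D p q a) (pW D p q b) = 0 → Commute (a : G) b) ∧
      (Commute (a : G) b → h (pW D p q a) (pW D p q b) = 0) ∧
      (h (pW D p q a) (pW D p q b) = 1 → E1 q a b) := by
    intro a b
    have hLb := hL b.2 (hblock b).1 (hblock b).2
    refine ⟨fun h0 => ?_, fun hc => ?_, fun h1 => ?_⟩
    · obtain ⟨z1, z2⟩ := (hind _ _).1 h0
      rw [hβval] at z1
      rw [hBval] at z2
      by_contra hc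
      have hc' : ¬ Commute (a : G) (om (om b)) := d.line_adj a.2.1 b.2.1 hc (Or.inr (Or.inl rfl)) a.2.1.2.1 hLb
        (hblock b).1.1.2.1
      have e1 := ((d.e1_iff a.2 b.2).1 (((d.psi_eq_zero a.2 b.2).1 z2).resolve_left hc)).2
      have e2 := ((d.e1_iff a.2 (hblock b).1).1
        (((d.psi_eq_zero a.2 (hblock b).1).1 z1).resolve_left hc')).2
      rw [(hblock b).2] at e2
      exact (d.orient_distinct ho b.2).2.1 (e1.trans e2.symm)
    · have hc' : Commute (a : G) (om (om b)) := d.line_com a.2.1 b.2.1 hc (Or.inr (Or.inl rfl)) hLb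
      simp only [h, hβval, hBval]
      rw [d.psi_of_com a.2 (hblock b).1 hc', show (pW D p q a).1 b = 0 from d.psi_of_com a.2 b.2 hc]
      simp
    · obtain ⟨z1, z2⟩ := (hind _ _).2 h1
      rw [hβval] at z1
      rw [hBval] at z2
      refine ((d.psi_eq_zero a.2 b.2).1 z2).resolve_left fun hc => ?_
      rw [d.psi_of_com a.2 (hblock b).1 (d.line_com a.2.1 b.2.1 hc (Or.inr (Or.inl rfl)) hLb)] at z1
      exact zero_ne_one z1
  -- adjusting the splitting function
  let η : (Fin m → F) → ZMod 2 := fun x =>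
    if hx : ∃ a, mkW x = pW D p q a then ε (p * tt D p q hx.choose) else 0
  have hηval : ∀ a, η (co (pW D p q a)) = ε (p * tt D p q a) := by
    intro a
    have hx : ∃ b, mkW (co (pW D p q a)) = pW D p q b := ⟨a, hmk _⟩
    simp only [η, dif_pos hx]
    rw [← hpWinj _ _ ((hmk _).symm.trans hx.choose_spec)]
  obtain ⟨l, hl⟩ := UCoord.exists_additive hω hF η (fun u v hu hv huv iu iv iuv => by
    have hmne : ∀ x, x ≠ 0 → mkW x ≠ 0 := fun x hx e => hx (by rw [← hco x, e, hco0])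
    have hmiso : ∀ x, UCoord.Iso x → h (mkW x) (mkW x) = 0 := fun x hx => (hIso _).1 (by rwa [hco])
    obtain ⟨a, ea⟩ := hsing _ (hmne u hu) (hmiso u iu)
    obtain ⟨b, eb⟩ := hsing _ (hmne v hv) (hmiso v iv)
    obtain ⟨c, ec⟩ := hsing _ (hmne _ huv) (hmiso _ iuv)
    rw [← hco u, ← hco v, ← hcoadd, ea, eb, ← ea, ← eb, ← hmkadd, ec, ea, eb, hηval, hηval, hηval]
    rw [hmkadd, ea, eb] at ec
    have hab : a ≠ b := fun e => hpWne c (by rw [← ec, e, hadd2])
    have hval := hpWs c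
    rw [← ec, hH.add_left, hH.add_right, hH.add_right, hpWs, hpWs, zero_add, add_zero,
      hH.symm (pW D p q a) (pW D p q b), hσ] at hval
    have e3 : ∀ τ ∈ TT D p q, ε (p * τ) = ε τ + 1 := fun τ hτ => by
      rw [hεmul p d.p_mem τ hτ, hεp, hPp, map_zero, LinearMap.zero_apply, add_zero, add_comm]
    rw [e3 _ (d.tt_mem a.2), e3 _ (d.tt_mem b.2), e3 _ (d.tt_mem c.2)]
    have hprod := hεmul _ (d.tt_mem a.2) _ (d.tt_mem b.2)
    rw [hPtt, hPtt] at hprod
    rcases hF (h (pW D p q a) (pW D p q b)) with h0 | h0 | h0 | h0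
    · obtain ⟨c', hc', e'⟩ := d.mul_com a.2 b.2 ((hpair a b).1 h0) (fun e => hab (Subtype.ext e))
      have e4 : pW D p q ⟨c', hc'⟩ = pW D p q c := by
        rw [← ec, ← hPptt ⟨c', hc'⟩, ← e', hPmul _ (d.tt_mem a.2) _ (d.tt_mem b.2), hPtt, hPtt]
      rw [e', ((hind _ _).1 h0).1, e3 _ (d.tt_mem hc'), show c' = (c : G) from
        congrArg Subtype.val (hpWinj _ _ e4)] at hprod
      linear_combination hprod - (CharP.cast_eq_zero (ZMod 2) 2)
    · obtain ⟨hc', -, e'⟩ := d.mul_e1 a.2 b.2 ((hpair a b).2.2 h0)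
      have e4 : pW D p q ⟨_, hc'⟩ = pW D p q c := by
        rw [← ec, ← hPtt ⟨_, hc'⟩, ← e', hPmul _ (d.tt_mem a.2) _ (d.tt_mem b.2), hPtt, hPtt]
      rw [e', ((hind _ _).2 h0).1] at hprod
      rw [show per D p q a * b * (per D p q a)⁻¹ = (c : G) from congrArg Subtype.val (hpWinj _ _ e4)] at hprod
      linear_combination hprod
    · rw [h0] at hval; exact absurd (by linear_combination hval - fωs) one_ne_zero
    · rw [h0] at hval; exact absurd (by linear_combination hval - fωs - mss) one_ne_zero)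
  let cc : G → F := fun τ => ω * emb (β (P τ) (P τ)) + emb (ε τ + l (co (P τ)))
  have hcmul : ∀ τ ∈ TT D p q, ∀ ρ ∈ TT D p q, cc (τ * ρ) = cc τ + cc ρ + h (P ρ) (P τ) := by
    intro τ hτ ρ hρ
    simp only [cc, h, hPmul τ hτ ρ hρ, hεmul τ hτ ρ hρ, hcoadd, map_add, LinearMap.add_apply,
      hBsymm (P ρ) (P τ), ← hpolar (P τ) (P ρ)]
    linear_combination (emb (β (P τ) (P ρ)) + emb (β (P ρ) (P τ))) * hω
      - (ω ^ 2 * (emb (β (P τ) (P ρ)) + emb (β (P ρ) (P τ))) + emb (β (P ρ) (P τ))) * h2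
  have hctr : ∀ τ, cc τ + cc τ ^ 2 + h (P τ) (P τ) = 0 := by
    intro τ
    simp only [cc, hhh]
    have := hembsq (β (P τ) (P τ))
    have := hembsq (ε τ + l (co (P τ)))
    linear_combination ω ^ 2 * hembsq (β (P τ) (P τ)) + hembsq (ε τ + l (co (P τ)))
      + emb (β (P τ) (P τ)) * hω + ω * emb (β (P τ) (P τ)) * emb (ε τ + l (co (P τ))) * h2
      + emb (ε τ + l (co (P τ))) * h2
  have hcp : cc p = 1 := by simp [cc, hPp, hεp, hco0]
  have hcpt : ∀ a : ↥(UX D p q), cc (p * tt D p q a) = 0 := by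
    intro a
    simp only [cc, hPptt, ((hind _ 0).1 (by simpa [hhh] using hpWs a)).1, map_zero, mul_zero, zero_add]
    rw [hl _ (fun e => hpWne a (by rw [← hmk (pW D p q a), e]; simp [mkW])) ((hIso _).2 (hpWs a)), hηval,
      hk2, map_zero]
  have hc1 : cc 1 = 0 := by
    have e1 := hεmul 1 (one_mem _) 1 (one_mem _)
    have e2 : P 1 = 0 := hPeq 1 (one_mem _) 0 d.Psi_one
    rw [one_mul, e2, map_zero, add_zero, hk2] at e1
    simp [cc, e2, e1, hco0]
  have hczero : ∀ ρ ∈ TT D p q, (cc ρ = 0 ↔ Commute q (ρ * q * ρ⁻¹)) := by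
    intro ρ hρ
    rw [d.com_q_conj hρ]
    constructor
    · intro h0
      have hs : h (P ρ) (P ρ) = 0 := by have := hctr ρ; rw [h0] at this; simpa using this
      by_cases hw : P ρ = 0
      · rcases d.Psi_eq_zero hρ (by rw [hP ρ hρ, hw]; rfl) with rfl | rfl
        · exact Or.inl rfl
        · exact absurd (hcp.symm.trans h0) one_ne_zero
      obtain ⟨a, ea⟩ := hsing _ hw hs
      rcases d.Psi_eq_zero (mul_mem hρ (inv_mem (mul_mem d.p_mem (d.tt_mem a.2)))) (by
        have := d.Psi_mul (mul_mem hρ (inv_mem (mul_mem d.p_mem (d.tt_mem a.2)))) (mul_mem d.p_mem (d.tt_mem a.2))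
        rw [inv_mul_cancel_right, hP ρ hρ, ea, d.Psi_ptt a.2] at this
        exact right_eq_add.1 this) with e' | e'
      · exact Or.inr ⟨a, a.2, mul_inv_eq_one.1 e'⟩
      · exfalso
        rw [mul_inv_eq_iff_eq_mul.1 e', hcmul p d.p_mem _ (mul_mem d.p_mem (d.tt_mem a.2)), hcp, hcpt, hPp,
          hH.zero_right, add_zero, add_zero] at h0
        exact one_ne_zero h0
    · rintro (rfl | ⟨a, ha, rfl⟩)
      exacts [hc1, hcpt ⟨a, ha⟩]
  -- representatives and the vectors
  choose τof hτof hτq using fun y : {y // y ∈ D ∧ ¬ Commute p y} => d.transitive y.2.1 y.2.2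
  have hrep : ∀ U : ↥(USet D p q), ∃ a, a ∈ blk D p q U := fun U =>
    Set.nonempty_of_ncard_ne_zero (by rw [d.blk_ncard U.2]; norm_num)
  choose rep hrep using hrep
  let z : G → Fin (m + 2) → F := fun τ => mk2 (cc τ + ω) (cc τ + ω ^ 2) (co (P τ))
  let vec : G → Fin (m + 2) → F := fun y =>
    if hy : y ∈ D ∧ ¬ Commute p y then z (τof ⟨y, hy⟩)
    else if hU : y ∈ USet D p q then mk2 0 0 (co (pW D p q ⟨rep ⟨y, hU⟩, (hrep ⟨y, hU⟩).1⟩))
    else if hX : y ∈ UX D p q then mk2 1 1 (co (pW D p q ⟨y, hX⟩))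
    else mk2 1 1 0
  have vp : vec p = mk2 1 1 0 := by
    simp only [vec]
    rw [dif_neg (fun hh => hh.2 (Commute.refl p)), dif_neg (fun hh => hh.1.2.1 rfl), dif_neg (fun hh => hh.1.2.1 rfl)]
  have vz : ∀ τ ∈ TT D p q, vec (τ * q * τ⁻¹) = z τ := by
    intro τ hτ
    have hy := d.conj_adj (d.tt_act τ hτ).1 d.hq d.hpq
    simp only [vec, dif_pos hy]
    rw [d.regular' (hτof ⟨_, hy⟩) hτ (hτq ⟨_, hy⟩)]
  have vX : ∀ a : ↥(UX D p q), vec a = mk2 1 1 (co (pW D p q a)) := by
    intro a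
    simp only [vec]
    rw [dif_neg (fun hh => hh.2 a.2.1.2.2), dif_neg (fun hh => a.2.2 hh.2.symm), dif_pos a.2]
  have vU : ∀ U : ↥(USet D p q), vec U = mk2 0 0 (co (pW D p q ⟨rep U, (hrep U).1⟩)) := by
    intro U
    simp only [vec]
    rw [dif_neg (fun hh => hh.2 U.2.1.2.2), dif_pos U.2]
  have hDp : ∀ y ∈ comSet D p, ∃ (a : ↥(UX D p q)) (x : F), vec y = mk2 x x (co (pW D p q a)) ∧
      (a : G) ∈ vLine D p y := by
    intro y hy
    by_cases hq' : Commute y q
    · refine ⟨_, 0, vU ⟨y, hy, hq'.symm⟩, ?_⟩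
      obtain ⟨h1, h2'⟩ := hrep ⟨y, hy, hq'.symm⟩
      have e0 := (d.upt_mem h1.1).2.2
      rw [show per D p q (rep ⟨y, hy, hq'.symm⟩) = y from h2'] at e0
      rw [e0]
      exact Or.inr (Or.inl rfl)
    · exact ⟨⟨y, hy, hq'⟩, 1, vX ⟨y, hy, hq'⟩, Or.inr (Or.inl rfl)⟩
  have eqz : ∀ (w : Fin m → F) x τ, hermForm (m + 2) F 2 (mk2 x x w) (z τ) =
      x + hermForm m F 2 w (co (P τ)) := by
    intro w x τ
    simp only [z, herm_mk2]
    linear_combination x * fωs + (x * cc τ ^ 2 + x * cc τ * ω + x * cc τ * ω ^ 2) * h2 + x * ω * hω3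
  have ezz : ∀ τ ∈ TT D p q, ∀ σ ∈ TT D p q,
      hermForm (m + 2) F 2 (z σ) (z τ) = cc (τ⁻¹ * σ) := by
    intro τ hτ σ hσ
    simp only [z, herm_mk2, hherm]
    have e1 := hcmul τ hτ (τ⁻¹ * σ) (mul_mem (inv_mem hτ) hσ)
    have e2 : P σ = P τ + P (τ⁻¹ * σ) := by
      rw [← hPmul τ hτ _ (mul_mem (inv_mem hτ) hσ), mul_inv_cancel_left]
    rw [mul_inv_cancel_left] at e1
    rw [e2, hH.add_left]
    linear_combination e1 + hctr τ + (h (P (τ⁻¹ * σ)) (P τ) + cc σ * cc τ ^ 2 + 1
      + cc τ * ω * (cc σ + ω) + cc τ * ω ^ 2 * (cc σ + ω ^ 2)) * h2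
      + (cc σ + cc τ ^ 2) * fωs + (cc σ * ω + ω ^ 3 + 2) * hω3
  have hs : ∀ u v, hermForm (m + 2) F 2 u v = 0 → hermForm (m + 2) F 2 v u = 0 :=
    fun u v h0 => Unitary.herm_eq_zero_symm hF2 h0
  -- members commuting with `p` against members adjacent to it
  have hcross : ∀ y ∈ comSet D p, ∀ τ ∈ TT D p q,
      (Commute y (τ * q * τ⁻¹) ↔ hermForm (m + 2) F 2 (vec y) (z τ) = 0) := by
    intro y hy τ hτ
    obtain ⟨hyD, hpy⟩ := d.conj_adj (d.tt_act τ hτ).1 d.hq d.hpq
    have hsec : ∀ b : ↥(UX D p q), (P τ).1 b = sec D p q (τ * q * τ⁻¹) b := fun b => by rw [← hP τ hτ]; rfl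
    have huniq : ∀ {v v' w : G}, w ∈ comSet D p → v ∈ vLine D p w → v' ∈ vLine D p w →
        Commute (τ * q * τ⁻¹) v → Commute (τ * q * τ⁻¹) v' → v = v' := fun hw hv hv' c c' =>
      (d.per_unique hyD hpy hw hv c).trans (d.per_unique hyD hpy hw hv' c').symm
    have hcomp : ∀ a : ↥(UX D p q), (P τ).1 a = 1 ↔ ¬ (Commute (τ * q * τ⁻¹) (a : G) ∨
        Commute (τ * q * τ⁻¹) (per D p q a)) := fun a => by
      rw [hsec, sec]
      split_ifs with h' <;> simp [h']
    have hcomp0 : ∀ a : ↥(UX D p q), (P τ).1 a = 0 ↔ (Commute (τ * q * τ⁻¹) (a : G) ∨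
        Commute (τ * q * τ⁻¹) (per D p q a)) := fun a => by
      rw [hsec, sec]
      split_ifs with h' <;> simp [h']
    have hval : ∀ a : ↥(UX D p q), h (pW D p q a) (P τ) =
        emb ((P τ).1 ⟨om a, (ho a a.2).1⟩) + ω ^ 2 * emb ((P τ).1 a) := fun a => by
      simp only [h]
      rw [hβ, hmove, hOm, hBsymm, hBval, hBsymm, hBval]
    have hoa : ∀ a : ↥(UX D p q), per D p q (om a) = per D p q a ∧ om a ∈ vLine D p (a : G) ∧ om a ≠ a ∧
        per D p q a ∈ vLine D p (a : G) ∧ (a : G) ≠ per D p q a ∧ om a ≠ per D p q a := fun a => by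
      obtain ⟨o1, o2, o3, -⟩ := ho a a.2
      exact ⟨o2, hL a.2 o1 o2, o3, (d.upt_spec a.2.1).1, Ne.symm (d.upt_ne a.2),
        fun e => d.upt_ne o1 (o2.trans e.symm)⟩
    by_cases hq' : Commute y q
    · rw [vU ⟨y, hy, hq'.symm⟩, eqz, zero_add, hherm, hval]
      set a : ↥(UX D p q) := ⟨_, (hrep ⟨y, hy, hq'.symm⟩).1⟩
      have hay : per D p q a = y := (hrep ⟨y, hy, hq'.symm⟩).2
      obtain ⟨o2, oL, o3, uL, ua, ub⟩ := hoa a
      constructor
      · intro hc
        rw [(hcomp0 _).2 (Or.inr (by rw [show per D p q (om a) = y from o2.trans hay]; exact hc.symm)),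
          (hcomp0 a).2 (Or.inr (by rw [hay]; exact hc.symm))]
        simp
      · intro h0
        obtain ⟨z1, z2⟩ := (hind _ _).1 h0
        rcases (hcomp0 a).1 z2 with c1 | c1
        · rcases (hcomp0 _).1 z1 with c2 | c2
          · exact absurd (huniq a.2.1 oL (Or.inr (Or.inl rfl)) c2 c1) o3
          · rw [show per D p q (om a) = y from o2.trans hay] at c2; exact c2.symm
        · rw [hay] at c1; exact c1.symm
    · have hyX : y ∈ UX D p q := ⟨hy, hq'⟩
      rw [vX ⟨y, hyX⟩, eqz, hherm, hval, CharTwo.add_eq_zero]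
      obtain ⟨o2, oL, o3, uL, ua, ub⟩ := hoa ⟨y, hyX⟩
      constructor
      · intro hc
        rw [(hcomp0 ⟨y, hyX⟩).2 (Or.inl hc.symm), (hcomp ⟨om y, _⟩).2 (by
          rintro (c2 | c2)
          · exact o3 (huniq hy oL (Or.inr (Or.inl rfl)) c2 hc.symm)
          · rw [show per D p q (om y) = per D p q y from o2] at c2
            exact ua (huniq hy (Or.inr (Or.inl rfl)) uL hc.symm c2))]
        simp
      · intro h1
        obtain ⟨z1, z2⟩ := (hind _ _).2 h1.symm
        have z1' := (hcomp _).1 z1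
        rcases (hcomp0 _).1 z2 with c1 | c1
        · exact c1.symm
        · exact absurd (Or.inr (by rw [show per D p q (om y) = per D p q y from o2]; exact c1)) z1'
  have hpz : ∀ τ, hermForm (m + 2) F 2 (mk2 (1 : F) 1 0) (z τ) = 1 := by
    intro τ; rw [eqz, ← hco0, hherm, hH.zero_left, add_zero]
  refine ⟨m, ?_, vec, ?_, ?_, ?_, vp⟩
  · obtain ⟨U, hU⟩ := d.comSet_nonempty
    obtain ⟨a, ha, -⟩ := d.exists_UX hU.1
    have hne : co (pW D p q ⟨a, ha⟩) ≠ 0 := fun e' => hpWne ⟨a, ha⟩ (by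
      rw [← hmk (pW D p q ⟨a, ha⟩), e']; simp [mkW])
    have hi := (hIso (pW D p q ⟨a, ha⟩)).2 (hpWs _)
    by_contra hm
    rcases (show m = 0 ∨ m = 1 by omega) with rfl | rfl
    · exact hne (funext fun i => i.elim0)
    · simp only [UCoord.Iso, Fin.sum_univ_one] at hi
      exact hne (funext fun i => by rw [Subsingleton.elim i 0]; exact eq_zero_of_pow_eq_zero hi)
  · intro y hy
    by_cases hyp : y = p
    · rw [hyp, vp]
      refine ⟨fun e' => one_ne_zero (congrFun e' 0), ?_⟩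
      rw [herm_mk2, ← hco0, hherm, hH.zero_left]
      linear_combination h2
    by_cases hpy : Commute p y
    · obtain ⟨a, x, e', -⟩ := hDp y ⟨hy, hyp, hpy⟩
      rw [e']
      refine ⟨fun e'' => hpWne a ?_, ?_⟩
      · rw [← hmk (pW D p q a), show co (pW D p q a) = 0 from funext fun i => congrFun e'' i.succ.succ]
        simp [mkW]
      · rw [herm_mk2, hherm, hpWs]; linear_combination x ^ 3 * h2
    · obtain ⟨τ, hτ, rfl⟩ := d.transitive hy hpy
      rw [vz τ hτ]
      refine ⟨fun e' => one_ne_zero (α := F) ?_, ?_⟩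
      · have h1 := congrFun e' 0
        have h2' := congrFun e' 1
        simp only [z, mk2, Fin.cons_zero, Pi.zero_apply] at h1
        have h3 : cc τ + ω ^ 2 = 0 := h2'
        linear_combination h1 + h3 - fωs - cc τ * h2
      · rw [ezz τ hτ τ hτ, inv_mul_cancel, hc1]
  · intro y hy y' hy'
    by_cases hyp : y = p
    · rw [hyp, vp]
      by_cases hy'p : y' = p
      · rw [hy'p, vp, herm_mk2, ← hco0, hherm, hH.zero_left]
        exact iff_of_true (Commute.refl _) (by linear_combination h2)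
      by_cases hc : Commute p y'
      · obtain ⟨a, x, e', -⟩ := hDp y' ⟨hy', hy'p, hc⟩
        rw [e', herm_mk2, ← hco0, hherm, hH.zero_left]
        exact iff_of_true hc (by linear_combination x ^ 2 * h2)
      · obtain ⟨τ, hτ, rfl⟩ := d.transitive hy' hc
        rw [vz τ hτ, hpz]
        exact iff_of_false hc one_ne_zero
    by_cases hpy : Commute p y
    · by_cases hy'p : y' = p
      · obtain ⟨a, x, e', -⟩ := hDp y ⟨hy, hyp, hpy⟩
        rw [hy'p, e', vp, herm_mk2, ← hco0, hherm, hH.zero_right]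
        exact iff_of_true hpy.symm (by linear_combination x * h2)
      by_cases hpy' : Commute p y'
      · obtain ⟨a, x, e', ha⟩ := hDp y ⟨hy, hyp, hpy⟩
        obtain ⟨b, x', e'', hb⟩ := hDp y' ⟨hy', hy'p, hpy'⟩
        rw [e', e'', herm_mk2, hherm]
        have key : Commute y y' ↔ Commute (a : G) b := by
          obtain ⟨-, ea⟩ := d.line_sub ⟨hy, hyp, hpy⟩ ha a.2.1.2.1
          obtain ⟨-, eb⟩ := d.line_sub ⟨hy', hy'p, hpy'⟩ hb b.2.1.2.1
          exact ⟨fun hc => d.line_com ⟨hy, hyp, hpy⟩ ⟨hy', hy'p, hpy'⟩ hc ha hb,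
            fun hc => d.line_com a.2.1 b.2.1 hc (ea ▸ Or.inr (Or.inl rfl)) (eb ▸ Or.inr (Or.inl rfl))⟩
        rw [key]
        constructor
        · intro hc; rw [(hpair a b).2.1 hc]; linear_combination x * x' ^ 2 * h2
        · intro h0; exact (hpair a b).1 (by linear_combination h0 - x * x' ^ 2 * h2)
      · obtain ⟨τ, hτ, rfl⟩ := d.transitive hy' hpy'
        rw [vz τ hτ]; exact hcross y ⟨hy, hyp, hpy⟩ τ hτ
    · obtain ⟨σ, hσ', rfl⟩ := d.transitive hy hpy
      rw [vz σ hσ']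
      by_cases hy'p : y' = p
      · rw [hy'p, vp]
        refine iff_of_false (fun hc => hpy hc.symm) fun h0 => ?_
        have := hs _ _ h0
        rw [hpz] at this
        exact one_ne_zero this
      by_cases hpy' : Commute p y'
      · rw [Commute.symm_iff, hcross y' ⟨hy', hy'p, hpy'⟩ σ hσ']
        exact ⟨hs _ _, hs _ _⟩
      obtain ⟨τ, hτ, rfl⟩ := d.transitive hy' hpy'
      rw [vz τ hτ, ezz τ hτ σ hσ', hczero _ (mul_mem (inv_mem hτ) hσ'), Commute.symm_iff,
        ← conj_commute_iff τ⁻¹]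
      rw [show τ⁻¹ * (τ * q * τ⁻¹) * τ⁻¹⁻¹ = q by group,
        show τ⁻¹ * (σ * q * σ⁻¹) * τ⁻¹⁻¹ = τ⁻¹ * σ * q * (τ⁻¹ * σ)⁻¹ by group]
  · -- every isotropic point occurs
    intro v hv hv0
    obtain ⟨x, y, w, rfl⟩ : ∃ x y w, v = mk2 x y w := ⟨v 0, v 1, fun i => v i.succ.succ, by
      funext i
      refine Fin.cases ?_ (fun i => ?_) i
      · rfl
      refine Fin.cases ?_ (fun i => ?_) i <;> rfl⟩
    have hN : ∀ a : F, a ≠ 0 → a * a ^ 2 = 1 := fun a ha => UnitaryFour.Transvection.norm_eq_one hF2 ha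
    obtain ⟨u, rfl⟩ : ∃ u, w = co u := ⟨mkW w, (hco w).symm⟩
    rw [herm_mk2, hherm] at hv0
    by_cases hxy : x + y = 0
    · have hxy' : y = x := by linear_combination hxy - x * h2
      subst hxy'
      have hu0 : h u u = 0 := by linear_combination hv0 - y * y ^ 2 * h2
      by_cases hu : u = 0
      · refine ⟨p, d.hp, y, fun e' => hv ?_, ?_⟩
        · subst hu; subst e'
          rw [hco0]
          funext i
          refine Fin.cases ?_ (fun i => ?_) i
          · rfl
          refine Fin.cases ?_ (fun i => ?_) i <;> rfl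
        · rw [vp, smul_mk2, mul_one, smul_zero, hu, hco0]
      obtain ⟨a, rfl⟩ := hsing u hu hu0
      by_cases hy0 : y = 0
      · subst hy0
        set U : ↥(USet D p q) := ⟨_, d.upt_USet a.2.1⟩ with hUdef
        set r : ↥(UX D p q) := ⟨_, (hrep U).1⟩
        have hra : per D p q r = per D p q a := (hrep U).2
        obtain ⟨c, hc, ec⟩ : ∃ c : F, c ≠ 0 ∧ pW D p q a = c • pW D p q r := by
          obtain ⟨r1, r2, r3, -⟩ := ho r r.2
          have hcyc : IsCyc D p q (per D p q a) om := fun x hx => by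
            obtain ⟨x1, x2, x3, x4, -⟩ := ho x hx.1
            exact ⟨⟨x1, x2.trans hx.2⟩, x3, x4⟩
          rcases d.cyc_cases (d.upt_USet a.2.1) hcyc (show (r : G) ∈ blk D p q (per D p q a) from ⟨r.2, hra⟩)
              (show (a : G) ∈ blk D p q (per D p q a) from ⟨a.2, rfl⟩) with e' | e' | e'
          · exact ⟨1, one_ne_zero, by rw [one_smul, Subtype.ext e']⟩
          · refine ⟨ω, hω0, ?_⟩
            rw [hsmul, scω, hOm]
            congr 1; exact Subtype.ext e'
          · refine ⟨ω ^ 2, hωω0, ?_⟩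
            rw [hsmul, scωω, Module.End.mul_apply, hOm, hOm]
            congr 1; exact Subtype.ext e'
        refine ⟨U, U.2.1.1, c, hc, ?_⟩
        rw [vU U, smul_mk2, mul_zero, ← hcosmul, ← ec]
      · have hu' : y⁻¹ • pW D p q a ≠ 0 := fun e' => hu (by
          have := congrArg (y • ·) e'; simpa [smul_smul, hy0] using this)
        obtain ⟨b, eb⟩ := hsing _ hu' (by rw [hH.smul_left, hH.smul_right, hu0]; ring)
        refine ⟨b, b.2.1.1, y, hy0, ?_⟩
        rw [vX, ← eb, smul_mk2, mul_one, ← hcosmul, smul_smul, mul_inv_cancel₀ hy0, one_smul]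
    · -- scale to height one
      set s := (x + y)⁻¹ with hs'
      have hs0 : s ≠ 0 := inv_ne_zero hxy
      set c₀ := s * x + ω with hc₀
      obtain ⟨τ, hτ, eτ⟩ := d.exists_lift (s • u)
      have eP := hPeq τ hτ _ eτ
      have e1 : s * x + s * y = 1 := by rw [← mul_add, inv_mul_cancel₀ hxy]
      have hc0 : c₀ + c₀ ^ 2 + h (s • u) (s • u) = 0 := by
        rw [hH.smul_left, hH.smul_right, hσ, hc₀]
        have e2 : s * y = s * x + 1 := by linear_combination e1 - (s * x) * h2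
        have e3 : (s * x) * (s * x) ^ 2 + (s * y) * (s * y) ^ 2 + s * s ^ 2 * h u u = 0 := by
          linear_combination s * s ^ 2 * hv0
        rw [e2] at e3
        linear_combination e3 + fωs - ((s * x) ^ 3 + (s * x) + (s * x) ^ 2 - ω * (s * x)) * h2
      have hc2 : (cc τ + c₀) * (cc τ + c₀ + 1) = 0 := by
        have := hctr τ
        rw [eP] at this
        linear_combination this + hc0 + (cc τ * c₀ - h (s • u) (s • u)) * h2
      obtain ⟨τ', hτ', ec', eP'⟩ : ∃ τ' ∈ TT D p q, cc τ' = c₀ ∧ P τ' = s • u := by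
        rcases mul_eq_zero.1 hc2 with h0 | h0
        · exact ⟨τ, hτ, by linear_combination h0 - c₀ * h2, eP⟩
        · refine ⟨p * τ, mul_mem d.p_mem hτ, ?_, by rw [hPmul p d.p_mem τ hτ, hPp, zero_add, eP]⟩
          rw [hcmul p d.p_mem τ hτ, hcp, hPp, hH.zero_right]
          linear_combination h0 - c₀ * h2
      refine ⟨τ' * q * τ'⁻¹, d.pair.closed.2 _ _ d.hq, x + y, hxy, ?_⟩
      rw [vz τ' hτ']
      simp only [z, ec', eP', smul_mk2, ← hcosmul, smul_smul, hs', mul_inv_cancel₀ hxy, one_smul]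
      congr 1
      · rw [hc₀, hs']; field_simp; linear_combination -(x + y) * ω * h2
      · rw [hc₀, hs']; field_simp; linear_combination -(x + y) * fωs - x * h2

end UData

end Cfsg.Agent.Lib.SporFischer
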