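import Cfsg.Agent.Lib.SporFischer.UPsi

/-!
A coherent cyclic order on the triples of `UX` on the lines through `p`: the matchings of adjacent lines
have holonomy commuting with a cyclic order, and two common neighbours are joined by triangles.
-/

set_option autoImplicit false
set_option linter.style.haveILetI false
set_option linter.unusedSectionVars false

open Cfsg Cfsg.Agent.Lib.ThreeTranspositions Cfsg.Agent.Lib.RankThree

namespace Cfsg.Agent.Lib.SporFischer

universe u

variable {G : Type u} [Group G] {D : Set G}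

/-- The common commuting members of `p` and `q`. -/
def USet (D : Set G) (p q : G) : Set G := {U | U ∈ comSet D p ∧ Commute q U}

/-- The members of `UX` with given perp. -/
def blk (D : Set G) (p q U : G) : Set G := {a | a ∈ UX D p q ∧ per D p q a = U}

/-- The partner of `a` on the line of `V`. -/
noncomputable def prt (D : Set G) (p q V a : G) : G := tt D p q a * V * (tt D p q a)⁻¹

/-- A cyclic order of a block. -/
def IsCyc (D : Set G) (p q U : G) (s : G → G) : Prop :=
  ∀ a ∈ blk D p q U, s a ∈ blk D p q U ∧ s a ≠ a ∧ s (s (s a)) = a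

/-- Transport of a map of the block of `U` to the block of `V`. -/
noncomputable def tr (D : Set G) (p q U V : G) (s : G → G) : G → G := fun b =>
  prt D p q V (s (prt D p q U b))

namespace UData

variable {p q : G} (d : UData D p q) [Finite G]
include d

theorem upt_USet {a : G} (ha : a ∈ comSet D p) : per D p q a ∈ USet D p q :=
  ⟨(d.upt_mem ha).1, (d.upt_spec ha).2.1⟩

theorem blk_adj {U V a : G} (hV : V ∈ USet D p q) (hUV : ¬ Commute U V) (ha : a ∈ blk D p q U) :
    ¬ Commute a V := by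
  intro hc
  refine hUV (d.line_com ha.1.1 hV.1 hc ?_ (Or.inr (Or.inl rfl)))
  rw [← ha.2]; exact (d.upt_spec ha.1.1).1

theorem prt_spec {U V a : G} (hV : V ∈ USet D p q) (hUV : ¬ Commute U V) (ha : a ∈ blk D p q U) :
    prt D p q V a ∈ blk D p q V ∧ E1 q a (prt D p q V a) := by
  obtain ⟨h1, h2, h3⟩ := d.partner ha.1 hV.1 hV.2 (d.blk_adj hV hUV ha)
  exact ⟨⟨h1, h3⟩, h2⟩

theorem prt_inv {U V a : G} (hV : V ∈ USet D p q) (hUV : ¬ Commute U V)
    (ha : a ∈ blk D p q U) : prt D p q U (prt D p q V a) = a := by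
  obtain ⟨h1, h2⟩ := d.prt_spec hV hUV ha
  obtain ⟨-, e⟩ := (d.e1_iff h1.1 ha.1).1 (d.e1_symm ha.1.1.1 h1.1.1.1 h2)
  rw [ha.2] at e
  exact e.symm

/-- Two steps agree with one exactly when the third line commutes with the end. -/
theorem prt_prt_iff {A B C a : G} (hA : A ∈ USet D p q) (hB : B ∈ USet D p q) (hC : C ∈ USet D p q)
    (hAB : ¬ Commute A B) (ha : a ∈ blk D p q A) :
    prt D p q C (prt D p q B a) = prt D p q C a ↔ Commute (A * B * A) C := by
  obtain ⟨hb, he⟩ := d.prt_spec hB hAB ha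
  set b := prt D p q B a with hbdef
  obtain ⟨hc, hcu, e⟩ := d.mul_e1 ha.1 hb.1 he
  rw [ha.2] at hc hcu e
  rw [hb.2] at hcu
  set c := A * b * A⁻¹ with hcdef
  have hcu' : per D p q c = A * B * A := hcu.trans (conj_eq d.hS hA.1.1 B)
  rw [← hcu']
  constructor
  · intro h
    by_contra hcC
    refine d.tt_ne hc hC.1 (d.blk_adj (U := per D p q c) hC hcC ⟨hc, rfl⟩) ?_
    rw [← e, show tt D p q a * tt D p q b * C * (tt D p q a * tt D p q b)⁻¹ =
      tt D p q a * (tt D p q b * C * (tt D p q b)⁻¹) * (tt D p q a)⁻¹ by group]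
    rw [show tt D p q b * C * (tt D p q b)⁻¹ = prt D p q C a from h]
    exact d.conj_inv_self (d.tt_sq ha.1) C
  · intro h
    have hfix := d.tt_fix hc hC.1 (d.line_com (d.upt_mem hc.1).1 hC.1 h
      (by rw [(d.upt_mem hc.1).2.2]; exact Or.inr (Or.inl rfl)) (Or.inr (Or.inl rfl)))
      (v := C) (Or.inr (Or.inl rfl))
    rw [← e, show tt D p q a * tt D p q b * C * (tt D p q a * tt D p q b)⁻¹ =
      tt D p q a * (tt D p q b * C * (tt D p q b)⁻¹) * (tt D p q a)⁻¹ by group] at hfix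
    show tt D p q b * C * (tt D p q b)⁻¹ = tt D p q a * C * (tt D p q a)⁻¹
    conv_lhs => rw [← d.conj_inv_self (d.tt_sq ha.1) (tt D p q b * C * (tt D p q b)⁻¹), hfix]

theorem blk_ncard {U : G} (hU : U ∈ USet D p q) : (blk D p q U).ncard = 3 := by
  have e : blk D p q U = (vLine D p U \ {p}) \ {U} := by
    ext a
    constructor
    · rintro ⟨ha, hau⟩
      refine ⟨⟨?_, ha.1.2.1⟩, fun e => ha.2 (by rw [show a = U from e]; exact hU.2.symm)⟩
      rw [← hau, (d.upt_mem ha.1).2.2]; exact Or.inr (Or.inl rfl)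
    · rintro ⟨⟨ha, hap⟩, haU⟩
      obtain ⟨h1, -⟩ := d.line_sub hU.1 ha hap
      refine ⟨⟨h1, fun hc => haU ?_⟩, (d.per_congr d.hq d.hpq hU.1 ha hap).trans (d.upt_fix hU.1 hU.2)⟩
      exact (d.per_unique d.hq d.hpq hU.1 ha hc.symm).trans (d.upt_fix hU.1 hU.2)
  rw [e, Set.ncard_sdiff_singleton_of_mem
    (show U ∈ vLine D p U \ {p} from ⟨Or.inr (Or.inl rfl), hU.1.2.1⟩), d.line_ncard hU.1]

theorem cyc_cases {U a x : G} {s : G → G} (hU : U ∈ USet D p q) (hs : IsCyc D p q U s)
    (ha : a ∈ blk D p q U) (hx : x ∈ blk D p q U) : x = a ∨ x = s a ∨ x = s (s a) := by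
  obtain ⟨h1, n1, h3⟩ := hs a ha
  obtain ⟨h2, n2, -⟩ := hs (s a) h1
  have n3 : s (s a) ≠ a := fun e => n1 (by have := h3; rwa [e] at this)
  have e := Set.eq_of_subset_of_ncard_le (s := {a, s a, s (s a)}) (t := blk D p q U) (by
    rintro _ (rfl | rfl | rfl) <;> assumption) (by
    rw [d.blk_ncard hU, Set.ncard_eq_three.2 ⟨a, s a, s (s a), Ne.symm n1, Ne.symm n3, Ne.symm n2, rfl⟩])
    (Set.toFinite _)
  rw [← e] at hx
  exact hx

/-- A map of a block without fixed points, or the identity, commutes with a cyclic order. -/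
theorem cyc_comm {U : G} {s f : G → G} (hU : U ∈ USet D p q) (hs : IsCyc D p q U s)
    (hf : ∀ a ∈ blk D p q U, f a ∈ blk D p q U) (hinj : Set.InjOn f (blk D p q U))
    (hfix : ∀ a ∈ blk D p q U, f a = a → ∀ b ∈ blk D p q U, f b = b) :
    ∀ a ∈ blk D p q U, f (s a) = s (f a) := by
  intro a ha
  obtain ⟨h1, n1, h3⟩ := hs a ha
  obtain ⟨h2, n2, -⟩ := hs (s a) h1
  have n3 : s (s a) ≠ a := fun e => n1 (by have := h3; rwa [e] at this)
  by_cases h0 : f a = a
  · rw [h0, hfix a ha h0 _ h1]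
  have hno : ∀ b ∈ blk D p q U, f b ≠ b := fun b hb e => h0 (hfix b hb e a ha)
  have hne : f (s a) ≠ f a := fun e => n1 (hinj h1 ha e)
  rcases d.cyc_cases hU hs ha (hf a ha) with e | e | e
  · exact absurd e h0
  · rw [e]
    rcases d.cyc_cases hU hs ha (hf _ h1) with e' | e' | e'
    · exfalso
      rcases d.cyc_cases hU hs ha (hf _ h2) with e'' | e'' | e''
      · exact n2 (hinj h2 h1 (e''.trans e'.symm))
      · exact n3 (hinj h2 ha (e''.trans e.symm))
      · exact hno _ h2 e''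
    · exact absurd e' (hno _ h1)
    · exact e'
  · rw [e, h3]
    rcases d.cyc_cases hU hs ha (hf _ h1) with e' | e' | e'
    · exact e'
    · exact absurd e' (hno _ h1)
    · exact absurd (e'.trans e.symm) hne

theorem isCyc_tr {U V : G} {s : G → G} (hU : U ∈ USet D p q) (hV : V ∈ USet D p q)
    (hUV : ¬ Commute U V) (hs : IsCyc D p q U s) : IsCyc D p q V (tr D p q U V s) := by
  intro b hb
  have hVU : ¬ Commute V U := fun h => hUV h.symm
  have ha := (d.prt_spec hU hVU hb).1
  obtain ⟨h1, n1, h3⟩ := hs _ ha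
  have h2 := (hs _ h1).1
  refine ⟨(d.prt_spec hV hUV h1).1, fun e => n1 ?_, ?_⟩
  · have e' := congrArg (prt D p q U) (show prt D p q V (s (prt D p q U b)) = b from e)
    rwa [d.prt_inv hV hUV h1] at e'
  · simp only [tr]
    rw [d.prt_inv hV hUV h1, d.prt_inv hV hUV h2, h3, d.prt_inv hU hVU hb]

theorem tr_congr {U V : G} {s s' : G → G} (hU : U ∈ USet D p q) (hUV : ¬ Commute U V)
    (h : Set.EqOn s s' (blk D p q U)) : Set.EqOn (tr D p q U V s) (tr D p q U V s') (blk D p q V) := by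
  intro b hb
  simp only [tr]
  rw [h (d.prt_spec hU (fun h' => hUV h'.symm) hb).1]

theorem tr_back {U V : G} {s : G → G} (hV : V ∈ USet D p q)
    (hUV : ¬ Commute U V) (hs : IsCyc D p q U s) :
    Set.EqOn (tr D p q V U (tr D p q U V s)) s (blk D p q U) := by
  intro a ha
  simp only [tr]
  rw [d.prt_inv hV hUV ha, d.prt_inv hV hUV (hs a ha).1]

/-- Transport round a triangle. -/
theorem tr_triangle {A B C : G} {s : G → G} (hA : A ∈ USet D p q) (hB : B ∈ USet D p q)
    (hC : C ∈ USet D p q) (hAB : ¬ Commute A B) (hAC : ¬ Commute A C) (hBC : ¬ Commute B C)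
    (hs : IsCyc D p q A s) :
    Set.EqOn (tr D p q B C (tr D p q A B s)) (tr D p q A C s) (blk D p q C) := by
  have hBA : ¬ Commute B A := fun h => hAB h.symm
  have hCA : ¬ Commute C A := fun h => hAC h.symm
  have hCB : ¬ Commute C B := fun h => hBC h.symm
  set ρ : G → G := fun a => prt D p q A (prt D p q B (prt D p q C a)) with hρ
  have hmem : ∀ a ∈ blk D p q A, prt D p q B (prt D p q C a) ∈ blk D p q B ∧ ρ a ∈ blk D p q A := by
    intro a ha
    have h1 := (d.prt_spec hC hAC ha).1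
    have h2 := (d.prt_spec hB hCB h1).1
    exact ⟨h2, (d.prt_spec hA hBA h2).1⟩
  have hinj : Set.InjOn ρ (blk D p q A) := by
    intro a ha a' ha' e
    have e1 := congrArg (prt D p q B) (show ρ a = ρ a' from e)
    simp only [hρ] at e1
    rw [d.prt_inv hA hBA (hmem a ha).1, d.prt_inv hA hBA (hmem a' ha').1] at e1
    have e2 := congrArg (prt D p q C) e1
    rw [d.prt_inv hB hCB (d.prt_spec hC hAC ha).1, d.prt_inv hB hCB (d.prt_spec hC hAC ha').1] at e2
    have e3 := congrArg (prt D p q A) e2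
    rwa [d.prt_inv hC hAC ha, d.prt_inv hC hAC ha'] at e3
  have hfix : ∀ a ∈ blk D p q A, ρ a = a → ∀ b ∈ blk D p q A, ρ b = b := by
    intro a ha e b hb
    have e' := congrArg (prt D p q B) (show prt D p q A (prt D p q B (prt D p q C a)) = a from e)
    rw [d.prt_inv hA hBA (hmem a ha).1] at e'
    have h2 := (d.prt_prt_iff hA hC hB hAC hb).2 ((d.prt_prt_iff hA hC hB hAC ha).1 e')
    show prt D p q A (prt D p q B (prt D p q C b)) = b
    rw [h2, d.prt_inv hB hAB hb]
  have hcomm := d.cyc_comm hA hs (fun a ha => (hmem a ha).2) hinj hfix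
  intro c hc
  have ha := (d.prt_spec hA hCA hc).1
  simp only [tr]
  set a := prt D p q A c with hadef
  have hca : prt D p q C a = c := d.prt_inv hA hCA hc
  have hsa := (hs a ha).1
  have e1 : s (prt D p q A (prt D p q B c)) = prt D p q A (prt D p q B (prt D p q C (s a))) := by
    conv_lhs => rw [← hca]
    exact (hcomm a ha).symm
  rw [e1, d.prt_inv hA hBA (hmem _ hsa).1, d.prt_inv hB hCB (d.prt_spec hC hAC hsa).1]

theorem third_USet {A B : G} (hA : A ∈ USet D p q) (hB : B ∈ USet D p q) :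
    A * B * A ∈ USet D p q := by
  refine ⟨?_, (hA.2.mul_right hB.2).mul_right hA.2⟩
  have := d.pair.comSet_conj A hB.1
  rwa [d.conj_fix hA.1.2.2.symm, conj_eq d.hS hA.1.1] at this

theorem third_adj {A B x : G} (hA : A ∈ USet D p q) (hxA : Commute x A) (hxB : ¬ Commute x B) :
    ¬ Commute x (A * B * A) := by
  intro h
  refine hxB ?_
  have h2 : Commute x (A * (A * B * A) * A) := (hxA.mul_right h).mul_right hxA
  simp only [mul_assoc, mul_self_assoc d.hS hA.1.1, mul_self d.hS hA.1.1, mul_one] at h2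
  exact h2

theorem exists_neighbour {A : G} (hA : A ∈ USet D p q) : ∃ B ∈ USet D p q, ¬ Commute A B := by
  obtain ⟨z, hz, hc⟩ := d.exists_adj hA.1
  exact ⟨_, d.upt_USet hz, fun h => d.adj_upt hz hA.1 (fun h' => hc h'.symm) h.symm⟩

/-- Any two perps have a common neighbour. -/
theorem exists_common {A C : G} (hA : A ∈ USet D p q) (hC : C ∈ USet D p q) :
    ∃ B ∈ USet D p q, ¬ Commute A B ∧ ¬ Commute C B := by
  obtain ⟨B, hB, hAB⟩ := d.exists_neighbour hA
  obtain ⟨B', hB', hCB'⟩ := d.exists_neighbour hC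
  by_cases hCB : Commute C B
  swap
  · exact ⟨B, hB, hAB, hCB⟩
  by_cases hAB' : Commute A B'
  swap
  · exact ⟨B', hB', hAB', hCB'⟩
  have hne : B ≠ B' := fun e => hAB (e ▸ hAB')
  by_cases hBB : Commute B B'
  · obtain ⟨b, hb, hbL⟩ := d.exists_UX hB.1
    obtain ⟨b', hb', hb'L⟩ := d.exists_UX hB'.1
    have hbu : per D p q b = B :=
      (d.per_congr d.hq d.hpq hB.1 hbL hb.1.2.1).trans (d.upt_fix hB.1 hB.2)
    have hb'u : per D p q b' = B' :=
      (d.per_congr d.hq d.hpq hB'.1 hb'L hb'.1.2.1).trans (d.upt_fix hB'.1 hB'.2)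
    obtain ⟨c, hc, e⟩ := d.mul_com hb hb' (d.line_com hB.1 hB'.1 hBB hbL hb'L)
      (fun e => hne (by rw [← hbu, e, hb'u]))
    refine ⟨_, d.upt_USet hc.1, fun hcA => ?_, fun hcC => ?_⟩
    · have h1 : Commute c A := d.line_com (d.upt_mem hc.1).1 hA.1 hcA.symm
        (by rw [(d.upt_mem hc.1).2.2]; exact Or.inr (Or.inl rfl)) (Or.inr (Or.inl rfl))
      have h2 : Commute b' A := d.line_com hB'.1 hA.1 hAB'.symm hb'L (Or.inr (Or.inl rfl))
      have f1 := d.tt_fix hc hA.1 h1 (v := A) (Or.inr (Or.inl rfl))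
      have f2 := d.tt_fix hb' hA.1 h2 (v := A) (Or.inr (Or.inl rfl))
      have h3 : ¬ Commute b A := d.line_adj hB.1 hA.1 (fun h => hAB h.symm) hbL hb.1.2.1
        (Or.inr (Or.inl rfl)) hA.1.2.1
      have e' := congrArg (fun g => g * A * g⁻¹) e
      rw [show tt D p q b * tt D p q b' * A * (tt D p q b * tt D p q b')⁻¹ =
        tt D p q b * (tt D p q b' * A * (tt D p q b')⁻¹) * (tt D p q b)⁻¹ by group, f2,
        show p * tt D p q c * A * (p * tt D p q c)⁻¹ = p * (tt D p q c * A * (tt D p q c)⁻¹) * p⁻¹ by group,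
        f1, d.p_fix hA.1] at e'
      exact d.tt_ne hb hA.1 h3 e'
    · have h1 : Commute c C := d.line_com (d.upt_mem hc.1).1 hC.1 hcC.symm
        (by rw [(d.upt_mem hc.1).2.2]; exact Or.inr (Or.inl rfl)) (Or.inr (Or.inl rfl))
      have h2 : Commute b C := d.line_com hB.1 hC.1 hCB.symm hbL (Or.inr (Or.inl rfl))
      have f1 := d.tt_fix hc hC.1 h1 (v := C) (Or.inr (Or.inl rfl))
      have f2 := d.tt_fix hb hC.1 h2 (v := C) (Or.inr (Or.inl rfl))
      have h3 : ¬ Commute b' C := d.line_adj hB'.1 hC.1 (fun h => hCB' h.symm) hb'L hb'.1.2.1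
        (Or.inr (Or.inl rfl)) hC.1.2.1
      have e' := congrArg (fun g => g * C * g⁻¹) e
      rw [show tt D p q b * tt D p q b' * C * (tt D p q b * tt D p q b')⁻¹ =
        tt D p q b * (tt D p q b' * C * (tt D p q b')⁻¹) * (tt D p q b)⁻¹ by group,
        show p * tt D p q c * C * (p * tt D p q c)⁻¹ = p * (tt D p q c * C * (tt D p q c)⁻¹) * p⁻¹ by group,
        f1, d.p_fix hC.1] at e'
      exact d.tt_ne hb' hC.1 h3 (conj_left_inj.1 (e'.trans f2.symm))
  · refine ⟨_, d.third_USet hB hB', ?_, ?_⟩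
    · rw [braid d.hS hB.1.1 hB'.1.1 hBB]; exact d.third_adj hB' hAB' hAB
    · exact d.third_adj hB hCB hCB'

/-- Two common neighbours transport equally. -/
theorem tr_indep {A C B B' : G} {s : G → G} (hA : A ∈ USet D p q) (hC : C ∈ USet D p q)
    (hB : B ∈ USet D p q) (hB' : B' ∈ USet D p q) (hAB : ¬ Commute A B) (hCB : ¬ Commute C B)
    (hAB' : ¬ Commute A B') (hCB' : ¬ Commute C B') (hs : IsCyc D p q A s) :
    Set.EqOn (tr D p q B C (tr D p q A B s)) (tr D p q B' C (tr D p q A B' s)) (blk D p q C) := by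
  have hBC : ¬ Commute B C := fun h => hCB h.symm
  have hB'C : ¬ Commute B' C := fun h => hCB' h.symm
  by_cases hAC : Commute A C
  swap
  · exact (d.tr_triangle hA hB hC hAB hAC hBC hs).trans (d.tr_triangle hA hB' hC hAB' hAC hB'C hs).symm
  have key : ∀ {X Y : G}, X ∈ USet D p q → Y ∈ USet D p q → ¬ Commute A X → ¬ Commute A Y →
      ¬ Commute X Y → ¬ Commute X C → ¬ Commute Y C →
      Set.EqOn (tr D p q X C (tr D p q A X s)) (tr D p q Y C (tr D p q A Y s)) (blk D p q C) := by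
    intro X Y hX hY hAX hAY hXY hXC hYC
    exact (d.tr_triangle hX hY hC hXY hXC hYC (d.isCyc_tr hA hX hAX hs)).symm.trans
      (d.tr_congr hY hYC (d.tr_triangle hA hX hY hAX hAY hXY hs))
  by_cases hBB : Commute B B'
  swap
  · exact key hB hB' hAB hAB' hBB hBC hB'C
  set E := A * B * A with hE
  have hEm := d.third_USet hA hB
  have hAE : ¬ Commute A E := third_not_commute_left d.pair.closed hA.1.1 hB.1.1 hAB
  have hBE : ¬ Commute B E := third_not_commute_right d.pair.closed hA.1.1 hB.1.1 hAB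
  have hCE : ¬ Commute C E := d.third_adj hA hAC.symm hCB
  have hB'E : ¬ Commute B' E := by
    rw [hE, braid d.hS hA.1.1 hB.1.1 hAB]; exact d.third_adj hB hBB.symm (fun h => hAB' h.symm)
  exact (key hB hEm hAB hAE hBE hBC fun h => hCE h.symm).trans
    (key hB' hEm hAB' hAE hB'E hB'C fun h => hCE h.symm).symm

/-- A coherent cyclic order. -/
theorem exists_orient : ∃ om : G → G, ∀ a ∈ UX D p q, om a ∈ UX D p q ∧
    per D p q (om a) = per D p q a ∧ om a ≠ a ∧ om (om (om a)) = a ∧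
    ∀ b ∈ UX D p q, E1 q a b → E1 q (om a) (om b) := by
  classical
  obtain ⟨A, hA⟩ : ∃ A, A ∈ USet D p q := by
    obtain ⟨U, h1, h2⟩ := d.comSet_nonempty; exact ⟨U, h1, h2⟩
  obtain ⟨a0, a1, a2, n01, n02, n12, e⟩ := Set.ncard_eq_three.1 (d.blk_ncard hA)
  let s0 : G → G := fun x => if x = a0 then a1 else if x = a1 then a2 else a0
  have hs0 : IsCyc D p q A s0 := by
    intro x hx
    rw [e] at hx ⊢
    rcases hx with rfl | rfl | rfl <;>
      simp [s0, n01, n01.symm, n02, n02.symm, n12, n12.symm]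
  choose N hN hN1 hN2 using fun C : ↥(USet D p q) => d.exists_common hA C.2
  let sC : G → G → G := fun C => if hC : C ∈ USet D p q then
    tr D p q (N ⟨C, hC⟩) C (tr D p q A (N ⟨C, hC⟩) s0) else id
  have hval : ∀ {C B : G}, C ∈ USet D p q → B ∈ USet D p q → ¬ Commute A B → ¬ Commute C B →
      Set.EqOn (sC C) (tr D p q B C (tr D p q A B s0)) (blk D p q C) := by
    intro C B hC hB hAB hCB
    simp only [sC, dif_pos hC]
    exact d.tr_indep hA hC (hN ⟨C, hC⟩) hB (hN1 ⟨C, hC⟩) (hN2 ⟨C, hC⟩) hAB hCB hs0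
  have hcyc : ∀ {C : G}, C ∈ USet D p q → IsCyc D p q C (sC C) := by
    intro C hC
    simp only [sC, dif_pos hC]
    exact d.isCyc_tr (hN _) hC (fun h => hN2 ⟨C, hC⟩ h.symm) (d.isCyc_tr hA (hN _) (hN1 _) hs0)
  have hnb : ∀ {C : G}, C ∈ USet D p q → ¬ Commute A C →
      Set.EqOn (sC C) (tr D p q A C s0) (blk D p q C) := by
    intro C hC hAC
    simp only [sC, dif_pos hC]
    exact d.tr_triangle hA (hN _) hC (hN1 _) hAC (fun h => hN2 ⟨C, hC⟩ h.symm) hs0
  -- the orders are carried to each other by every matching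
  have hedge : ∀ {C E : G}, C ∈ USet D p q → E ∈ USet D p q → ¬ Commute C E →
      Set.EqOn (tr D p q C E (sC C)) (sC E) (blk D p q E) := by
    intro C E hC hE hCE
    have hEC : ¬ Commute E C := fun h => hCE h.symm
    by_cases hAC : Commute A C
    swap
    · exact (d.tr_congr hC hCE (hnb hC hAC)).trans (hval hE hC hAC hEC).symm
    by_cases hAE : Commute A E
    swap
    · have h1 := d.tr_congr hC hCE (hval hC hE hAE hCE)
      exact (h1.trans (d.tr_back hC hEC (d.isCyc_tr hA hE hAE hs0))).trans (hnb hE hAE).symm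
    obtain ⟨B, hB, hAB, hCB⟩ := d.exists_common hA hC
    have hgo : ∀ {X : G}, X ∈ USet D p q → ¬ Commute A X → ¬ Commute C X → ¬ Commute E X →
        Set.EqOn (tr D p q C E (sC C)) (sC E) (blk D p q E) := by
      intro X hX hAX hCX hEX
      exact ((d.tr_congr hC hCE (hval hC hX hAX hCX)).trans
        (d.tr_triangle hX hC hE (fun h => hCX h.symm) (fun h => hEX h.symm) hCE
          (d.isCyc_tr hA hX hAX hs0))).trans (hval hE hX hAX hEX).symm
    by_cases hEB : Commute E B
    swap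
    · exact hgo hB hAB hCB hEB
    refine hgo (d.third_USet hB hC) ?_ ?_ ?_
    · rw [braid d.hS hB.1.1 hC.1.1 fun h => hCB h.symm]; exact d.third_adj hC hAC hAB
    · exact third_not_commute_right d.pair.closed hB.1.1 hC.1.1 fun h => hCB h.symm
    · exact d.third_adj hB hEB hEC
  refine ⟨fun a => sC (per D p q a) a, fun a ha => ?_⟩
  have hU := d.upt_USet ha.1
  obtain ⟨h1, n1, h3⟩ := hcyc hU a ⟨ha, rfl⟩
  have h2 := (hcyc hU _ h1).1
  refine ⟨h1.1, h1.2, n1, ?_, fun b hb hab => ?_⟩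
  · simp only [h1.2, h2.2]; exact h3
  have hV := d.upt_USet hb.1
  have hUV : ¬ Commute (per D p q a) (per D p q b) := fun hc => hab.1
    (d.line_com hU.1 hV.1 hc (by rw [(d.upt_mem ha.1).2.2]; exact Or.inr (Or.inl rfl))
      (by rw [(d.upt_mem hb.1).2.2]; exact Or.inr (Or.inl rfl)))
  obtain ⟨-, eb⟩ := (d.e1_iff ha hb).1 hab
  obtain ⟨-, hE⟩ := d.prt_spec hV hUV h1
  convert hE using 1
  have e1 := hedge hU hV hUV (⟨hb, rfl⟩ : b ∈ blk D p q (per D p q b))
  simp only [tr] at e1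
  have e2 : prt D p q (per D p q a) b = a := by
    have h := d.prt_inv hV hUV (a := a) ⟨ha, rfl⟩
    rwa [show prt D p q (per D p q b) a = b from eb.symm] at h
  rw [e2] at e1
  exact e1.symm

end UData

end Cfsg.Agent.Lib.SporFischer
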