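import Cfsg.Agent.Lib.SporFischer.UFrame

/-!
The homomorphism of the regular group onto the space spanned by the functions of the members adjacent to
`q` in `D_p`, with kernel `⟨p⟩`, and the products of two of the involutions.
-/

set_option autoImplicit false
set_option linter.style.haveILetI false
set_option linter.unusedSectionVars false

open Cfsg Cfsg.Agent.Lib.ThreeTranspositions Cfsg.Agent.Lib.RankThree
open scoped Classical

namespace Cfsg.Agent.Lib.SporFischer

universe u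

variable {G : Type u} [Group G] {D : Set G}

/-- The function of an element of the regular group. -/
noncomputable def Psi (D : Set G) (p q τ : G) : ↥(UX D p q) → ZMod 2 := sec D p q (τ * q * τ⁻¹)

namespace UData

variable {p q : G} (d : UData D p q) [Finite G]
include d

theorem per_conj {g v : G} (hgp : Commute g p) (hgq : Commute g q) (hv : v ∈ comSet D p) :
    g * v * g⁻¹ ∈ comSet D p ∧ per D p q (g * v * g⁻¹) = g * per D p q v * g⁻¹ := by
  have h1 := d.pair.comSet_conj g hv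
  rw [d.conj_fix hgp] at h1
  refine ⟨h1, (d.per_unique d.hq d.hpq h1 ?_ ?_).symm⟩
  · have := Set.mem_image_of_mem (fun z => g * z * g⁻¹) (d.upt_spec hv).1
    rwa [d.pair.vLine_image, d.conj_fix hgp] at this
  · have := (conj_commute_iff g q (per D p q v)).2 (d.upt_spec hv).2.1
    rwa [d.conj_fix hgq] at this

theorem UX_conj {g v : G} (hgp : Commute g p) (hgq : Commute g q) (hv : v ∈ UX D p q) :
    g * v * g⁻¹ ∈ UX D p q := by
  refine ⟨(d.per_conj hgp hgq hv.1).1, fun hc => hv.2 ?_⟩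
  have := (conj_commute_iff g v q).1 (by rwa [d.conj_fix hgq])
  exact this

theorem sec_conj {g y : G} (hgp : Commute g p) (hgq : Commute g q) (b : ↥(UX D p q)) :
    sec D p q (g * y * g⁻¹) ⟨g * b * g⁻¹, d.UX_conj hgp hgq b.2⟩ = sec D p q y b := by
  simp only [sec]
  refine if_congr ?_ rfl rfl
  rw [(d.per_conj hgp hgq b.2.1).2, conj_commute_iff, conj_commute_iff]

theorem tt_per {a b : G} (ha : a ∈ UX D p q) (hb : b ∈ UX D p q) (hab : ¬ Commute a b) :
    tt D p q a * per D p q b * (tt D p q a)⁻¹ ∈ UX D p q ∧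
      per D p q (tt D p q a * per D p q b * (tt D p q a)⁻¹) = per D p q b := by
  obtain ⟨hU1, hU2, -⟩ := d.upt_mem hb.1
  obtain ⟨h1, -, h2⟩ := d.partner ha hU1 hU2.2.2
    (fun hc => d.adj_upt hb.1 ha.1 (fun h => hab h.symm) hc.symm)
  exact ⟨h1, h2⟩

theorem psi_of_com {a b : G} (ha : a ∈ UX D p q) (hb : b ∈ UX D p q) (hab : Commute a b) :
    psi D p q a ⟨b, hb⟩ = 0 := by
  have haU : Commute a (per D p q b) :=
    d.line_com ha.1 hb.1 hab (Or.inr (Or.inl rfl)) (d.upt_spec hb.1).1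
  have hqU := (d.upt_spec hb.1).2.1
  simp only [psi, sec]
  rw [if_pos (Or.inr ((haU.mul_left hqU).mul_left haU))]

theorem psi_of_e1 {a b : G} (ha : a ∈ UX D p q) (hb : b ∈ UX D p q) (hab : E1 q a b) :
    psi D p q a ⟨b, hb⟩ = 0 := by
  have h := (conj_commute_iff a (a * b * a) q).2 hab.2
  rw [conj_eq d.hS ha.1.1, conj_eq d.hS ha.1.1] at h
  simp only [mul_assoc, mul_self_assoc d.hS ha.1.1, mul_self d.hS ha.1.1, mul_one] at h
  simp only [psi, sec]
  rw [if_pos (Or.inl (by simpa only [mul_assoc] using h.symm))]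

theorem psi_of_adj {a b : G} (ha : a ∈ UX D p q) (hb : b ∈ UX D p q) (hab : ¬ Commute a b)
    (hne : ¬ E1 q a b) : psi D p q a ⟨b, hb⟩ = 1 := by
  simp only [psi, sec]
  rw [if_neg]
  rintro (h | h)
  · refine hne ⟨hab, ?_⟩
    have h' := (conj_commute_iff a _ _).2 h
    rw [conj_eq d.hS ha.1.1, conj_eq d.hS ha.1.1] at h'
    simp only [mul_assoc, mul_self_assoc d.hS ha.1.1, mul_self d.hS ha.1.1, mul_one] at h'
    simpa only [mul_assoc] using h'.symm
  · obtain ⟨h1, -⟩ := d.tt_per ha hb hab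
    have h' := (conj_commute_iff (tt D p q a) _ _).2 h
    rw [← d.tt_q ha, d.conj_inv_self (d.tt_sq ha)] at h'
    exact h1.2 h'.symm

theorem psi_eq_zero {a b : G} (ha : a ∈ UX D p q) (hb : b ∈ UX D p q) :
    psi D p q a ⟨b, hb⟩ = 0 ↔ Commute a b ∨ E1 q a b := by
  constructor
  · intro h
    by_contra hne
    push Not at hne
    rw [d.psi_of_adj ha hb hne.1 hne.2] at h
    exact one_ne_zero h
  · rintro (h | h)
    exacts [d.psi_of_com ha hb h, d.psi_of_e1 ha hb h]

theorem psi_symm {a b : G} (ha : a ∈ UX D p q) (hb : b ∈ UX D p q) :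
    psi D p q a ⟨b, hb⟩ = psi D p q b ⟨a, ha⟩ := by
  by_cases h : Commute a b ∨ E1 q a b
  · rw [(d.psi_eq_zero ha hb).2 h, (d.psi_eq_zero hb ha).2
      (h.imp (fun hc => hc.symm) (fun he => d.e1_symm ha.1.1 hb.1.1 he))]
  · rw [d.psi_of_adj ha hb (fun hc => h (Or.inl hc)) (fun he => h (Or.inr he)),
      d.psi_of_adj hb ha (fun hc => h (Or.inl hc.symm)) (fun he => h (Or.inr (d.e1_symm hb.1.1 ha.1.1 he)))]

theorem psi_conj {g a b : G} (hgp : Commute g p) (hgq : Commute g q) (hb : b ∈ UX D p q) :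
    psi D p q (g * a * g⁻¹) ⟨g * b * g⁻¹, d.UX_conj hgp hgq hb⟩ = psi D p q a ⟨b, hb⟩ := by
  simp only [psi]
  rw [← d.sec_conj hgp hgq ⟨b, hb⟩]
  congr 1
  nth_rewrite 1 [← d.conj_fix hgq]
  group

/-- The effect of an involution on sections. -/
theorem sec_step {a y : G} (ha : a ∈ UX D p q) (hy : y ∈ D) (hpy : ¬ Commute p y) :
    sec D p q (tt D p q a * y * (tt D p q a)⁻¹) = sec D p q y + psi D p q a := by
  funext ⟨b, hb⟩
  simp only [Pi.add_apply]
  set t := tt D p q a with ht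
  have hiff : ∀ v : G, Commute (t * y * t⁻¹) v ↔ Commute y (t * v * t⁻¹) := by
    intro v
    conv_lhs => rw [← d.conj_inv_self (d.tt_sq ha) v]
    exact conj_commute_iff t y _
  simp only [sec]
  by_cases hab : Commute a b
  · rw [d.psi_of_com ha hb hab, add_zero]
    refine if_congr ?_ rfl rfl
    rw [hiff, hiff, ht, d.tt_fix ha hb.1 hab (Or.inr (Or.inl rfl)), d.tt_fix ha hb.1 hab (d.upt_spec hb.1).1]
  obtain ⟨h0, h0u⟩ := d.tt_per ha hb hab
  set U := per D p q b with hU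
  by_cases he : E1 q a b
  · obtain ⟨-, e⟩ := (d.e1_iff ha hb).1 he
    have e' : t * b * t⁻¹ = U := by rw [e]; exact d.conj_inv_self (d.tt_sq ha) _
    rw [d.psi_of_e1 ha hb he, add_zero]
    refine if_congr ?_ rfl rfl
    rw [hiff, hiff, e', ← e, or_comm]
  rw [d.psi_of_adj ha hb hab he]
  obtain ⟨hU1, hU2, hUL⟩ := d.upt_mem hb.1
  have hbL : b ∈ vLine D p b \ {p} := ⟨Or.inr (Or.inl rfl), hb.1.2.1⟩
  have hUm : U ∈ vLine D p b \ {p} := ⟨(d.upt_spec hb.1).1, (d.upt_spec hb.1).2.2⟩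
  have hne : ∀ v ∈ comSet D p, t * v * t⁻¹ ≠ p := fun v hv => ((d.tt_act t (d.tt_mem ha)).2 v hv).2.1
  have h1 : t * b * t⁻¹ ∈ vLine D p b \ {p} := ⟨d.tt_mem_line ha hb.1 hbL.1, hne b hb.1⟩
  have h2 : t * U * t⁻¹ ∈ vLine D p b \ {p} := ⟨d.tt_mem_line ha hb.1 hUm.1, hne U hU1⟩
  have haU : ¬ Commute a U := fun hc => d.adj_upt hb.1 ha.1 (fun h => hab h.symm) hc.symm
  have n1 : U ≠ b := d.upt_ne hb
  have n2 : U ≠ t * U * t⁻¹ := (d.tt_ne ha hU1 haU).symm
  have n3 : b ≠ t * b * t⁻¹ := (d.tt_ne ha hb.1 hab).symm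
  have n4 : b ≠ t * U * t⁻¹ := fun e => he ((d.e1_iff ha hb).2 ⟨hab, e⟩)
  have n5 : U ≠ t * b * t⁻¹ := fun e => n4 (by rw [e]; exact (d.conj_inv_self (d.tt_sq ha) b).symm)
  have n6 : t * b * t⁻¹ ≠ t * U * t⁻¹ := fun e => n1 (conj_left_inj.1 e).symm
  obtain ⟨hz1, hz2, hz3⟩ := d.per_spec hy hpy hb.1
  have huniq : ∀ v ∈ vLine D p b \ {p}, (Commute y v ↔ v = per D p y b) :=
    fun v hv => ⟨fun h => d.per_unique hy hpy hb.1 hv.1 h, fun e => e ▸ hz2⟩
  rw [if_congr (or_congr ((hiff b).trans (huniq _ h1)) ((hiff U).trans (huniq _ h2))) rfl rfl,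
    if_congr (or_congr (huniq _ hbL) (huniq _ hUm)) rfl rfl]
  rcases mem_four (d.line_ncard hb.1) hUm hbL h1 h2 ⟨hz1, hz3⟩ n1 n5 n2 n3 n4 n6 with e | e | e | e <;>
    rw [e] <;> simp only [n1, n1.symm, n2, n2.symm, n3, n3.symm, n4, n4.symm, n5, n5.symm, n6, n6.symm,
      or_self, or_true, or_false, if_true, if_false] <;> decide

theorem sec_q : sec D p q q = 0 := by
  funext b
  simp only [sec, Pi.zero_apply]
  rw [if_pos (Or.inr (d.upt_spec b.2.1).2.1)]

theorem sec_p {y : G} : sec D p q (p * y * p⁻¹) = sec D p q y := by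
  funext b
  simp only [sec]
  have hiff : ∀ v : G, Commute p v → (Commute (p * y * p⁻¹) v ↔ Commute y v) := fun v hv => by
    conv_lhs => rw [← d.conj_fix hv]
    exact conj_commute_iff p y v
  rw [hiff _ b.2.1.2.2, hiff _ (d.upt_mem b.2.1).1.2.2]

/-- The elements of the regular group translate sections. -/
theorem sec_act : ∀ τ ∈ TT D p q, ∀ y ∈ D, ¬ Commute p y →
    sec D p q (τ * y * τ⁻¹) = sec D p q y + Psi D p q τ := by
  suffices ∀ τ ∈ TT D p q, ∃ f, ∀ y ∈ D, ¬ Commute p y → sec D p q (τ * y * τ⁻¹) = sec D p q y + f by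
    intro τ hτ y hy hpy
    obtain ⟨f, hf⟩ := this τ hτ
    have e : Psi D p q τ = f := by
      show sec D p q (τ * q * τ⁻¹) = f
      rw [hf q d.hq d.hpq, d.sec_q, zero_add]
    rw [e]; exact hf y hy hpy
  refine d.tt_induction ⟨0, fun y _ _ => by rw [one_mul, inv_one, mul_one, add_zero]⟩ ?_
  rintro g hg τ hτ ⟨f, hf⟩
  obtain ⟨f', hf'⟩ : ∃ f', ∀ y ∈ D, ¬ Commute p y → sec D p q (g * y * g⁻¹) = sec D p q y + f' := by
    rcases hg with rfl | ⟨a, ha, rfl⟩
    · exact ⟨0, fun y _ _ => by rw [d.sec_p, add_zero]⟩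
    · exact ⟨_, fun y hy hpy => d.sec_step ha hy hpy⟩
  refine ⟨f + f', fun y hy hpy => ?_⟩
  obtain ⟨h1, h2⟩ := d.conj_adj (d.tt_act τ hτ).1 hy hpy
  rw [show g * τ * y * (g * τ)⁻¹ = g * (τ * y * τ⁻¹) * g⁻¹ by group, hf' _ h1 h2, hf y hy hpy, add_assoc]

theorem Psi_mul {τ σ : G} (hτ : τ ∈ TT D p q) (hσ : σ ∈ TT D p q) :
    Psi D p q (τ * σ) = Psi D p q τ + Psi D p q σ := by
  obtain ⟨h1, h2⟩ := d.conj_adj (d.tt_act σ hσ).1 d.hq d.hpq
  simp only [Psi]
  rw [show τ * σ * q * (τ * σ)⁻¹ = τ * (σ * q * σ⁻¹) * τ⁻¹ by group, d.sec_act τ hτ _ h1 h2, add_comm]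
  rfl

theorem Psi_one : Psi D p q 1 = 0 := by
  simp only [Psi, one_mul, inv_one, mul_one, d.sec_q]

theorem Psi_p : Psi D p q p = 0 := by simp only [Psi]; rw [d.sec_p, d.sec_q]

theorem Psi_tt {a : G} (ha : a ∈ UX D p q) : Psi D p q (tt D p q a) = psi D p q a := by
  simp only [Psi, psi, d.tt_q ha]

theorem Psi_ptt {a : G} (ha : a ∈ UX D p q) : Psi D p q (p * tt D p q a) = psi D p q a := by
  rw [d.Psi_mul d.p_mem (d.tt_mem ha), d.Psi_p, zero_add, d.Psi_tt ha]

theorem Psi_eq_zero {τ : G} (hτ : τ ∈ TT D p q) (h : Psi D p q τ = 0) : τ = 1 ∨ τ = p := by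
  have hτp := (d.tt_act τ hτ).1
  obtain ⟨hyD, hpy⟩ := d.conj_adj hτp d.hq d.hpq
  set y := τ * q * τ⁻¹ with hy
  have hperp : ∀ U ∈ comSet D p, Commute q U → per D p y U = U := by
    intro U hU hUq
    by_contra hne
    obtain ⟨h1, h2, h3⟩ := d.per_spec hyD hpy hU
    have hz : 1 < (vLine D p U \ {p}).ncard := by rw [d.line_ncard hU]; norm_num
    -- a further member of the line
    obtain ⟨b, hb, hbU, hbz⟩ : ∃ b ∈ vLine D p U \ {p}, b ≠ U ∧ b ≠ per D p y U := by
      by_contra hno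
      push Not at hno
      have := Set.ncard_le_ncard (s := vLine D p U \ {p}) (t := {U, per D p y U}) (fun b hb => by
        by_cases e : b = U
        exacts [Or.inl e, Or.inr (hno b hb e)]) (Set.toFinite _)
      rw [d.line_ncard hU, Set.ncard_pair (Ne.symm hne)] at this
      omega
    obtain ⟨hb1, -⟩ := d.line_sub hU hb.1 hb.2
    have hbu : per D p q b = U := (d.per_congr d.hq d.hpq hU hb.1 hb.2).trans (d.upt_fix hU hUq)
    have hbX : b ∈ UX D p q := ⟨hb1, fun hc => hbU ((d.per_unique d.hq d.hpq hU hb.1 hc.symm).trans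
      (d.upt_fix hU hUq))⟩
    have h0 := congrFun h ⟨b, hbX⟩
    simp only [Psi, sec, Pi.zero_apply, hbu] at h0
    rw [if_neg] at h0
    · exact one_ne_zero h0
    rintro (hc | hc)
    · exact hbz (d.per_unique hyD hpy hU hb.1 hc)
    · exact hne (d.per_unique hyD hpy hU (Or.inr (Or.inl rfl)) (hbu ▸ hc)).symm
  refine d.fix_iff hτ fun v hv => ?_
  obtain ⟨hU, hUq, hL⟩ := d.upt_mem hv
  refine d.fix_line hτ hU hUq.2.2 ?_ v (hL ▸ Or.inr (Or.inl rfl))
  obtain ⟨h1, h2, -⟩ := (d.tt_act τ hτ).2 _ hU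
  have hc : Commute y (τ * per D p q v * τ⁻¹) := (conj_commute_iff τ q _).2 hUq.2.2
  exact (d.per_unique hyD hpy hU h1 hc).trans (hperp _ hU hUq.2.2)

theorem psi_inj {a b : G} (ha : a ∈ UX D p q) (hb : b ∈ UX D p q) (h : psi D p q a = psi D p q b) :
    a = b := by
  rcases d.Psi_eq_zero (mul_mem (d.tt_mem ha) (d.tt_mem hb)) (by
    rw [d.Psi_mul (d.tt_mem ha) (d.tt_mem hb), d.Psi_tt ha, d.Psi_tt hb, h]
    funext z; exact CharTwo.add_self_eq_zero _) with e | e
  · have e1 : tt D p q a = tt D p q b := by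
      rw [eq_inv_of_mul_eq_one_left e, inv_eq_of_mul_eq_one_left (d.tt_sq hb)]
    have e2 := d.tt_q ha
    rw [e1, d.tt_q hb] at e2
    rw [braid d.hS ha.1.1 d.hq ha.2, braid d.hS hb.1.1 d.hq hb.2] at e2
    exact (mul_left_cancel (mul_right_cancel e2)).symm
  · exfalso
    have e1 : tt D p q b = p * tt D p q a := by
      calc tt D p q b = tt D p q a * (tt D p q a * tt D p q b) := by rw [← mul_assoc, d.tt_sq ha, one_mul]
        _ = p * tt D p q a := by rw [e, (d.p_central (d.tt_mem ha)).eq]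
    have e2 := d.tt_q hb
    rw [e1, d.ptt_q ha] at e2
    have h1 : Commute q (b * q * b) := e2 ▸ d.com_ptt ha
    rw [braid d.hS hb.1.1 d.hq hb.2] at h1
    exact third_not_commute_left d.pair.closed d.hq hb.1.1 (fun h' => hb.2 h'.symm) h1

theorem psi_ne_zero {a : G} (ha : a ∈ UX D p q) : psi D p q a ≠ 0 := by
  intro h
  obtain ⟨v, hv, h1, h2⟩ := d.tt_moves ha
  rcases d.Psi_eq_zero (d.tt_mem ha) ((d.Psi_tt ha).trans h) with e | e
  · rw [e, one_mul, inv_one, mul_one] at h1; exact h1 rfl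
  · rw [e, d.p_fix hv] at h1; exact h1 rfl

/-- Three members of one line have functions adding up to zero. -/
theorem block_sum {a b c : G} (ha : a ∈ UX D p q) (hb : b ∈ UX D p q) (hc : c ∈ UX D p q)
    (hab : per D p q a = per D p q b) (hac : per D p q a = per D p q c) (n1 : a ≠ b) (n2 : a ≠ c)
    (n3 : b ≠ c) : psi D p q a + psi D p q b + psi D p q c = 0 := by
  classical
  funext ⟨x, hx⟩
  simp only [Pi.add_apply, Pi.zero_apply]
  have hL : ∀ {v : G}, v ∈ UX D p q → per D p q a = per D p q v → v ∈ vLine D p a := by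
    intro v hv e
    rw [← (d.upt_mem ha.1).2.2, e, (d.upt_mem hv.1).2.2]
    exact Or.inr (Or.inl rfl)
  have ma := hL ha rfl
  have mb := hL hb hab
  have mc := hL hc hac
  by_cases hcx : Commute a x
  · rw [d.psi_of_com ha hx hcx, d.psi_of_com hb hx (d.line_com ha.1 hx.1 hcx mb (Or.inr (Or.inl rfl))),
      d.psi_of_com hc hx (d.line_com ha.1 hx.1 hcx mc (Or.inr (Or.inl rfl)))]
    decide
  have adj : ∀ {v : G}, v ∈ UX D p q → v ∈ vLine D p a → ¬ Commute x v := fun {v} hv hm h =>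
    d.line_adj ha.1 hx.1 hcx hm hv.1.2.1 (Or.inr (Or.inl rfl)) hx.1.2.1 h.symm
  obtain ⟨h0, h0u⟩ := d.tt_per hx ha (adj ha ma)
  have hiff : ∀ {v : G} (hv : v ∈ UX D p q), per D p q a = per D p q v → v ∈ vLine D p a →
      psi D p q v ⟨x, hx⟩ = if v = tt D p q x * per D p q a * (tt D p q x)⁻¹ then 0 else 1 := by
    intro v hv e hm
    rw [d.psi_symm hv hx]
    split_ifs with h
    · exact d.psi_of_e1 hx hv ((d.e1_iff hx hv).2 ⟨adj hv hm, by rw [← e]; exact h⟩)
    · exact d.psi_of_adj hx hv (adj hv hm) fun he => h (by rw [e]; exact ((d.e1_iff hx hv).1 he).2)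
  rw [hiff ha rfl ma, hiff hb hab mb, hiff hc hac mc]
  set w := tt D p q x * per D p q a * (tt D p q x)⁻¹
  have hw : w ∈ vLine D p a \ {p} := by
    refine ⟨?_, h0.1.2.1⟩
    rw [← (d.upt_mem ha.1).2.2, ← h0u, (d.upt_mem h0.1).2.2]
    exact Or.inr (Or.inl rfl)
  have hU : per D p q a ∈ vLine D p a \ {p} := ⟨(d.upt_spec ha.1).1, (d.upt_spec ha.1).2.2⟩
  rcases mem_four (d.line_ncard ha.1) hU ⟨ma, ha.1.2.1⟩ ⟨mb, hb.1.2.1⟩ ⟨mc, hc.1.2.1⟩ hw (d.upt_ne ha)
      (hab ▸ d.upt_ne hb) (hac ▸ d.upt_ne hc) n1 n2 n3 with e | e | e | e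
  · exact absurd e (h0u ▸ d.upt_ne h0 : per D p q a ≠ w).symm
  all_goals
    rw [e]
    simp only [n1, n1.symm, n2, n2.symm, n3, n3.symm, if_true, if_false]
    decide

theorem tt_q_ne {a b : G} (ha : a ∈ UX D p q) (hb : b ∈ UX D p q) (h : tt D p q a = tt D p q b) : a = b :=
  d.psi_inj ha hb (by rw [← d.Psi_tt ha, ← d.Psi_tt hb, h])

/-- Two commuting involutions multiply to an involution times `p`. -/
theorem mul_com {a b : G} (ha : a ∈ UX D p q) (hb : b ∈ UX D p q) (hab : Commute a b) (hne : a ≠ b) :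
    ∃ c ∈ UX D p q, tt D p q a * tt D p q b = p * tt D p q c := by
  have hτ := mul_mem (d.tt_mem ha) (d.tt_mem hb)
  set y := tt D p q a * tt D p q b * q * (tt D p q a * tt D p q b)⁻¹ with hy
  obtain ⟨hyD, hpy⟩ := d.conj_adj (d.tt_act _ hτ).1 d.hq d.hpq
  rw [← hy] at hyD hpy
  have hne' : y ≠ q := fun e => hne (d.tt_q_ne ha hb (by
    rw [eq_inv_of_mul_eq_one_left (d.regular hτ e), inv_eq_of_mul_eq_one_left (d.tt_sq hb)]))
  have hc : Commute q y := by
    have h1 : Commute (a * q * a) (b * q * b) := by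
      rw [braid d.hS ha.1.1 d.hq ha.2, braid d.hS hb.1.1 d.hq hb.2, ← conj_eq d.hS d.hq a,
        ← conj_eq d.hS d.hq b, conj_commute_iff]
      exact hab
    rw [← d.tt_q ha, ← d.tt_q hb] at h1
    have h2 := (conj_commute_iff (tt D p q a) _ _).2 h1
    rw [d.conj_inv_self (d.tt_sq ha)] at h2
    convert h2 using 1
    rw [hy]; group
  obtain ⟨c, hc', e⟩ := d.perp_q hyD hpy hc hne'
  exact ⟨c, hc', d.regular' hτ (mul_mem d.p_mem (d.tt_mem hc')) (e.trans (d.ptt_q hc').symm)⟩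

/-- The involutions of a pair with third member commuting with `q` multiply to an involution. -/
theorem mul_e1 {a b : G} (ha : a ∈ UX D p q) (hb : b ∈ UX D p q) (hab : E1 q a b) :
    per D p q a * b * (per D p q a)⁻¹ ∈ UX D p q ∧
      per D p q (per D p q a * b * (per D p q a)⁻¹) = per D p q a * per D p q b * (per D p q a)⁻¹ ∧
      tt D p q a * tt D p q b = tt D p q (per D p q a * b * (per D p q a)⁻¹) := by
  set U := per D p q a with hU
  obtain ⟨hU1, hU2, -⟩ := d.upt_mem ha.1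
  have hUp : Commute U p := hU1.2.2.symm
  have hUq : Commute U q := hU2.2.2.symm
  have hc := d.UX_conj hUp hUq hb
  refine ⟨hc, (d.per_conj hUp hUq hb.1).2, d.regular' (mul_mem (d.tt_mem ha) (d.tt_mem hb)) (d.tt_mem hc) ?_⟩
  have h := (conj_commute_iff b _ _).2 (d.e1_symm ha.1.1 hb.1.1 hab).2
  rw [conj_eq d.hS hb.1.1, conj_eq d.hS hb.1.1] at h
  simp only [mul_assoc, mul_self_assoc d.hS hb.1.1, mul_self d.hS hb.1.1, mul_one] at h
  have hfix : a * (b * q * b) * a = b * q * b := by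
    rw [← conj_eq d.hS ha.1.1]; exact d.conj_fix (by simpa only [mul_assoc] using h)
  rw [show tt D p q a * tt D p q b * q * (tt D p q a * tt D p q b)⁻¹ =
    tt D p q a * (tt D p q b * q * (tt D p q b)⁻¹) * (tt D p q a)⁻¹ by group, d.tt_q hb, d.tt_conj ha, hfix,
    d.tt_q hc, ← hU, inv_eq d.hS hU1.1]
  calc U * (b * q * b) * U = U * b * (U * U) * q * b * U := by rw [mul_self d.hS hU1.1, mul_one]; group
    _ = U * b * (U * q) * (U * b * U) := by
        rw [show U * b * (U * q) * (U * b * U) = U * b * U * (q * U) * (b * U) by group, ← hUq.eq]; group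
    _ = U * b * U * q * (U * b * U) := by group

theorem twist_block {a b c : G} (ha : a ∈ UX D p q) (hb : b ∈ UX D p q) (hc : c ∈ UX D p q)
    (hab : per D p q a = per D p q b) (hac : per D p q a = per D p q c) (n1 : a ≠ b) (n2 : a ≠ c)
    (n3 : b ≠ c) : a * b = p * tt D p q c := by
  have hcom : Commute a b := vLine_commute ha.1 (Or.inr (Or.inl rfl)) (by
    rw [← (d.upt_mem ha.1).2.2, hab, (d.upt_mem hb.1).2.2]; exact Or.inr (Or.inl rfl))
  obtain ⟨c', hc', e⟩ := d.mul_com ha hb hcom n1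
  have hsum := d.block_sum ha hb hc hab hac n1 n2 n3
  have h1 := congrArg (Psi D p q) e
  rw [d.Psi_mul (d.tt_mem ha) (d.tt_mem hb), d.Psi_tt ha, d.Psi_tt hb, d.Psi_ptt hc'] at h1
  have h2 : psi D p q c' = psi D p q c := by
    rw [← h1]
    funext z
    have := congrFun hsum z
    simp only [Pi.add_apply, Pi.zero_apply] at this ⊢
    rwa [← CharTwo.add_eq_zero]
  rw [← d.psi_inj hc' hc h2, ← e]
  simp only [tt]
  rw [← hab]
  set U := per D p q a
  have hUa : Commute U a := d.com_upt ha.1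
  calc a * b = (U * U) * (a * b) := by rw [mul_self d.hS (d.upt_mem ha.1).1.1, one_mul]
    _ = U * (U * a) * b := by group
    _ = U * (a * U) * b := by rw [hUa.eq]
    _ = U * a * (U * b) := by group

/-- The involutions commute exactly when the functions vanish. -/
theorem tt_commute_iff {a b : G} (ha : a ∈ UX D p q) (hb : b ∈ UX D p q) :
    Commute (tt D p q a) (tt D p q b) ↔ psi D p q a ⟨b, hb⟩ = 0 := by
  have hmv : tt D p q a * tt D p q b * (tt D p q a)⁻¹ =
      (tt D p q a * per D p q b * (tt D p q a)⁻¹) * (tt D p q a * b * (tt D p q a)⁻¹) := by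
    simp only [tt]; group
  constructor
  · intro hc
    by_contra h0
    rw [d.psi_eq_zero ha hb] at h0
    push Not at h0
    obtain ⟨h1, h1u⟩ := d.tt_per ha hb h0.1
    set b0 := tt D p q a * per D p q b * (tt D p q a)⁻¹ with hb0
    set b2 := tt D p q a * b * (tt D p q a)⁻¹ with hb2
    have n1 : b ≠ b0 := fun e => h0.2 ((d.e1_iff ha hb).2 ⟨h0.1, e⟩)
    have hb2p : b2 ≠ p := ((d.tt_act _ (d.tt_mem ha)).2 b hb.1).2.1
    have hb2L : b2 ∈ vLine D p b := d.tt_mem_line ha hb.1 (Or.inr (Or.inl rfl))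
    have hb2u : per D p q b2 = per D p q b := d.per_congr d.hq d.hpq hb.1 hb2L hb2p
    have hb2X : b2 ∈ UX D p q := ⟨(d.line_sub hb.1 hb2L hb2p).1, fun hq2 => n1 (by
      have := (d.per_unique d.hq d.hpq hb.1 hb2L hq2.symm)
      rw [hb0, ← this, hb2, d.conj_inv_self (d.tt_sq ha)])⟩
    have n2 : b ≠ b2 := (d.tt_ne ha hb.1 h0.1).symm
    have n3 : b0 ≠ b2 := fun e => d.upt_ne hb (conj_left_inj.1 e)
    have e := d.twist_block hb hb2X h1 hb2u.symm h1u.symm n2 n1 (Ne.symm n3)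
    have e2 : tt D p q b = b0 * b2 := by rw [← hmv, hc.eq, mul_inv_cancel_right]
    have hcm : ∀ {v w : G}, v ∈ vLine D p b → w ∈ vLine D p b → Commute v w := fun hv hw =>
      vLine_commute hb.1 hv hw
    have hb0L : b0 ∈ vLine D p b := d.tt_mem_line ha hb.1 (d.upt_spec hb.1).1
    -- the product of the four members
    refine d.p_ne_one ?_
    have e3 : p = (b * b2) * tt D p q b0 := by rw [e, mul_assoc, d.tt_sq h1, mul_one]
    have e4 : tt D p q b = per D p q b * b := rfl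
    rw [e3, show tt D p q b0 = per D p q b * b0 by simp only [tt, h1u]]
    have c1 : Commute b0 b2 := hcm hb0L hb2L
    have c2 : Commute (per D p q b) b0 := hcm (d.upt_spec hb.1).1 hb0L
    have c3 : Commute b2 (per D p q b) := hcm hb2L (d.upt_spec hb.1).1
    have c4 : Commute b (per D p q b) := hcm (Or.inr (Or.inl rfl)) (d.upt_spec hb.1).1
    calc b * b2 * (per D p q b * b0) = b * (b2 * per D p q b) * b0 := by group
      _ = b * (per D p q b * b2) * b0 := by rw [c3.eq]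
      _ = (b * per D p q b) * (b2 * b0) := by group
      _ = (per D p q b * b) * (b0 * b2) := by rw [c4.eq, c1.eq]
      _ = 1 := by rw [← e4, ← e2, d.tt_sq hb]
  · intro h
    rcases (d.psi_eq_zero ha hb).1 h with hc | he
    · exact ((d.line_com ha.1 hb.1 hc (d.upt_spec ha.1).1 (d.upt_spec hb.1).1).mul_right
        (d.line_com ha.1 hb.1 hc (d.upt_spec ha.1).1 (Or.inr (Or.inl rfl)))).mul_left
        ((d.line_com ha.1 hb.1 hc (Or.inr (Or.inl rfl)) (d.upt_spec hb.1).1).mul_right hc)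
    · obtain ⟨-, e⟩ := (d.e1_iff ha hb).1 he
      have e' : tt D p q a * b * (tt D p q a)⁻¹ = per D p q b := by
        conv_lhs => rw [e]
        exact d.conj_inv_self (d.tt_sq ha) _
      rw [← e, e', ← (d.com_upt hb.1).eq] at hmv
      exact mul_inv_eq_iff_eq_mul.1 hmv

end UData

end Cfsg.Agent.Lib.SporFischer
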