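import Cfsg.Agent.Lib.SporFischer.WPairs

/-!
Singular lines of a Fischer group.

If two commuting members of some `D_x` have the same commuting partners in `D_x`, these classes give lines
`x ∪ [y]` of pairwise commuting members.  A member outside a line commutes with one or all of its members,
and a line has three or five members: the parities in which the products along a line move two points of
an opposite line are independent, while those two points have at most `4m` pairs of images.
-/

set_option autoImplicit false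
set_option linter.style.haveILetI false

open Cfsg Cfsg.Agent.Lib.ThreeTranspositions Cfsg.Agent.Lib.RankThree

namespace Cfsg.Agent.Lib.SporFischer

universe u

variable {G : Type u} [Group G] {D : Set G}

/-- `y` and `v` are commuting members of `D_x` with the same other commuting partners there. -/
def VRel (D : Set G) (x y v : G) : Prop :=
  y ∈ comSet D x ∧ v ∈ comSet D x ∧ y ≠ v ∧ Commute y v ∧
    ∀ e ∈ comSet D x, e ≠ y → e ≠ v → (Commute e y ↔ Commute e v)

/-- The singular line of two commuting members. -/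
def vLine (D : Set G) (x y : G) : Set G := insert x (insert y {v | VRel D x y v})

theorem VRel.symm {x y v : G} (h : VRel D x y v) : VRel D x v y :=
  ⟨h.2.1, h.1, Ne.symm h.2.2.1, h.2.2.2.1.symm, fun e he h1 h2 => (h.2.2.2.2 e he h2 h1).symm⟩

theorem VRel.trans {x y v w : G} (h : VRel D x y v) (h' : VRel D x y w) (hne : v ≠ w) :
    VRel D x v w := by
  refine ⟨h.2.1, h'.2.1, hne, ?_, fun e he h1 h2 => ?_⟩
  · exact ((h.2.2.2.2 w h'.2.1 (Ne.symm h'.2.2.1) (Ne.symm hne)).1 h'.2.2.2.1.symm).symm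
  · by_cases hey : e = y
    · subst hey; exact iff_of_true h.2.2.2.1 h'.2.2.2.1
    · exact (h.2.2.2.2 e he hey h1).symm.trans (h'.2.2.2.2 e he hey h2)

theorem vLine_eq_of_rel {x y v : G} (h : VRel D x y v) : vLine D x v = vLine D x y := by
  have key : ∀ {y v : G}, VRel D x y v → vLine D x v ⊆ vLine D x y := by
    intro y v h w hw
    rcases hw with rfl | rfl | hw
    · exact Or.inl rfl
    · exact Or.inr (Or.inr h)
    · by_cases hwy : w = y
      · exact Or.inr (Or.inl hwy)
      · exact Or.inr (Or.inr (h.symm.trans hw (Ne.symm hwy)))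
  exact Set.Subset.antisymm (key h) (key h.symm)

theorem vLine_subset {x y v : G} (hx : x ∈ D) (hy : y ∈ comSet D x) (hv : v ∈ vLine D x y) : v ∈ D := by
  rcases hv with rfl | rfl | hv
  exacts [hx, hy.1, hv.2.1.1]

theorem vLine_commute {x y v w : G} (hy : y ∈ comSet D x) (hv : v ∈ vLine D x y)
    (hw : w ∈ vLine D x y) : Commute v w := by
  by_cases hvw : v = w
  · subst hvw; exact Commute.refl v
  rcases hv with rfl | rfl | hv <;> rcases hw with rfl | rfl | hw
  · exact Commute.refl _
  · exact hy.2.2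
  · exact hw.2.1.2.2
  · exact hy.2.2.symm
  · exact Commute.refl _
  · exact hw.2.2.2.1
  · exact hv.2.1.2.2.symm
  · exact hv.2.2.2.1.symm
  · exact (hv.trans hw hvw).2.2.2.1

namespace IsFischerPair

variable [Finite G]

theorem vRel_conj (h : IsFischerPair D) (g : G) {x y v : G} (hr : VRel D x y v) :
    VRel D (g * x * g⁻¹) (g * y * g⁻¹) (g * v * g⁻¹) := by
  refine ⟨h.comSet_conj g hr.1, h.comSet_conj g hr.2.1, fun e => hr.2.2.1 (conj_left_inj.1 e),
    (conj_commute_iff g y v).2 hr.2.2.2.1, ?_⟩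
  intro e he h1 h2
  rw [← comSet_image h.closed] at he
  obtain ⟨e, he, rfl⟩ := he
  exact ((conj_commute_iff g e y).trans (hr.2.2.2.2 e he (fun e' => h1 (e' ▸ rfl)) fun e' => h2 (e' ▸ rfl))).trans
    (conj_commute_iff g e v).symm

theorem vLine_image (h : IsFischerPair D) (g x y : G) :
    (fun z => g * z * g⁻¹) '' vLine D x y = vLine D (g * x * g⁻¹) (g * y * g⁻¹) := by
  ext z
  constructor
  · rintro ⟨w, rfl | rfl | hw, rfl⟩
    exacts [Or.inl rfl, Or.inr (Or.inl rfl), Or.inr (Or.inr (h.vRel_conj g hw))]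
  · intro hz
    refine ⟨g⁻¹ * z * g⁻¹⁻¹, ?_, by group⟩
    rcases hz with rfl | rfl | hz
    · exact Or.inl (by group)
    · exact Or.inr (Or.inl (by group))
    · refine Or.inr (Or.inr ?_)
      have := h.vRel_conj g⁻¹ hz
      rwa [show g⁻¹ * (g * x * g⁻¹) * g⁻¹⁻¹ = x by group,
        show g⁻¹ * (g * y * g⁻¹) * g⁻¹⁻¹ = y by group] at this

theorem vLine_ncard (h : IsFischerPair D) {x y u v : G} (hx : x ∈ D) (hy : y ∈ comSet D x) (hu : u ∈ D)
    (hv : v ∈ comSet D u) : (vLine D x y).ncard = (vLine D u v).ncard := by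
  obtain ⟨g, rfl, rfl⟩ := h.com hx hy.1 hu hv.1 hy.2.1 hv.2.1 hy.2.2 hv.2.2
  rw [← h.vLine_image, Set.ncard_image_of_injective _ (conj_inj' g)]

theorem vRel_swap (h : IsFischerPair D) {x y v : G} (hx : x ∈ D) (hr : VRel D x y v) : VRel D y x v := by
  have hxy := mem_comSet_symm hx hr.1
  have hvy : v ∈ comSet D y := ⟨hr.2.1.1, Ne.symm hr.2.2.1, hr.2.2.2.1⟩
  refine ⟨hxy, hvy, Ne.symm hr.2.1.2.1, hr.2.1.2.2, fun e he h1 h2 => ?_⟩
  constructor
  · intro hc
    exact (hr.2.2.2.2 e ⟨he.1, h1, hc.symm⟩ he.2.1 h2).1 he.2.2.symm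
  · intro hc
    have hsub : (comSet D x ∩ comSet D y) \ {v} ⊆ (comSet D y ∩ comSet D v) \ {x} := by
      rintro w ⟨⟨hwx, hwy⟩, hwv⟩
      exact ⟨⟨hwy, hwy.1, hwv, ((hr.2.2.2.2 w hwx hwy.2.1 hwv).1 hwy.2.2.symm).symm⟩, hwx.2.1⟩
    have hmem1 : v ∈ comSet D x ∩ comSet D y := ⟨hr.2.1, hvy⟩
    have hmem2 : x ∈ comSet D y ∩ comSet D v := ⟨hxy, mem_comSet_symm hx hr.2.1⟩
    have heq := Set.eq_of_subset_of_ncard_le hsub (by
      rw [Set.ncard_sdiff_singleton_of_mem hmem1, Set.ncard_sdiff_singleton_of_mem hmem2,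
        h.inter_ncard hr.1.1 hvy hx hr.1]) (Set.toFinite _)
    have he' : e ∈ (comSet D y ∩ comSet D v) \ {x} := ⟨⟨he, he.1, h2, hc.symm⟩, h1⟩
    rw [← heq] at he'
    exact he'.1.1.2.2.symm

theorem vLine_comm (h : IsFischerPair D) {x y : G} (hx : x ∈ D) (hy : y ∈ comSet D x) :
    vLine D x y = vLine D y x := by
  have key : ∀ {x y : G}, x ∈ D → y ∈ comSet D x → vLine D x y ⊆ vLine D y x := by
    intro x y hx hy w hw
    rcases hw with rfl | rfl | hw
    exacts [Or.inr (Or.inl rfl), Or.inl rfl, Or.inr (Or.inr (h.vRel_swap hx hw))]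
  exact Set.Subset.antisymm (key hx hy) (key hy.1 (mem_comSet_symm hx hy))

/-- A line is spanned by any two of its members. -/
theorem vLine_eq (h : IsFischerPair D) {x y a b : G} (hx : x ∈ D) (hy : y ∈ comSet D x)
    (ha : a ∈ vLine D x y) (hb : b ∈ vLine D x y) (hab : a ≠ b) : vLine D a b = vLine D x y := by
  -- move `a` to the front
  have hfront : ∀ w ∈ vLine D x y, w ≠ x → vLine D x w = vLine D x y ∧ w ∈ comSet D x := by
    intro w hw hwx
    rcases hw with rfl | rfl | hw
    exacts [absurd rfl hwx, ⟨rfl, hy⟩, ⟨vLine_eq_of_rel hw, hw.2.1⟩]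
  by_cases hax : a = x
  · subst hax; exact (hfront b hb (Ne.symm hab)).1
  obtain ⟨e1, ha'⟩ := hfront a ha hax
  rw [h.vLine_comm hx ha'] at e1
  have hxa := mem_comSet_symm hx ha'
  rw [← e1] at hb
  rcases hb with rfl | rfl | hb
  exacts [absurd rfl hab, e1, (vLine_eq_of_rel hb).trans e1]

theorem mem_comSet_of_mem_vLine (_h : IsFischerPair D) {x y a b : G} (hx : x ∈ D) (hy : y ∈ comSet D x)
    (ha : a ∈ vLine D x y) (hb : b ∈ vLine D x y) (hab : a ≠ b) : b ∈ comSet D a :=
  ⟨vLine_subset hx hy hb, Ne.symm hab, vLine_commute hy ha hb⟩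

/-- A member commuting with two members of a line commutes with all. -/
theorem commute_vLine_of_two (h : IsFischerPair D) {x y a b z v : G} (hx : x ∈ D) (hy : y ∈ comSet D x)
    (ha : a ∈ vLine D x y) (hb : b ∈ vLine D x y) (hab : a ≠ b) (hz : z ∈ D) (hza : Commute z a)
    (hzb : Commute z b) (hv : v ∈ vLine D x y) : Commute z v := by
  rw [← h.vLine_eq hx hy ha hb hab] at hv
  rcases hv with rfl | rfl | hv
  · exact hza
  · exact hzb
  · by_cases hzv : z = v
    · subst hzv; exact Commute.refl z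
    by_cases hza' : z = a
    · subst hza'; exact hv.2.1.2.2
    by_cases hzb' : z = b
    · subst hzb'; exact hv.2.2.2.1
    exact (hv.2.2.2.2 z ⟨hz, hza', hza.symm⟩ hzb' hzv).1 hzb

omit [Finite G] in
/-- Conjugation by the product of an adjacent pair, on members commuting with the first. -/
theorem conj_pair_eq (h : IsFischerPair D) {a z v : G} (ha : a ∈ D) (hz : z ∈ D) (hv : v ∈ D)
    (hzv : ¬ Commute z v) : a * z * v * (a * z)⁻¹ = a * v * z * v * a := by
  rw [mul_inv_rev, inv_eq h.closed.1 ha, inv_eq h.closed.1 hz]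
  calc a * z * v * (z * a) = a * (z * v * z) * a := by group
    _ = a * v * z * v * a := by rw [braid h.closed.1 hz hv hzv]; group

omit [Finite G] in
/-- Pairwise commuting members all adjacent to `z`, with all images under the products `a z` in one set,
give that set as an orbit of a 2-group. -/
theorem exists_ncard_two_pow (h : IsFischerPair D) [Finite G] {S W : Set G} {z a₀ : G} (hS : S ⊆ D)
    (hz : z ∈ D) (hc : ∀ a ∈ S, ∀ b ∈ S, Commute a b) (hadj : ∀ a ∈ S, ¬ Commute z a) (ha₀ : a₀ ∈ S)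
    (hW : ∀ a ∈ S, (fun v => a * z * v * (a * z)⁻¹) '' S = W) : ∃ d : ℕ, S.ncard = 2 ^ d := by
  have hS' := h.closed.1
  let T : Subgroup G := Subgroup.closure {t | ∃ a ∈ S, ∃ b ∈ S, t = a * b}
  have hT : IsPGroup 2 T := by
    haveI hcomm : IsMulCommutative T := by
      refine Subgroup.isMulCommutative_closure ?_
      rintro _ ⟨a, ha, b, hb, rfl⟩ _ ⟨c, hc', d, hd, rfl⟩
      exact (((hc a ha c hc').mul_right (hc a ha d hd)).mul_left ((hc b hb c hc').mul_right (hc b hb d hd))).eq
    intro t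
    refine ⟨1, Subtype.ext ?_⟩
    obtain ⟨t, ht⟩ := t
    show t ^ 2 = 1
    induction ht using Subgroup.closure_induction with
    | mem y hy =>
      obtain ⟨a, ha, b, hb, rfl⟩ := hy
      exact sq_eq_one_of_commute (mul_self hS' (hS ha)) (mul_self hS' (hS hb)) (hc a ha b hb)
    | one => exact one_pow 2
    | mul y w hy hw iy iw =>
      have hyw : Commute y w := congrArg Subtype.val (hcomm.is_comm.comm ⟨y, hy⟩ ⟨w, hw⟩)
      rw [hyw.mul_pow, iy, iw, one_mul]
    | inv y _ iy => rw [inv_pow, iy, inv_one]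
  have hval : ∀ a ∈ S, ∀ v ∈ S, a * v * z * v * a = a * z * v * (a * z)⁻¹ := fun a ha v hv =>
    (h.conj_pair_eq (hS ha) hz (hS hv) (hadj v hv)).symm
  have hmemW : ∀ a ∈ S, ∀ v ∈ S, a * v * z * v * a ∈ W := fun a ha v hv => by
    rw [← hW a ha]; exact ⟨v, hv, (hval a ha v hv).symm⟩
  have hzW : z ∈ W := by
    have := hmemW a₀ ha₀ a₀ ha₀
    rwa [mul_self hS' (hS ha₀), one_mul, mul_assoc, mul_self hS' (hS ha₀), mul_one] at this
  have horb : (fun g => g * z * g⁻¹) '' (T : Set G) = W := by
    apply Set.Subset.antisymm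
    · suffices ∀ t ∈ T, ∀ w ∈ W, t * w * t⁻¹ ∈ W by
        rintro _ ⟨t, ht, rfl⟩; exact this t ht z hzW
      intro t ht
      induction ht using Subgroup.closure_induction with
      | mem y hy =>
        obtain ⟨a, ha, b, hb, rfl⟩ := hy
        intro w hw
        rw [← hW a ha] at hw
        obtain ⟨v, hv, rfl⟩ := hw
        show a * b * (a * z * v * (a * z)⁻¹) * (a * b)⁻¹ ∈ W
        rw [← hval a ha v hv, mul_inv_rev, inv_eq hS' (hS ha), inv_eq hS' (hS hb)]
        have hba : b * a = a * b := (hc b hb a ha).eq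
        have hva : v * a = a * v := (hc v hv a ha).eq
        convert hmemW b hb v hv using 1
        calc a * b * (a * v * z * v * a) * (b * a) = a * (b * a) * v * z * (v * a) * (b * a) := by group
          _ = a * (a * b) * v * z * (a * v) * (a * b) := by rw [hba, hva]
          _ = a * a * b * v * z * (v * a) * (a * b) := by rw [hva]; group
          _ = a * a * b * v * z * v * (a * a) * b := by group
          _ = b * v * z * v * b := by rw [mul_self hS' (hS ha)]; group
      | one => intro w hw; simpa using hw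
      | mul y w hy hw iy iw =>
        intro u hu
        rw [show y * w * u * (y * w)⁻¹ = y * (w * u * w⁻¹) * y⁻¹ by group]
        exact iy _ (iw u hu)
      | inv y hy iy =>
        intro u hu
        have e : y⁻¹ = y := by
          refine inv_eq_of_mul_eq_one_left ?_
          have hsq : ∀ s ∈ T, s * s = 1 := by
            intro s hs
            haveI hcomm : IsMulCommutative T := by
              refine Subgroup.isMulCommutative_closure ?_
              rintro _ ⟨a, ha, b, hb, rfl⟩ _ ⟨c, hc', d, hd, rfl⟩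
              exact (((hc a ha c hc').mul_right (hc a ha d hd)).mul_left
                ((hc b hb c hc').mul_right (hc b hb d hd))).eq
            induction hs using Subgroup.closure_induction with
            | mem s hs =>
              obtain ⟨a, ha, b, hb, rfl⟩ := hs
              rw [← pow_two]
              exact sq_eq_one_of_commute (mul_self hS' (hS ha)) (mul_self hS' (hS hb)) (hc a ha b hb)
            | one => exact one_mul 1
            | mul s r hs hr is ir =>
              have hsr : s * r = r * s := congrArg Subtype.val (hcomm.is_comm.comm ⟨s, hs⟩ ⟨r, hr⟩)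
              calc s * r * (s * r) = s * r * (r * s) := by rw [hsr]
                _ = s * (r * r) * s := by group
                _ = 1 := by rw [ir, mul_one, is]
            | inv s _ is => rw [← mul_inv_rev, is, inv_one]
          exact hsq y hy
        rw [e]; exact iy u hu
    · intro w hw
      rw [← hW a₀ ha₀] at hw
      obtain ⟨v, hv, rfl⟩ := hw
      refine ⟨a₀ * v, Subgroup.subset_closure ⟨a₀, ha₀, v, hv, rfl⟩, ?_⟩
      show a₀ * v * z * (a₀ * v)⁻¹ = a₀ * z * v * (a₀ * z)⁻¹
      rw [← hval a₀ ha₀ v hv, mul_inv_rev, inv_eq hS' (hS ha₀), inv_eq hS' (hS hv)]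
      group
  obtain ⟨n, hn⟩ := IsPGroup.iff_card.1 hT
  obtain ⟨d, -, hd⟩ := (Nat.dvd_prime_pow Nat.prime_two).1
    (hn ▸ Subgroup.relIndex_dvd_card (Subgroup.centralizer ({z} : Set G)) T)
  refine ⟨d, ?_⟩
  rw [← Set.ncard_image_of_injective S (conj_inj' (a₀ * z)), hW a₀ ha₀, ← horb, ncard_conj_orbit]
  exact hd

/-- Every pair of commuting members lies on a line with a third member. -/
def HasVLines (D : Set G) : Prop := ∀ u ∈ D, ∀ v ∈ comSet D u, ∃ v', VRel D u v v'

omit [Finite G] in
theorem line_ne (hV : HasVLines D) {x y : G} (hx : x ∈ D) (hy : y ∈ comSet D x) :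
    ∃ v ∈ vLine D x y, v ≠ x ∧ v ≠ y := by
  obtain ⟨v, hv⟩ := hV x hx y hy
  exact ⟨v, Or.inr (Or.inr hv), hv.2.1.2.1, Ne.symm hv.2.2.1⟩

/-- Some member of `D_x` is adjacent to `y`. -/
theorem exists_adj_in_comSet (h : IsFischerPair D) (hV : HasVLines D) {x y : G} (hx : x ∈ D)
    (hy : y ∈ comSet D x) : ∃ z ∈ comSet D x, ¬ Commute z y := by
  by_contra hno
  push Not at hno
  obtain ⟨v, hv⟩ := hV x hx y hy
  have key : ∀ p q, CompRel D x p q → (p = y ↔ q = y) := by
    intro p q hr
    induction hr with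
    | rel p q hr => exact iff_of_false (fun e => hr.2.2 (e ▸ (hno q hr.2.1).symm)) fun e => hr.2.2 (e ▸ hno p hr.1)
    | refl p => exact Iff.rfl
    | symm p q _ ih => exact ih.symm
    | trans p q r _ _ i j => exact i.trans j
  exact hv.2.2.1 (((key y v (h.single_comp hx hy hv.2.1)).1 rfl)).symm

/-- The members of a line other than one of them form a set of two-power size. -/
theorem exists_sdiff_two_pow (h : IsFischerPair D) (hV : HasVLines D) {x y : G} (hx : x ∈ D)
    (hy : y ∈ comSet D x) : ∃ e : ℕ, (vLine D x y \ {x}).ncard = 2 ^ e := by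
  obtain ⟨z, hz, hzy⟩ := h.exists_adj_in_comSet hV hx hy
  have hS : ∀ a ∈ vLine D x y \ {x}, ¬ Commute z a := fun a ha hc => hzy
    (h.commute_vLine_of_two hx hy (Or.inl rfl) ha.1 (Ne.symm ha.2) hz.1 hz.2.2.symm hc (Or.inr (Or.inl rfl)))
  refine h.exists_ncard_two_pow (z := z) (W := vLine D x z \ {x}) (fun a ha => vLine_subset hx hy ha.1) hz.1
    (fun a ha b hb => vLine_commute hy ha.1 hb.1) hS ⟨Or.inr (Or.inl rfl), hy.2.1⟩ ?_
  intro a ha
  have haD := vLine_subset hx hy ha.1
  have hax : a * z * x * (a * z)⁻¹ = x := mul_inv_eq_iff_eq_mul.2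
    ((vLine_commute hy ha.1 (Or.inl rfl)).mul_left hz.2.2.symm).eq
  have haz : a * z * a * (a * z)⁻¹ = z := by
    rw [braid h.closed.1 haD hz.1 fun hc => hS a ha hc.symm]; group
  have e : vLine D x y = vLine D x a :=
    (h.vLine_eq hx hy (Or.inl rfl) ha.1 (Ne.symm ha.2)).symm
  rw [Set.image_sdiff (conj_inj' (a * z)), Set.image_singleton, e, h.vLine_image, hax, haz]

/-- A member commutes with at least one member of every line. -/
theorem exists_perp (h : IsFischerPair D) (hV : HasVLines D) {x y z : G} (hx : x ∈ D)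
    (hy : y ∈ comSet D x) (hz : z ∈ D) : ∃ u ∈ vLine D x y, Commute z u := by
  by_contra hno
  push Not at hno
  set L := vLine D x y
  have hgen : ∀ a ∈ L, ∀ b ∈ L, a ≠ b → (fun v => a * z * v * (a * z)⁻¹) '' L
      = vLine D z (a * b * z * b * a) ∧ a * b * z * b * a ∈ comSet D z := by
    intro a ha b hb hab
    have haD := vLine_subset hx hy ha
    have haz : a * z * a * (a * z)⁻¹ = z := by
      rw [braid h.closed.1 haD hz fun hc => hno a ha hc.symm]; group
    have habz := h.conj_pair_eq haD hz (vLine_subset hx hy hb) (hno b hb)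
    refine ⟨?_, ?_⟩
    · show (fun v => a * z * v * (a * z)⁻¹) '' vLine D x y = _
      rw [← h.vLine_eq hx hy ha hb hab, h.vLine_image, haz, habz]
    · have := h.comSet_conj (a * z) (h.mem_comSet_of_mem_vLine hx hy ha hb hab)
      rwa [haz, habz] at this
  have hxy : x ≠ y := Ne.symm hy.2.1
  have hxL : x ∈ L := Or.inl rfl
  have hyL : y ∈ L := Or.inr (Or.inl rfl)
  obtain ⟨hW0, hq0⟩ := hgen x hxL y hyL hxy
  set W := vLine D z (x * y * z * y * x) with hWdef
  have hW : ∀ a ∈ L, (fun v => a * z * v * (a * z)⁻¹) '' L = W := by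
    intro a ha
    by_cases hax : a = x
    · subst hax; exact hW0
    obtain ⟨h1, h2⟩ := hgen a ha x hxL hax
    rw [h1]
    have haD := vLine_subset hx hy ha
    have hsymm : a * x * z * x * a = x * a * z * a * x := by
      have e : a * x = x * a := (vLine_commute hy ha hxL).eq
      rw [e]; rw [mul_assoc _ x a, ← e]; group
    refine h.vLine_eq hz hq0 (Or.inl rfl) ?_ (Ne.symm h2.2.1)
    show a * x * z * x * a ∈ W
    rw [hsymm, ← hW0]
    exact ⟨a, ha, h.conj_pair_eq hx hz haD (hno a ha)⟩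
  obtain ⟨d, hd⟩ := h.exists_ncard_two_pow (fun a ha => vLine_subset hx hy ha) hz
    (fun a ha b hb => vLine_commute hy ha hb) hno hxL hW
  obtain ⟨e, he⟩ := h.exists_sdiff_two_pow hV hx hy
  rw [Set.ncard_sdiff_singleton_of_mem hxL, hd] at he
  obtain ⟨v, hv, hvx, hvy⟩ := line_ne hV hx hy
  have h3 : 2 < L.ncard := by
    have := Set.ncard_le_ncard (s := {x, y, v}) (t := L) (by
      rintro _ (rfl | rfl | rfl) <;> assumption) (Set.toFinite _)
    rw [Set.ncard_eq_three.2 ⟨x, y, v, hxy, Ne.symm hvx, Ne.symm hvy, rfl⟩] at this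
    omega
  rw [hd] at h3
  rcases d with _ | d
  · simp at h3
  rcases e with _ | e
  · rw [pow_succ] at he h3; omega
  · rw [pow_succ, pow_succ] at he; omega

/-- Lines have three or five members. -/
theorem vLine_ncard_cases (h : IsFischerPair D) (hV : HasVLines D) {x y : G} (hx : x ∈ D)
    (hy : y ∈ comSet D x) : (vLine D x y).ncard = 3 ∨ (vLine D x y).ncard = 5 := by
  classical
  set L := vLine D x y
  have hxL : x ∈ L := Or.inl rfl
  have hyL : y ∈ L := Or.inr (Or.inl rfl)
  have hLc : ∀ a ∈ L, ∀ b ∈ L, Commute a b := fun a ha b hb => vLine_commute hy ha hb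
  have hLD : ∀ a ∈ L, a ∈ D := fun a ha => vLine_subset hx hy ha
  have hS := h.closed.1
  -- an outside member with perp `x`
  obtain ⟨z, hz, hzy⟩ := h.exists_adj_in_comSet hV hx hy
  -- an opposite line through it
  obtain ⟨w, hw, hwx⟩ : ∃ w ∈ comSet D z, ¬ Commute x w := by
    by_contra hno
    push Not at hno
    refine hz.2.1 (eq_of_adjSet h.cls h.modules h.two hz.1 hx (Set.ext fun e => ?_))
    have hsub : comSet D z \ {x} ⊆ comSet D x \ {z} := fun w hw =>
      ⟨⟨hw.1.1, hw.2, hno w hw.1⟩, hw.1.2.1⟩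
    have heq := Set.eq_of_subset_of_ncard_le hsub (by
      rw [Set.ncard_sdiff_singleton_of_mem (mem_comSet_symm hx hz), Set.ncard_sdiff_singleton_of_mem hz,
        comSet_ncard h.cls hz.1 hx]) (Set.toFinite _)
    have hiff : Commute z e → e ∈ D → e ≠ z → e ≠ x → Commute x e := fun hc he h1 h2 =>
      hno e ⟨he, h1, hc⟩
    constructor
    · intro he
      refine ⟨he.1, fun hc => ?_⟩
      have h1 : e ≠ z := fun e' => he.2 (e' ▸ Commute.refl z)
      have h2 : e ≠ x := fun e' => he.2 (e' ▸ hz.2.2.symm)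
      have hm : e ∈ comSet D x \ {z} := ⟨⟨he.1, h2, hc⟩, h1⟩
      rw [← heq] at hm
      exact he.2 hm.1.2.2
    · intro he
      refine ⟨he.1, fun hc => he.2 (hiff hc he.1 (fun e' => he.2 (e' ▸ hz.2.2)) fun e' => he.2 (e' ▸ Commute.refl x))⟩
  set M := vLine D z w
  have hzM : z ∈ M := Or.inl rfl
  have hwM : w ∈ M := Or.inr (Or.inl rfl)
  have hMD : ∀ a ∈ M, a ∈ D := fun a ha => vLine_subset hz.1 hw ha
  -- no member of either line commutes with all of the other
  have huniq : ∀ c ∈ M, ∀ a ∈ L, ∀ b ∈ L, Commute c a → Commute c b → a = b := by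
    intro c hc a ha b hb hca hcb
    by_contra hab
    have hcx := h.commute_vLine_of_two hx hy ha hb hab (hMD c hc) hca hcb hxL
    have hcy := h.commute_vLine_of_two hx hy ha hb hab (hMD c hc) hca hcb hyL
    have hcz : c ≠ z := fun e => hzy (e ▸ hcy)
    exact hwx (h.commute_vLine_of_two hz.1 hw hc hzM hcz hx hcx.symm hz.2.2 hwM)
  have huniq' : ∀ u ∈ L, ∀ c ∈ M, ∀ c' ∈ M, Commute u c → Commute u c' → c = c' := by
    intro u hu c hc c' hc' h1 h2
    by_contra hne
    have huw := h.commute_vLine_of_two hz.1 hw hc hc' hne (hLD u hu) h1 h2 hwM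
    have huz := h.commute_vLine_of_two hz.1 hw hc hc' hne (hLD u hu) h1 h2 hzM
    exact hwx (huniq z hzM x hxL u hu hz.2.2.symm huz.symm ▸ huw)
  obtain ⟨a, haL, hwa⟩ := h.exists_perp hV hx hy hw.1
  -- at a perp point: the other members move a point between two lines through it
  have hframe : ∀ c ∈ M, ∀ u ∈ L, Commute c u →
      c ∈ comSet D u ∧ ∀ v₀ ∈ L, v₀ ≠ u → ∀ v ∈ L, v ≠ u →
        v * c * v ∉ vLine D u c ∧ vLine D u (v * c * v) = vLine D u (v₀ * c * v₀) := by
    intro c hc u hu hcu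
    have hcne : c ≠ u := by
      intro e
      subst e
      exact hy.2.1 (huniq c hc x hxL y hyL (hLc c hu x hxL) (hLc c hu y hyL)).symm
    have hcm : c ∈ comSet D u := ⟨hMD c hc, hcne, hcu.symm⟩
    refine ⟨hcm, fun v₀ hv₀ hv₀u v hv hvu => ?_⟩
    have hcv : ∀ b ∈ L, b ≠ u → ¬ Commute c b := fun b hb hbu hcb => hbu (huniq c hc b hb u hu hcb hcu)
    refine ⟨fun hm => ?_, ?_⟩
    · have h1 := vLine_commute hcm (Or.inr (Or.inl rfl)) hm
      refine third_not_commute_right h.closed (hLD v hv) (hMD c hc) (fun hcc => hcv v hv hvu hcc.symm) ?_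
      exact h1
    · -- both thirds and `c` lie in one frame
      have key : ∀ b ∈ L, b ≠ u → v₀ * b * c * b * v₀ ∈ vLine D u c := by
        intro b hb hbu
        have e1 : vLine D u c = (fun t => v₀ * c * t * (v₀ * c)⁻¹) '' vLine D u v₀ := by
          rw [h.vLine_image,
            show v₀ * c * u * (v₀ * c)⁻¹ = u from
              mul_inv_eq_iff_eq_mul.2 ((hLc v₀ hv₀ u hu).mul_left hcu).eq,
            show v₀ * c * v₀ * (v₀ * c)⁻¹ = c by
              rw [braid hS (hLD v₀ hv₀) (hMD c hc) fun hcc => hcv v₀ hv₀ hv₀u hcc.symm]; group]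
        rw [e1]
        exact ⟨b, by rw [h.vLine_eq hx hy hu hv₀ (Ne.symm hv₀u)]; exact hb,
          h.conj_pair_eq (hLD v₀ hv₀) (hMD c hc) (hLD b hb) (hcv b hb hbu)⟩
      have h2 := key v hv hvu
      have hum : v₀ * c * v₀ ∈ comSet D u := by
        have := h.comSet_conj v₀ hcm
        rwa [show v₀ * u * v₀⁻¹ = u from mul_inv_eq_iff_eq_mul.2 (hLc v₀ hv₀ u hu).eq,
          conj_eq hS (hLD v₀ hv₀)] at this
      have h3 : v * c * v ∈ vLine D u (v₀ * c * v₀) := by
        have h4 := Set.mem_image_of_mem (fun t => v₀ * t * v₀⁻¹) h2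
        rw [h.vLine_image, show v₀ * u * v₀⁻¹ = u from mul_inv_eq_iff_eq_mul.2 (hLc v₀ hv₀ u hu).eq] at h4
        rw [← conj_eq hS (hLD v₀ hv₀)]
        convert h4 using 1
        rw [inv_eq hS (hLD v₀ hv₀)]
        simp only [mul_assoc, mul_self hS (hLD v₀ hv₀), mul_self_assoc hS (hLD v₀ hv₀), mul_one]
      have hne : v * c * v ≠ u := fun e => hcne
        (conj_left_inj.1 (show v * c * v⁻¹ = v * u * v⁻¹ by
          rw [conj_eq hS (hLD v hv), e, (hLc v hv u hu).eq, mul_inv_cancel_right]))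
      exact h.vLine_eq (hLD u hu) hum (Or.inl rfl) h3 (Ne.symm hne)
  -- conjugation by a member of the line keeps or exchanges the two lines through a perp point
  have hmemL : ∀ {b u d v : G}, b ∈ L → u ∈ L → d ∈ vLine D u v \ {u} → (v ∈ comSet D u) →
      b * d * b⁻¹ ∈ vLine D u (b * v * b⁻¹) \ {u} := by
    intro b u d v hb hu hd hv
    have hbu : b * u * b⁻¹ = u := mul_inv_eq_iff_eq_mul.2 (hLc b hb u hu).eq
    refine ⟨?_, fun e => hd.2 (conj_left_inj.1 ((show b * d * b⁻¹ = u from e).trans hbu.symm))⟩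
    have := Set.mem_image_of_mem (fun t => b * t * b⁻¹) hd.1
    rwa [h.vLine_image, hbu] at this
  have hstep : ∀ c ∈ M, ∀ u ∈ L, Commute c u → ∀ v ∈ L, v ≠ u → ∀ b ∈ L, ∀ d,
      (b ≠ u → (d ∈ vLine D u c \ {u} → b * d * b⁻¹ ∈ vLine D u (v * c * v) \ {u}) ∧
        (d ∈ vLine D u (v * c * v) \ {u} → b * d * b⁻¹ ∈ vLine D u c \ {u})) ∧
      (b = u → (d ∈ vLine D u c \ {u} → b * d * b⁻¹ ∈ vLine D u c \ {u}) ∧
        (d ∈ vLine D u (v * c * v) \ {u} → b * d * b⁻¹ ∈ vLine D u (v * c * v) \ {u})) := by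
    intro c hc u hu hcu v hv hvu b hb d
    obtain ⟨hcm, hfr⟩ := hframe c hc u hu hcu
    have hvu' : v * u * v⁻¹ = u := mul_inv_eq_iff_eq_mul.2 (hLc v hv u hu).eq
    have hvm : v * c * v ∈ comSet D u := by
      have := h.comSet_conj v hcm
      rwa [hvu', conj_eq hS (hLD v hv)] at this
    constructor
    · intro hbu
      obtain ⟨-, e1⟩ := hfr v hv hvu b hb hbu
      refine ⟨fun hd => ?_, fun hd => ?_⟩
      · have := hmemL hb hu hd hcm
        rwa [conj_eq hS (hLD b hb) c, e1] at this
      · rw [← e1] at hd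
        have hbm : b * c * b ∈ comSet D u := by
          have := h.comSet_conj b hcm
          rwa [mul_inv_eq_iff_eq_mul.2 (hLc b hb u hu).eq, conj_eq hS (hLD b hb)] at this
        have := hmemL hb hu hd hbm
        rwa [conj_eq hS (hLD b hb) (b * c * b), mul_assoc b c b, mul_self_assoc hS (hLD b hb),
          mul_mul_self hS (hLD b hb)] at this
    · intro hbu
      subst hbu
      refine ⟨fun hd => ?_, fun hd => ?_⟩
      · have := hmemL hb hb hd hcm
        rwa [mul_inv_eq_iff_eq_mul.2 hcu.symm.eq] at this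
      · have := hmemL hb hb hd hvm
        rwa [mul_inv_eq_iff_eq_mul.2 hvm.2.2.eq] at this
  have htwo : ∀ c ∈ M, ∀ u ∈ L, Commute c u → ∀ v ∈ L, v ≠ u → ∀ t : G, t ∈ Subgroup.closure L →
      t * c * t⁻¹ ∈ vLine D u c \ {u} ∨ t * c * t⁻¹ ∈ vLine D u (v * c * v) \ {u} := by
    intro c hc u hu hcu v hv hvu t ht
    obtain ⟨hcm, -⟩ := hframe c hc u hu hcu
    have hgo : ∀ b ∈ L, ∀ s : G,
        (s * c * s⁻¹ ∈ vLine D u c \ {u} ∨ s * c * s⁻¹ ∈ vLine D u (v * c * v) \ {u}) →
        (b * s * c * (b * s)⁻¹ ∈ vLine D u c \ {u} ∨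
          b * s * c * (b * s)⁻¹ ∈ vLine D u (v * c * v) \ {u}) := by
      intro b hb s ih
      rw [show b * s * c * (b * s)⁻¹ = b * (s * c * s⁻¹) * b⁻¹ by group]
      obtain ⟨h1, h2⟩ := hstep c hc u hu hcu v hv hvu b hb (s * c * s⁻¹)
      by_cases hbu : b = u
      · rcases ih with hi | hi
        exacts [Or.inl ((h2 hbu).1 hi), Or.inr ((h2 hbu).2 hi)]
      · rcases ih with hi | hi
        exacts [Or.inr ((h1 hbu).1 hi), Or.inl ((h1 hbu).2 hi)]
    induction ht using Subgroup.closure_induction_left with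
    | one => exact Or.inl ⟨by rw [one_mul, inv_one, mul_one]; exact Or.inr (Or.inl rfl),
        by simpa using hcm.2.1⟩
    | mul_left b hb s _ ih => exact hgo b hb s ih
    | inv_mul_cancel b hb s _ ih => rw [inv_eq hS (hLD b hb)]; exact hgo b hb s ih
  have hdisj : ∀ c ∈ M, ∀ u ∈ L, Commute c u → ∀ v ∈ L, v ≠ u → ∀ d,
      d ∈ vLine D u c \ {u} → d ∉ vLine D u (v * c * v) \ {u} := by
    intro c hc u hu hcu v hv hvu d hd hd'
    obtain ⟨hcm, hfr⟩ := hframe c hc u hu hcu
    have hvm : v * c * v ∈ comSet D u := by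
      have := h.comSet_conj v hcm
      rwa [mul_inv_eq_iff_eq_mul.2 (hLc v hv u hu).eq, conj_eq hS (hLD v hv)] at this
    refine (hfr v hv hvu v hv hvu).1 ?_
    rw [← h.vLine_eq (hLD u hu) hcm (Or.inl rfl) hd.1 (Ne.symm hd.2),
      h.vLine_eq (hLD u hu) hvm (Or.inl rfl) hd'.1 (Ne.symm hd'.2)]
    exact Or.inr (Or.inl rfl)
  -- products over subsets of the line
  let S₀ : Finset G := (Set.toFinite L).toFinset.erase x
  have hmem₀ : ∀ b ∈ S₀, b ∈ L ∧ b ≠ x := fun b hb =>
    ⟨(Set.Finite.mem_toFinset _).1 (Finset.mem_erase.1 hb).2, (Finset.mem_erase.1 hb).1⟩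
  let gen : G → G := fun b => if b ∈ L then x * b else 1
  have hgencomm : ∀ b c : G, Commute (gen b) (gen c) := by
    intro b c
    by_cases hb : b ∈ L
    · by_cases hc : c ∈ L
      · simp only [gen, if_pos hb, if_pos hc]
        exact ((hLc x hxL x hxL).mul_right (hLc x hxL c hc)).mul_left
          ((hLc b hb x hxL).mul_right (hLc b hb c hc))
      · simp [gen, if_neg hc]
    · simp [gen, if_neg hb]
  let prodOf : Finset G → G := fun s => s.noncommProd gen fun b _ c _ _ => hgencomm b c
  have hprod : ∀ s ⊆ S₀, prodOf s ∈ Subgroup.closure L := by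
    intro s hs
    refine Subgroup.noncommProd_mem _ _ fun b hb => ?_
    simp only [gen, if_pos (hmem₀ b (hs hb)).1]
    exact mul_mem (Subgroup.subset_closure hxL) (Subgroup.subset_closure (hmem₀ b (hs hb)).1)
  have hval : ∀ c ∈ M, ∀ u ∈ L, Commute c u → u ≠ x → ∀ s ⊆ S₀,
      (u ∈ s → prodOf s * c * (prodOf s)⁻¹ ∈ vLine D u (x * c * x) \ {u}) ∧
      (u ∉ s → prodOf s * c * (prodOf s)⁻¹ ∈ vLine D u c \ {u}) := by
    intro c hc u hu hcu hux s
    induction s using Finset.induction_on with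
    | empty =>
      intro _
      refine ⟨fun hm => absurd hm (Finset.notMem_empty u), fun _ => ?_⟩
      obtain ⟨hcm, -⟩ := hframe c hc u hu hcu
      rw [show prodOf ∅ = 1 from Finset.noncommProd_empty _ _, one_mul, inv_one, mul_one]
      exact ⟨Or.inr (Or.inl rfl), hcm.2.1⟩
    | insert b s hbs ih =>
      intro hsub
      rw [Finset.insert_subset_iff] at hsub
      obtain ⟨hb, -⟩ := hmem₀ b hsub.1
      obtain ⟨i1, i2⟩ := ih hsub.2
      have e : prodOf (insert b s) = x * b * prodOf s := by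
        refine (Finset.noncommProd_insert_of_notMem s b gen _ hbs).trans ?_
        show gen b * _ = _
        simp only [gen, if_pos hb]
        rfl
      rw [e, show x * b * prodOf s * c * (x * b * prodOf s)⁻¹ =
        x * (b * (prodOf s * c * (prodOf s)⁻¹) * b⁻¹) * x⁻¹ by group]
      set d := prodOf s * c * (prodOf s)⁻¹
      obtain ⟨fb1, fb2⟩ := hstep c hc u hu hcu x hxL (Ne.symm hux) b hb d
      obtain ⟨fx1, -⟩ := hstep c hc u hu hcu x hxL (Ne.symm hux) x hxL (b * d * b⁻¹)
      have fx := fx1 (Ne.symm hux)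
      by_cases hbu : b = u
      · subst hbu
        refine ⟨fun _ => fx.1 ((fb2 rfl).1 (i2 hbs)), fun hn => absurd (Finset.mem_insert_self b s) hn⟩
      · refine ⟨fun hm => fx.1 ((fb1 hbu).2 (i1 ((Finset.mem_insert.1 hm).resolve_left (Ne.symm hbu)))),
          fun hn => fx.2 ((fb1 hbu).1 (i2 fun hm => hn (Finset.mem_insert_of_mem hm)))⟩
  -- the pair of images determines the subset
  let img : Finset G → G × G := fun s =>
    (prodOf s * z * (prodOf s)⁻¹, prodOf s * w * (prodOf s)⁻¹)
  have hcentral : ∀ t ∈ Subgroup.closure L, ∀ u ∈ L, t * u * t⁻¹ = u := by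
    intro t ht u hu
    refine mul_inv_eq_iff_eq_mul.2 ?_
    suffices Commute t u from this.eq
    induction ht using Subgroup.closure_induction with
    | mem b hb => exact hLc b hb u hu
    | one => exact Commute.one_left u
    | mul b c _ _ ib ic => exact ib.mul_left ic
    | inv b _ ib => exact ib.inv_left
  have hinj : ∀ s ⊆ S₀, ∀ s' ⊆ S₀, img s = img s' → s = s' := by
    intro s hs s' hs' he
    simp only [img, Prod.mk.injEq] at he
    have key : ∀ u ∈ S₀, (u ∈ s ↔ u ∈ s') := by
      intro u hu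
      obtain ⟨huL, hux⟩ := hmem₀ u hu
      obtain ⟨c, hc, huc⟩ := h.exists_perp hV hz.1 hw (hLD u huL)
      set t := prodOf s with ht
      set t' := prodOf s' with ht'
      have himgM : ∀ r : G, (fun v => r * v * r⁻¹) '' M = vLine D (r * z * r⁻¹) (r * w * r⁻¹) :=
        fun r => h.vLine_image r z w
      have heq : t * c * t⁻¹ = t' * c * t'⁻¹ := by
        have h1 : t * c * t⁻¹ ∈ (fun v => t' * v * t'⁻¹) '' M := by
          rw [himgM, ← he.1, ← he.2, ← himgM]; exact Set.mem_image_of_mem _ hc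
        obtain ⟨c', hc', e'⟩ := h1
        have hcc : Commute u c' := by
          rw [← conj_commute_iff t', hcentral t' (hprod s' hs') u huL]
          rw [show t' * c' * t'⁻¹ = t * c * t⁻¹ from e', ← hcentral t (hprod s hs) u huL, conj_commute_iff]
          exact huc
        rw [huniq' u huL c' hc' c hc hcc huc] at e'
        exact e'.symm
      obtain ⟨p1, p2⟩ := hval c hc u huL huc.symm hux s hs
      obtain ⟨q1, q2⟩ := hval c hc u huL huc.symm hux s' hs'
      rw [← ht, heq] at p1 p2
      rw [← ht'] at q1 q2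
      have hd := hdisj c hc u huL huc.symm x hxL (Ne.symm hux) (t' * c * t'⁻¹)
      constructor
      · intro hm; by_contra hm'; exact hd (q2 hm') (p1 hm)
      · intro hm; by_contra hm'; exact hd (p2 hm') (q1 hm)
    ext u
    exact ⟨fun hm => (key u (hs hm)).1 hm, fun hm => (key u (hs' hm)).2 hm⟩
  have hax : a ≠ x := fun e => hwx (e ▸ hwa.symm)
  -- the possible images
  set n := (vLine D x y).ncard
  have hline : ∀ u v : G, u ∈ D → v ∈ comSet D u → (vLine D u v \ {u}).ncard = n - 1 := by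
    intro u v hu hv
    rw [Set.ncard_sdiff_singleton_of_mem (show u ∈ vLine D u v from Or.inl rfl), h.vLine_ncard hu hv hx hy]
  let A₁ : Finset G := (Set.toFinite ((vLine D x z \ {x}) ∪ (vLine D x (y * z * y) \ {x}))).toFinset
  have hA₁ : A₁.card ≤ 2 * (n - 1) := by
    rw [← Set.ncard_eq_toFinset_card]
    refine (Set.ncard_union_le _ _).trans ?_
    have hym : y * z * y ∈ comSet D x := by
      have := h.comSet_conj y hz
      rwa [mul_inv_eq_iff_eq_mul.2 (hLc y hyL x hxL).eq, conj_eq hS hy.1] at this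
    rw [hline x z hx hz, hline x _ hx hym]; omega
  have hbound : (S₀.powerset.image img).card ≤ 2 * (2 * (n - 1)) := by
    refine le_trans (Finset.card_le_mul_card_image (f := Prod.fst) _ 2 ?_) ?_
    · intro z' hz'
      rw [Finset.mem_image] at hz'
      obtain ⟨p, hp, rfl⟩ := hz'
      rw [Finset.mem_image] at hp
      obtain ⟨s₁, hs₁, rfl⟩ := hp
      rw [Finset.mem_powerset] at hs₁
      set t₁ := prodOf s₁
      refine le_trans (Finset.card_le_card_of_injOn Prod.snd
        (t := (Set.toFinite (({d | d ∈ vLine D a w \ {a} ∧ Commute d (t₁ * z * t₁⁻¹)}) ∪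
          {d | d ∈ vLine D a (x * w * x) \ {a} ∧ Commute d (t₁ * z * t₁⁻¹)})).toFinset) ?_ ?_) ?_
      · intro q hq
        rw [Finset.mem_coe, Finset.mem_filter, Finset.mem_image] at hq
        obtain ⟨⟨s, hs, rfl⟩, hq2⟩ := hq
        rw [Finset.mem_powerset] at hs
        simp only [img] at hq2 ⊢
        rw [Set.Finite.coe_toFinset]
        have hcm : Commute (prodOf s * w * (prodOf s)⁻¹) (t₁ * z * t₁⁻¹) := by
          rw [← hq2, conj_commute_iff]; exact hw.2.2.symm
        rcases htwo w hwM a haL hwa x hxL (Ne.symm hax) _ (hprod s hs) with h1 | h1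
        exacts [Or.inl ⟨h1, hcm⟩, Or.inr ⟨h1, hcm⟩]
      · intro q hq q' hq' e
        rw [Finset.mem_coe, Finset.mem_filter] at hq hq'
        exact Prod.ext (hq.2.trans hq'.2.symm) e
      · rw [← Set.ncard_eq_toFinset_card]
        refine (Set.ncard_union_le _ _).trans ?_
        have hone : ∀ v : G, v ∈ comSet D a →
            {d | d ∈ vLine D a v \ {a} ∧ Commute d (t₁ * z * t₁⁻¹)}.ncard ≤ 1 := by
          intro v hv
          rw [Set.ncard_le_one_iff (Set.toFinite _)]
          rintro d d' ⟨hd, h1⟩ ⟨hd', h2⟩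
          by_contra hdd
          have := h.commute_vLine_of_two (hLD a haL) hv hd.1 hd'.1 hdd (h.closed.2 t₁ z hz.1)
            h1.symm h2.symm (Or.inl rfl)
          rw [← hcentral t₁ (hprod s₁ hs₁) a haL, conj_commute_iff] at this
          exact hax (huniq z hzM a haL x hxL this hz.2.2.symm)
        obtain ⟨hwm, -⟩ := hframe w hwM a haL hwa
        have hxm : x * w * x ∈ comSet D a := by
          have := h.comSet_conj x hwm
          rwa [mul_inv_eq_iff_eq_mul.2 (hLc x hxL a haL).eq, conj_eq hS hx] at this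
        have := hone w hwm
        have := hone _ hxm
        omega
    · refine Nat.mul_le_mul_left _ (le_trans (Finset.card_le_card ?_) hA₁)
      intro q hq
      simp only [Finset.mem_image, Finset.mem_powerset] at hq
      obtain ⟨p, ⟨s, hs, rfl⟩, rfl⟩ := hq
      simp only [img, A₁, Set.Finite.mem_toFinset]
      rcases htwo z hzM x hxL hz.2.2.symm y hyL hy.2.1 _ (hprod s hs) with h1 | h1
      exacts [Or.inl h1, Or.inr h1]
  rw [Finset.card_image_of_injOn (fun s hs s' hs' => hinj s (Finset.mem_powerset.1 hs) s'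
    (Finset.mem_powerset.1 hs')), Finset.card_powerset] at hbound
  have hS₀ : S₀.card = n - 1 := by
    rw [Finset.card_erase_of_mem ((Set.Finite.mem_toFinset _).2 hxL)]
    rw [← Set.ncard_eq_toFinset_card]
  obtain ⟨k, hk⟩ := h.exists_sdiff_two_pow hV hx hy
  rw [Set.ncard_sdiff_singleton_of_mem hxL] at hk
  obtain ⟨v, hv, hvx, hvy⟩ := line_ne hV hx hy
  have h3 : 2 < n := by
    show 2 < L.ncard
    have := Set.ncard_le_ncard (s := {x, y, v}) (t := L) (by
      rintro _ (rfl | rfl | rfl) <;> assumption) (Set.toFinite _)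
    rw [Set.ncard_eq_three.2 ⟨x, y, v, Ne.symm hy.2.1, Ne.symm hvx, Ne.symm hvy, rfl⟩] at this
    omega
  rw [hS₀] at hbound
  change n - 1 = 2 ^ k at hk
  have hk3 : k ≤ 2 := by
    by_contra hk3
    have hbig : ∀ q, 8 ≤ q → 2 * (2 * q) < 2 ^ q := by
      intro q hq
      induction q, hq using Nat.le_induction with
      | base => norm_num
      | succ q hq ih => rw [pow_succ]; omega
    have h8 : 8 ≤ n - 1 := by
      rw [hk]; calc 8 = 2 ^ 3 := by norm_num
        _ ≤ 2 ^ k := Nat.pow_le_pow_right (by norm_num) (by omega)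
    exact absurd hbound (not_le.2 (hbig _ h8))
  interval_cases k <;> omega

end IsFischerPair

end Cfsg.Agent.Lib.SporFischer
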