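import Cfsg.Agent.Lib.SporFischer.Basic
import Cfsg.Agent.Lib.SporFischer.Graph
import Cfsg.Agent.Lib.Spectrum.CoxeterSym
import Cfsg.Agent.Lib.ThreeTranspositions.OddMain

/-!
A Fischer group in which two non-commuting members of some `D_x` have the same commuting partners in `D_x`
is the symmetric group of degree five.

For such a pair `y, w` the partners `A` of `x` in `D_y` and `B` of `y` in `D_x` cannot commute pointwise:
the reversal of a chain of four members would make `w` commute with a non-member of `D_w`.  A member of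
`A` moved to a common commuting member of `x` and `y` then gives a contradiction, so there is none, and
the commuting graph is triangle-free and strongly regular with parameters powers of three.
-/

set_option autoImplicit false
set_option linter.style.haveILetI false

open Cfsg Cfsg.Agent.Lib.ThreeTranspositions Cfsg.Agent.Lib.RankThree

namespace Cfsg.Agent.Lib.SporFischer

universe u

variable {G : Type u} [Group G] {D : Set G}

/-- A set of pairwise non-commuting members closed under third points has a power of three elements. -/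
theorem exists_ncard_three_pow [Finite G] (hC : IsClosedSet D) {S : Set G} (hS : S ⊆ D)
    (hnc : ∀ a ∈ S, ∀ b ∈ S, a ≠ b → ¬ Commute a b) (hcl : ∀ a ∈ S, ∀ b ∈ S, a * b * a ∈ S)
    {a : G} (ha : a ∈ S) : ∃ i : ℕ, S.ncard = 3 ^ i := by
  let K : Subgroup G := Subgroup.closure S
  have hinv : ∀ g ∈ K, ∀ b ∈ S, g * b * g⁻¹ ∈ S := by
    intro g hg
    induction hg using Subgroup.closure_induction_left with
    | one => simp
    | mul_left e he y _ ih =>
      intro b hb
      have := hcl e he _ (ih b hb)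
      rw [← conj_eq hC.1 (hS he)] at this
      rwa [show e * y * b * (e * y)⁻¹ = e * (y * b * y⁻¹) * e⁻¹ by group]
    | inv_mul_cancel e he y _ ih =>
      intro b hb
      have := hcl e he _ (ih b hb)
      rw [← conj_eq hC.1 (hS he)] at this
      rw [inv_eq hC.1 (hS he)]
      rwa [show e * y * b * (e * y)⁻¹ = e * (y * b * y⁻¹) * e⁻¹ by group]
  let S' : Set K := {g | (g : G) ∈ S}
  have hbr : ∀ p ∈ S', ∀ q ∈ S', p * q * p = q * p * q := by
    intro p hp q hq
    apply Subtype.ext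
    by_cases h : (p : G) = q
    · simp [h]
    · exact braid hC.1 (hS hp) (hS hq) (hnc _ hp _ hq h)
  haveI : Fact (Nat.Prime 3) := ⟨Nat.prime_three⟩
  let P : Subgroup G := (pCore 3 K).map K.subtype
  have hP : IsPGroup 3 P := (Cores.pCore_isPGroup 3).map _
  have hmem : ∀ b ∈ S, a * b ∈ P := by
    intro b hb
    obtain ⟨N, hn, hp, hN⟩ := RankThree.Width.exists_normal_three S' hbr
      (fun p hp => Subtype.ext (mul_self hC.1 (hS hp))) (fun g p hp => hinv g g.2 p hp)
      (a := ⟨a, Subgroup.subset_closure ha⟩) (b := ⟨b, Subgroup.subset_closure hb⟩) ha hb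
    exact ⟨_, (le_sSup ⟨hn, hp⟩ : N ≤ pCore 3 K) hN, rfl⟩
  have himg : (fun g => g * a * g⁻¹) '' (P : Set G) = S := by
    apply Set.Subset.antisymm
    · rintro _ ⟨g, hg, rfl⟩
      exact hinv g (Subgroup.map_subtype_le _ hg) a ha
    · intro b hb
      refine ⟨a * b, hmem b hb, ?_⟩
      show a * b * a * (a * b)⁻¹ = b
      by_cases h : a = b
      · rw [h]; group
      · have hb' := braid hC.1 (hS ha) (hS hb) (hnc a ha b hb h)
        rw [hb']; group
  rw [← himg, ncard_conj_orbit]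
  obtain ⟨n, hn⟩ := IsPGroup.iff_card.1 hP
  obtain ⟨i, -, hi⟩ := (Nat.dvd_prime_pow Nat.prime_three).1
    (hn ▸ Subgroup.relIndex_dvd_card (Subgroup.centralizer ({a} : Set G)) P)
  exact ⟨i, hi⟩

/-- `y` and `w` are non-commuting members of `D_x` with the same commuting partners there. -/
def WRel (D : Set G) (x y w : G) : Prop :=
  y ∈ comSet D x ∧ w ∈ comSet D x ∧ ¬ Commute y w ∧ comSet D x ∩ comSet D y = comSet D x ∩ comSet D w

namespace IsFischerPair

variable [Finite G]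

theorem comSet_conj (h : IsFischerPair D) (g : G) {x y : G} (hy : y ∈ comSet D x) :
    g * y * g⁻¹ ∈ comSet D (g * x * g⁻¹) := by
  rw [← comSet_image h.closed]; exact Set.mem_image_of_mem _ hy

theorem wRel_conj (h : IsFischerPair D) (g : G) {x y w : G} (hr : WRel D x y w) :
    WRel D (g * x * g⁻¹) (g * y * g⁻¹) (g * w * g⁻¹) := by
  refine ⟨h.comSet_conj g hr.1, h.comSet_conj g hr.2.1,
    fun hc => hr.2.2.1 ((conj_commute_iff g y w).1 hc), ?_⟩
  rw [← comSet_image h.closed, ← comSet_image h.closed, ← comSet_image h.closed,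
    ← Set.image_inter (conj_inj' g), ← Set.image_inter (conj_inj' g), hr.2.2.2]

theorem inter_ncard (h : IsFischerPair D) {x y u v : G} (hx : x ∈ D) (hy : y ∈ comSet D x) (hu : u ∈ D)
    (hv : v ∈ comSet D u) : (comSet D x ∩ comSet D y).ncard = (comSet D u ∩ comSet D v).ncard := by
  obtain ⟨g, rfl, rfl⟩ := h.com hx hy.1 hu hv.1 hy.2.1 hv.2.1 hy.2.2 hv.2.2
  rw [← comSet_image h.closed, ← comSet_image h.closed, ← Set.image_inter (conj_inj' g),
    Set.ncard_image_of_injective _ (conj_inj' g)]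

omit [Finite G] in
theorem mem_comSet_symm {x y : G} (hx : x ∈ D) (hy : y ∈ comSet D x) : x ∈ comSet D y :=
  ⟨hx, Ne.symm hy.2.1, hy.2.2.symm⟩

theorem wset_ncard (h : IsFischerPair D) {x y u v : G} (hx : x ∈ D) (hy : y ∈ comSet D x) (hu : u ∈ D)
    (hv : v ∈ comSet D u) : {w | WRel D x y w}.ncard = {w | WRel D u v w}.ncard := by
  obtain ⟨g, rfl, rfl⟩ := h.com hx hy.1 hu hv.1 hy.2.1 hv.2.1 hy.2.2 hv.2.2
  refine ((Set.ncard_image_of_injective _ (conj_inj' g)).symm.trans ?_)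
  congr 1
  ext w
  constructor
  · rintro ⟨z, hz, rfl⟩; exact h.wRel_conj g hz
  · intro hw
    refine ⟨g⁻¹ * w * g⁻¹⁻¹, ?_, by group⟩
    have := h.wRel_conj g⁻¹ hw
    rwa [show g⁻¹ * (g * x * g⁻¹) * g⁻¹⁻¹ = x by group,
      show g⁻¹ * (g * y * g⁻¹) * g⁻¹⁻¹ = y by group] at this

/-- A chain of length four reverses. -/
theorem exists_reverse (h : IsFischerPair D) {y w f x : G} (hy : y ∈ D) (hw : w ∈ D) (hf : f ∈ D)
    (hx : x ∈ D) (h01 : ¬ Commute y w) (h12 : ¬ Commute w f) (h23 : ¬ Commute f x) (h02 : Commute y f)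
    (h03 : Commute y x) (h13 : Commute w x) :
    ∃ φ : Equiv.Perm (Fin 5) →* G, φ (Equiv.swap 0 1) = y ∧ φ (Equiv.swap 1 2) = w ∧
      φ (Equiv.swap 2 3) = f ∧ φ (Equiv.swap 3 4) = x := by
  have hS := h.closed.1
  let s : ℕ → G := fun i => if i = 0 then y else if i = 1 then w else if i = 2 then f else x
  obtain ⟨φ, hφ, -⟩ := Spectrum.CoxeterSym.exists_lift (n := 4) (s := s) (by
    refine ⟨fun i hi => ?_, fun i hi => ?_, fun i j hij hj => ?_⟩
    · interval_cases i <;> simp only [s] <;> norm_num <;>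
        first | exact mul_self hS hy | exact mul_self hS hw | exact mul_self hS hf | exact mul_self hS hx
    · have hi' : i < 3 := by omega
      interval_cases i <;> simp only [s] <;> norm_num <;>
        first | exact braid hS hy hw h01 | exact braid hS hw hf h12 | exact braid hS hf hx h23
    · have hi' : i < 2 := by omega
      have hj' : 2 ≤ j := by omega
      interval_cases j <;> interval_cases i <;> simp only [s] <;> norm_num <;>
        first | exact h02.eq | exact h03.eq | exact h13.eq | (exfalso; omega))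
  exact ⟨φ, hφ 0, hφ 1, hφ 2, hφ 3⟩

/-- The two partner sets of a pair do not commute pointwise. -/
theorem exists_wPair_adj (h : IsFischerPair D)
    (hW : ∀ u ∈ D, ∀ v ∈ comSet D u, ∃ v', WRel D u v v') {x y : G} (hx : x ∈ D) (hy : y ∈ comSet D x) :
    ∃ e w, WRel D y x e ∧ WRel D x y w ∧ ¬ Commute e w := by
  by_contra hno
  push Not at hno
  have hxy := mem_comSet_symm hx hy
  obtain ⟨w, hw⟩ := hW x hx y hy
  have hwy : w ≠ y := fun e => hw.2.2.1 (e ▸ Commute.refl w)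
  have hxw := mem_comSet_symm hx hw.2.1
  have hsub : {e | WRel D y x e} ⊆ {e | WRel D w x e} := by
    intro e he
    have hew : e ∈ comSet D w :=
      ⟨he.2.1.1, fun e' => hw.2.2.1 (e' ▸ he.2.1.2.2), (hno e w he hw).symm⟩
    refine ⟨hxw, hew, he.2.2.1, ?_⟩
    refine Set.eq_of_subset_of_ncard_le (fun d hd => ⟨hd.1, ?_⟩) ?_ (Set.toFinite _)
    · have : d ∈ comSet D x ∩ comSet D y := by rw [hw.2.2.2]; exact ⟨hd.2, hd.1⟩
      rw [Set.inter_comm, he.2.2.2] at this
      exact this.2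
    · exact (h.inter_ncard hw.2.1.1 hew hw.2.1.1 hxw).le
  have heq := Set.eq_of_subset_of_ncard_le hsub (h.wset_ncard hw.2.1.1 hxw hy.1 hxy).le (Set.toFinite _)
  obtain ⟨f, hf, hfw⟩ : ∃ f ∈ comSet D y, ¬ Commute w f := by
    by_contra h'
    push Not at h'
    refine hwy (eq_of_comSet h.cls h.modules h.width hy.1 hw.2.1.1 ?_).symm
    refine Set.eq_of_subset_of_ncard_le (fun f hf => ⟨hf.1, fun e => hw.2.2.1 (e ▸ hf.2.2), h' f hf⟩) ?_
      (Set.toFinite _)
    exact (comSet_ncard h.cls hw.2.1.1 hy.1).le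
  have hfx : ¬ Commute f x := by
    intro hc
    have hne : f ≠ x := fun e => hfw (e ▸ hxw.2.2)
    have : f ∈ comSet D x ∩ comSet D y := ⟨⟨hf.1, hne, hc.symm⟩, hf⟩
    rw [hw.2.2.2] at this
    exact hfw this.2.2.2
  obtain ⟨φ, e0, e1, e2, e3⟩ := h.exists_reverse hy.1 hw.2.1.1 hf.1 hx hw.2.2.1 hfw hfx hf.2.2
    hy.2.2.symm hw.2.1.2.2.symm
  set π : Equiv.Perm (Fin 5) := Equiv.swap 0 4 * Equiv.swap 1 3
  have key : ∀ σ τ : Equiv.Perm (Fin 5), π * σ * π⁻¹ = τ → φ π * φ σ * (φ π)⁻¹ = φ τ := by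
    intro σ τ e; rw [← map_inv, ← map_mul, ← map_mul, e]
  have k0 := key (Equiv.swap 0 1) (Equiv.swap 3 4) (by decide +kernel)
  have k1 := key (Equiv.swap 1 2) (Equiv.swap 2 3) (by decide +kernel)
  have k3 := key (Equiv.swap 3 4) (Equiv.swap 0 1) (by decide +kernel)
  rw [e0, e3] at k0
  rw [e1, e2] at k1
  rw [e3, e0] at k3
  set g := φ π
  have h1 : WRel D (g⁻¹ * x * g⁻¹⁻¹) (g⁻¹ * y * g⁻¹⁻¹) (g⁻¹ * w * g⁻¹⁻¹) := h.wRel_conj g⁻¹ hw
  rw [show g⁻¹ * x * g⁻¹⁻¹ = y by rw [← k0]; group, show g⁻¹ * y * g⁻¹⁻¹ = x by rw [← k3]; group] at h1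
  have h2 : WRel D w x (g⁻¹ * w * g⁻¹⁻¹) := (Set.ext_iff.1 heq _).1 h1
  have h3 := h.wRel_conj g h2
  rw [k1, k3, show g * (g⁻¹ * w * g⁻¹⁻¹) * g⁻¹ = w by group] at h3
  exact hfw h3.2.1.2.2.symm

/-- Commuting members have no common commuting partner. -/
theorem no_common (h : IsFischerPair D) (hW : ∀ u ∈ D, ∀ v ∈ comSet D u, ∃ v', WRel D u v v')
    {x y c : G} (hx : x ∈ D) (hy : y ∈ comSet D x) (hc : c ∈ comSet D x) : c ∉ comSet D y := by
  intro hcy
  obtain ⟨e, w, he, hw, hew⟩ := h.exists_wPair_adj hW hx hy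
  obtain ⟨x', c', hx', hc', hxc'⟩ := h.exists_wPair_adj hW hx hc
  have hcw : c ∈ comSet D w := by
    have : c ∈ comSet D x ∩ comSet D y := ⟨hc, hcy⟩
    rw [hw.2.2.2] at this
    exact this.2
  have hx'y : y ∈ comSet D x' := by
    have : y ∈ comSet D c ∩ comSet D x := ⟨mem_comSet_symm hy.1 hcy, hy⟩
    rw [hx'.2.2.2] at this
    exact this.2
  have hx'w : w ∈ comSet D x' := by
    have : w ∈ comSet D c ∩ comSet D x := ⟨mem_comSet_symm hw.2.1.1 hcw, hw.2.1⟩
    rw [hx'.2.2.2] at this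
    exact this.2
  have hc'y : y ∈ comSet D c' := by
    have : y ∈ comSet D x ∩ comSet D c := ⟨hy, mem_comSet_symm hy.1 hcy⟩
    rw [hc'.2.2.2] at this
    exact this.2
  have hc'w : w ∈ comSet D c' := by
    have : w ∈ comSet D x ∩ comSet D c := ⟨hw.2.1, mem_comSet_symm hw.2.1.1 hcw⟩
    rw [hc'.2.2.2] at this
    exact this.2
  have hS := h.closed.1
  have hmove : ∀ a b : G, a ∈ D → b ∈ D → ¬ Commute a b → a * b * a * (a * b)⁻¹ = b := by
    intro a b ha hb hab
    rw [braid hS ha hb hab]; group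
  set g := x' * c' * (x * x') with hg
  have hgx : g * x * g⁻¹ = c' := by
    calc g * x * g⁻¹ = x' * c' * (x * x' * x * (x * x')⁻¹) * (x' * c')⁻¹ := by rw [hg]; group
      _ = c' := by rw [hmove x x' hx hx'.2.1.1 hx'.2.2.1, hmove x' c' hx'.2.1.1 hc'.2.1.1 hxc']
  have hgy : g * y * g⁻¹ = y := mul_inv_eq_iff_eq_mul.2
    ((hx'y.2.2.mul_left hc'y.2.2).mul_left (hy.2.2.mul_left hx'y.2.2)).eq
  have hgw : g * w * g⁻¹ = w := mul_inv_eq_iff_eq_mul.2
    ((hx'w.2.2.mul_left hc'w.2.2).mul_left (hw.2.1.2.2.mul_left hx'w.2.2)).eq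
  have hz := h.wRel_conj g he
  rw [hgy, hgx] at hz
  set z := g * e * g⁻¹
  have hzw : ¬ Commute z w := by rw [← hgw, conj_commute_iff]; exact hew
  have h1 : x ∈ comSet D y ∩ comSet D c' := ⟨mem_comSet_symm hx hy, mem_comSet_symm hx hc'.2.1⟩
  rw [hz.2.2.2] at h1
  have h2 : z ∈ comSet D x ∩ comSet D y := ⟨mem_comSet_symm hz.2.1.1 h1.2, hz.2.1⟩
  rw [hw.2.2.2] at h2
  exact hzw h2.2.2.2.symm

/-- The group is the symmetric group of degree five. -/
theorem sym_five_of_wRel (h : IsFischerPair D) {x₀ y₀ w₀ : G} (hx₀ : x₀ ∈ D) (hw₀ : WRel D x₀ y₀ w₀) :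
    Nonempty (G ≃* Equiv.Perm (Fin 5)) := by
  classical
  have hC := h.closed
  have hS := hC.1
  have hW : ∀ u ∈ D, ∀ v ∈ comSet D u, ∃ v', WRel D u v v' := by
    intro u hu v hv
    obtain ⟨g, rfl, rfl⟩ := h.com hx₀ hw₀.1.1 hu hv.1 hw₀.1.2.1 hv.2.1 hw₀.1.2.2 hv.2.2
    exact ⟨_, h.wRel_conj g hw₀⟩
  have hnc : ∀ u ∈ D, ∀ a ∈ comSet D u, ∀ b ∈ comSet D u, a ≠ b → ¬ Commute a b := by
    intro u hu a ha b hb hab hc
    exact h.no_common hW hu ha hb ⟨hb.1, Ne.symm hab, hc⟩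
  have hcl : ∀ u ∈ D, ∀ a ∈ comSet D u, ∀ b ∈ comSet D u, a * b * a ∈ comSet D u := by
    intro u hu a ha b hb
    have h1 := h.comSet_conj a hb
    have hu' : a * u * a⁻¹ = u := mul_inv_eq_iff_eq_mul.2 ha.2.2.symm.eq
    rwa [hu', conj_eq hS ha.1] at h1
  obtain ⟨j, hj⟩ := exists_ncard_three_pow hC (fun a ha => ha.1) (hnc x₀ hx₀) (hcl x₀ hx₀) hw₀.1
  -- an adjacent pair
  set μ := (comSet D y₀ ∩ comSet D w₀).ncard with hμdef
  obtain ⟨i, hi⟩ := exists_ncard_three_pow hC (S := comSet D y₀ ∩ comSet D w₀) (fun a ha => ha.1.1)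
    (fun a ha b hb => hnc y₀ hw₀.1.1 a ha.1 b hb.1)
    (fun a ha b hb => ⟨hcl y₀ hw₀.1.1 a ha.1 b hb.1, hcl w₀ hw₀.2.1.1 a ha.2 b hb.2⟩)
    (a := x₀) ⟨mem_comSet_symm hx₀ hw₀.1, mem_comSet_symm hx₀ hw₀.2.1⟩
  have hk3 : 3 ≤ (comSet D x₀).ncard := by
    have hne : y₀ ≠ w₀ := ne_of_not_commute hw₀.2.2.1
    refine le_trans (Nat.le_of_eq ?_) (Set.ncard_le_ncard (s := {y₀, w₀, y₀ * w₀ * y₀}) ?_ (Set.toFinite _))
    · rw [Set.ncard_eq_three.2 ⟨y₀, w₀, y₀ * w₀ * y₀, hne, ?_, ?_, rfl⟩]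
      · exact fun e => third_ne_left hC hw₀.1.1 hw₀.2.1.1 hw₀.2.2.1 e.symm
      · exact fun e => third_ne_right hC hw₀.1.1 hw₀.2.1.1 hw₀.2.2.1 e.symm
    · rintro _ (rfl | rfl | rfl)
      · exact hw₀.1
      · exact hw₀.2.1
      · exact hcl x₀ hx₀ _ hw₀.1 _ hw₀.2.1
  have hdeg : ∀ u ∈ D, (comSet D u).ncard = 3 ^ j := fun u hu => (comSet_ncard h.cls hu hx₀).trans hj
  have hij : i < j := by
    by_contra hle
    have h1 : (comSet D y₀).ncard ≤ (comSet D y₀ ∩ comSet D w₀).ncard := by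
      rw [hdeg y₀ hw₀.1.1, hi]; exact Nat.pow_le_pow_right (by norm_num) (by omega)
    have h2 := Set.eq_of_subset_of_ncard_le Set.inter_subset_left h1 (Set.toFinite _)
    have h3 : comSet D y₀ = comSet D w₀ := Set.eq_of_subset_of_ncard_le
      (fun a ha => (h2.symm ▸ ha : a ∈ comSet D y₀ ∩ comSet D w₀).2)
      (comSet_ncard h.cls hw₀.2.1.1 hw₀.1.1).le (Set.toFinite _)
    exact ne_of_not_commute hw₀.2.2.1 (eq_of_comSet h.cls h.modules h.width hw₀.1.1 hw₀.2.1.1 h3)
  haveI : Fintype D := Fintype.ofFinite D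
  let R : D → D → Prop := fun a b => (b : G) ∈ comSet D (a : G)
  have hcount : ∀ a : D, {b | R a b}.ncard = (comSet D (a : G)).ncard := fun a => by
    rw [← Set.ncard_image_of_injective _ Subtype.val_injective]
    congr 1
    ext z
    exact ⟨fun ⟨b, hb, e⟩ => e ▸ hb, fun hz => ⟨⟨z, hz.1⟩, hz, rfl⟩⟩
  have hmu : ∀ a b : D, a ≠ b → ¬ R a b → {c | R a c ∧ R b c}.ncard = 3 ^ i := by
    intro a b hab hr
    have hadj : ¬ Commute (a : G) b := fun hc => hr ⟨b.2, fun e => hab (Subtype.ext e.symm), hc⟩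
    obtain ⟨g, ha, hb⟩ := h.adj hw₀.1.1 hw₀.2.1.1 a.2 b.2 hw₀.2.2.1 hadj
    rw [← hi, ← Set.ncard_image_of_injective _ Subtype.val_injective]
    refine Eq.trans ?_ (Set.ncard_image_of_injective _ (conj_inj' g))
    congr 1
    rw [Set.image_inter (conj_inj' g), comSet_image hC, comSet_image hC, ha, hb]
    ext z
    exact ⟨fun ⟨c, hc, e⟩ => e ▸ ⟨hc.1, hc.2⟩, fun hz => ⟨⟨z, hz.1.1⟩, hz, rfl⟩⟩
  obtain ⟨rfl, rfl⟩ := Graph.petersen_parameters hij
    (Graph.isSquare_discr R (fun {a b} hr => mem_comSet_symm a.2 hr) (fun a hr => hr.2.1 rfl)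
      (k := 3 ^ j) (μ := 3 ^ i) (hj ▸ hk3) (Nat.one_le_pow _ _ (by norm_num))
      (Nat.pow_le_pow_right (by norm_num) hij.le) (fun a => (hcount a).trans (hdeg a a.2))
      (fun a b hab c hac hbc => h.no_common hW a.2 hab hac hbc) hmu ⟨⟨x₀, hx₀⟩⟩)
  -- ten members
  have hk : (comSet D x₀).ncard = 3 := by rw [hj, pow_one]
  have hmu1 : ∀ a ∈ D, ∀ b ∈ D, ¬ Commute a b → (comSet D a ∩ comSet D b).ncard = 1 := by
    intro a ha b hb hab
    obtain ⟨g, rfl, rfl⟩ := h.adj hw₀.1.1 hw₀.2.1.1 ha hb hw₀.2.2.1 hab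
    rw [← comSet_image hC, ← comSet_image hC, ← Set.image_inter (conj_inj' g),
      Set.ncard_image_of_injective _ (conj_inj' g), hi, pow_zero]
  have hD10 : D.ncard ≤ 10 := by
    let F := (Set.toFinite D).toFinset
    let A := (Set.toFinite (adjSet D x₀)).toFinset
    let C := (Set.toFinite (comSet D x₀)).toFinset
    have hA : A.card * 1 ≤ C.card * 2 := by
      refine Finset.card_mul_le_card_mul (fun a c => c ∈ comSet D a) (fun a ha => ?_) (fun c hc => ?_)
      · rw [Set.Finite.mem_toFinset] at ha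
        have h1 := hmu1 x₀ hx₀ a ha.1 ha.2
        rw [← h1, ← Set.ncard_coe_finset]
        refine Set.ncard_le_ncard (fun c hc => ?_) (Set.toFinite _)
        simp only [Finset.coe_bipartiteAbove, C, Set.Finite.mem_toFinset]
        exact hc
      · rw [Set.Finite.mem_toFinset] at hc
        have h1 : (comSet D c).ncard = 3 := (comSet_ncard h.cls hc.1 hx₀).trans hk
        rw [← Set.ncard_coe_finset]
        refine (Set.ncard_le_ncard (t := comSet D c \ {x₀}) (fun a ha => ?_) (Set.toFinite _)).trans ?_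
        · simp only [Finset.coe_bipartiteBelow, A, Set.Finite.mem_toFinset, Set.mem_setOf_eq] at ha
          exact ⟨mem_comSet_symm ha.1.1 ha.2, fun e => ha.1.2 (e ▸ Commute.refl x₀)⟩
        · rw [Set.ncard_sdiff_singleton_of_mem (mem_comSet_symm hx₀ hc), h1]
    have hAn : (adjSet D x₀).ncard ≤ 6 := by
      rw [Set.ncard_eq_toFinset_card _ (Set.toFinite _)]
      rw [Set.ncard_eq_toFinset_card _ (Set.toFinite _)] at hk
      show A.card ≤ 6
      have : C.card = 3 := hk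
      omega
    have hsub : D ⊆ insert x₀ (comSet D x₀ ∪ adjSet D x₀) := by
      intro a ha
      by_cases hc : Commute x₀ a
      · by_cases he : a = x₀
        · exact Or.inl he
        · exact Or.inr (Or.inl ⟨ha, he, hc⟩)
      · exact Or.inr (Or.inr ⟨ha, hc⟩)
    refine (Set.ncard_le_ncard hsub (Set.toFinite _)).trans ((Set.ncard_insert_le _ _).trans ?_)
    have := Set.ncard_union_le (comSet D x₀) (adjSet D x₀)
    omega
  -- the chain
  have hw₀y : y₀ ∈ comSet D x₀ := hw₀.1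
  obtain ⟨f, hf, hfw⟩ : ∃ f ∈ comSet D y₀, ¬ Commute w₀ f := by
    by_contra h'
    push Not at h'
    refine ne_of_not_commute hw₀.2.2.1 (eq_of_comSet h.cls h.modules h.width hw₀.1.1 hw₀.2.1.1 ?_)
    refine Set.eq_of_subset_of_ncard_le (fun f hf => ⟨hf.1, fun e => hw₀.2.2.1 (e ▸ hf.2.2), h' f hf⟩) ?_
      (Set.toFinite _)
    exact (comSet_ncard h.cls hw₀.2.1.1 hw₀.1.1).le
  have hfx : ¬ Commute f x₀ := fun hc => h.no_common hW hx₀ hw₀.1
    ⟨hf.1, fun e => hfw (e ▸ hw₀.2.1.2.2.symm), hc.symm⟩ hf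
  obtain ⟨φ, e0, e1, -, -⟩ := h.exists_reverse hw₀.1.1 hw₀.2.1.1 hf.1 hx₀ hw₀.2.2.1 hfw hfx hf.2.2
    hw₀.1.2.2.symm hw₀.2.1.2.2.symm
  have hinj : Function.Injective φ := by
    rw [← MonoidHom.ker_eq_bot_iff]
    by_contra hne
    haveI : Nontrivial φ.ker := (Subgroup.nontrivial_iff_ne_bot _).2 hne
    have hle := Equiv.Perm.alternatingGroup_le_of_normal (α := Fin 5) (by simp) (N := φ.ker) inferInstance
    have hm : Equiv.swap (0 : Fin 5) 1 * Equiv.swap 1 2 ∈ alternatingGroup (Fin 5) :=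
      Equiv.Perm.mem_alternatingGroup.2 (by simp)
    have h1 : φ (Equiv.swap (0 : Fin 5) 1 * Equiv.swap 1 2) = 1 := MonoidHom.mem_ker.1 (hle hm)
    rw [map_mul, e0, e1] at h1
    exact ne_of_not_commute hw₀.2.2.1 ((eq_inv_of_mul_eq_one_left h1).trans (inv_eq hS hw₀.2.1.1))
  have hswapD : ∀ σ : Equiv.Perm (Fin 5), σ.IsSwap → φ σ ∈ D := by
    rintro σ hσ
    obtain ⟨g, rfl⟩ : ∃ g, g * Equiv.swap (0 : Fin 5) 1 * g⁻¹ = σ := by
      obtain ⟨a, b, hab, rfl⟩ := hσ
      exact isConj_iff.1 (Equiv.Perm.isConj_swap (by decide) hab)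
    rw [map_mul, map_mul, map_inv, e0]
    exact hC.2 _ _ hw₀.1.1
  have himage : φ '' {σ | σ.IsSwap} = D := by
    refine Set.eq_of_subset_of_ncard_le (by rintro _ ⟨σ, hσ, rfl⟩; exact hswapD σ hσ) ?_ (Set.toFinite _)
    rw [Set.ncard_image_of_injective _ hinj]
    refine hD10.trans ?_
    rw [Set.ncard_eq_toFinset_card']
    have : (Finset.univ.filter fun σ : Equiv.Perm (Fin 5) => σ.support.card = 2).card = 10 := by decide +kernel
    refine this.ge.trans (le_of_eq ?_)
    congr 1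
    ext σ
    simp [Equiv.Perm.card_support_eq_two]
  have hsurj : Function.Surjective φ := by
    rw [← MonoidHom.range_eq_top, eq_top_iff, ← h.cls.2.2, Subgroup.closure_le]
    intro d hd
    obtain ⟨σ, -, rfl⟩ := himage.symm.subset hd
    exact ⟨σ, rfl⟩
  exact ⟨(MulEquiv.ofBijective φ ⟨hinj, hsurj⟩).symm⟩

end IsFischerPair

/-- An odd normal subgroup which is not central moves some member to a partner with the same perp. -/
theorem exists_wRel_of_oddCore [Finite G] (h : IsFischerPair D) {x : G} (hx : x ∈ D)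
    (hN : ¬ oddCore ↥(Subgroup.closure (comSet D x)) ≤ Subgroup.center ↥(Subgroup.closure (comSet D x))) :
    ∃ y w, WRel D x y w := by
  have hC := h.closed
  have hS := hC.1
  set H := Subgroup.closure (comSet D x)
  set N := oddCore ↥H
  have hcop : (Nat.card N).Coprime 2 := PSolvable.card_pPrimeCore_coprime
  obtain ⟨y, hy, n, hn, hne⟩ : ∃ y, ∃ hy : y ∈ comSet D x, ∃ n ∈ N,
      n * (⟨y, Subgroup.subset_closure hy⟩ : H) * n⁻¹ ≠ ⟨y, Subgroup.subset_closure hy⟩ := by
    by_contra hh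
    push Not at hh
    apply hN
    intro n hn
    rw [Subgroup.mem_center_iff]
    intro g
    apply Subtype.ext
    show (g : G) * n = n * g
    suffices ∀ z ∈ H, z * (n : G) = n * z from this g g.2
    intro z₁ hz₁
    induction hz₁ using Subgroup.closure_induction with
    | mem z hz => exact (congrArg Subtype.val (mul_inv_eq_iff_eq_mul.1 (hh z hz n hn))).symm
    | one => simp
    | mul a b _ _ ia ib => exact (Commute.mul_left ia ib).eq
    | inv a _ ia => exact (Commute.inv_left ia).eq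
  let Y : H := ⟨y, Subgroup.subset_closure hy⟩
  let W : H := n * Y * n⁻¹
  let π := QuotientGroup.mk' N
  have hπ : π W = π Y := by
    have : π n = 1 := (QuotientGroup.eq_one_iff n).2 hn
    simp [W, this]
  -- an element of order two in the coset of the trivial element
  have hodd : ∀ a : H, a * a = 1 → π a = 1 → a = 1 := by
    intro a ha hπa
    have haN : a ∈ N := (QuotientGroup.eq_one_iff a).1 hπa
    have h2 : orderOf a ∣ 2 := orderOf_dvd_of_pow_eq_one (by rw [pow_two, ha])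
    have hN' : orderOf a ∣ Nat.card N := by
      rw [← Subgroup.orderOf_mk a haN]; exact orderOf_dvd_natCard _
    exact orderOf_eq_one_iff.1 (Nat.dvd_one.1 (hcop ▸ Nat.dvd_gcd hN' h2))
  have hwx : (W : G) ∈ comSet D x := by
    have h1 := h.comSet_conj (n : G) hy
    have hnx : Commute (n : G) x := by
      suffices ∀ z ∈ H, Commute z x from this n n.2
      intro z₁ hz₁
      induction hz₁ using Subgroup.closure_induction with
      | mem z hz => exact hz.2.2.symm
      | one => exact Commute.one_left x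
      | mul a b _ _ ia ib => exact ia.mul_left ib
      | inv a _ ia => exact ia.inv_left
    rw [hnx.eq, mul_inv_cancel_right] at h1
    exact h1
  have hsq : ∀ a : H, (a : G) ∈ D → a * a = 1 := fun a ha => Subtype.ext (mul_self hS ha)
  have hyw : ¬ Commute y (W : G) := by
    intro hc
    have hcc : Commute Y W := Subtype.ext hc
    have := hodd (Y * W) (by rw [← pow_two, hcc.mul_pow, pow_two, pow_two, hsq Y hy.1, hsq W hwx.1, mul_one])
      (by rw [map_mul, hπ, ← map_mul, hsq Y hy.1, map_one])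
    exact hne ((eq_inv_of_mul_eq_one_right this).trans (inv_eq_of_mul_eq_one_left (hsq Y hy.1)))
  refine ⟨y, W, hy, hwx, hyw, Set.eq_of_subset_of_ncard_le ?_ (h.inter_ncard hx hwx hx hy).le (Set.toFinite _)⟩
  rintro z ⟨hzx, hzy⟩
  refine ⟨hzx, hzy.1, fun e => hyw (e ▸ hzy.2.2), ?_⟩
  by_contra hnc
  let Z : H := ⟨z, Subgroup.subset_closure hzx⟩
  have h2 : π (Z * Y) ^ 2 = 1 := by
    have hcc : Commute Z Y := Subtype.ext hzy.2.2.symm
    rw [← map_pow, hcc.mul_pow, pow_two, pow_two, hsq Z hzx.1, hsq Y hy.1, mul_one, map_one]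
  have h3 : π (Z * Y) ^ 3 = 1 := by
    have e : (Z * W) ^ 3 = 1 := Subtype.ext (cube_eq_one hS hzx.1 hwx.1 fun h' => hnc h'.symm)
    rw [map_mul, ← hπ, ← map_mul, ← map_pow, e, map_one]
  have h1 : π (Z * Y) = 1 := by
    calc π (Z * Y) = π (Z * Y) ^ 3 * (π (Z * Y) ^ 2)⁻¹ := by group
      _ = 1 := by rw [h2, h3]; group
  have hcc : Commute Z Y := Subtype.ext hzy.2.2.symm
  have := hodd (Z * Y) (by rw [← pow_two, hcc.mul_pow, pow_two, pow_two, hsq Z hzx.1, hsq Y hy.1, mul_one]) h1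
  exact hzy.2.1 (congrArg Subtype.val ((eq_inv_of_mul_eq_one_left this).trans
    (inv_eq_of_mul_eq_one_left (hsq Y hy.1))))

end Cfsg.Agent.Lib.SporFischer
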